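import Cfsg.Agent.Lib.Coprime.Basic

/-!
# The odd order theorem as a hypothesis

`OddOrder` is the conclusion of the odd order theorem in one universe. Coprime conjugacy then needs no
solvability assumption.
-/

set_option autoImplicit false

namespace Cfsg.Agent.FTConsumers

open Subgroup
open scoped Pointwise

universe u

/-- Every finite group of odd order in the universe `u` is solvable. -/
def OddOrder : Prop :=
  ∀ (G : Type u) [Group G] [Finite G], Odd (Nat.card G) → Group.IsSolvable G

variable (hFT : OddOrder.{u}) {G : Type u} [Group G] [Finite G]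

include hFT

/-- Of two subgroups of coprime orders one is solvable. -/
theorem solvable_or {A N : Subgroup G} (hcop : (Nat.card A).Coprime (Nat.card N)) :
    Group.IsSolvable N ∨ Group.IsSolvable A := by
  rcases Nat.even_or_odd (Nat.card N) with hN | hN
  · rcases Nat.even_or_odd (Nat.card A) with hA | hA
    · exfalso
      have h2 := Nat.dvd_gcd hA.two_dvd hN.two_dvd
      rw [hcop] at h2
      omega
    · exact Or.inr (hFT A hA)
  · exact Or.inl (hFT N hN)

/-- Schur–Zassenhaus conjugacy. -/
theorem exists_conj_eq_of_le_sup {N H K : Subgroup G} (hH : H ≤ normalizer (N : Set G))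
    (hK : K ≤ H ⊔ N) (hcard : Nat.card K = Nat.card H)
    (hcop : (Nat.card H).Coprime (Nat.card N)) : ∃ g ∈ N, MulAut.conj g • H = K :=
  Coprime.exists_conj_eq_of_le_sup hH hK hcard hcop (solvable_or hFT hcop)

/-- Schur–Zassenhaus in containment form. -/
theorem exists_le_conj_of_le_sup {A N B : Subgroup G} (hAN : A ≤ normalizer (N : Set G))
    (hB : B ≤ A ⊔ N) (hcopA : (Nat.card A).Coprime (Nat.card N))
    (hcopB : (Nat.card B).Coprime (Nat.card N)) : ∃ n ∈ N, B ≤ MulAut.conj n • A :=
  Coprime.exists_le_conj_of_le_sup hAN hB hcopA hcopB (solvable_or hFT hcopA).symm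

end Cfsg.Agent.FTConsumers
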