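import Cfsg.Agent.Lib.FTConsumers.Hyp
import Cfsg.Agent.Lib.Coprime.Sylow
import Cfsg.Agent.Lib.Involution.BaerSuzuki
import Cfsg.Agent.Lib.PCore.Basic

/-!
# Groups without coprime class sizes in any subgroup are solvable, given the odd order theorem

If an element of 2-power order inverts a nontrivial element of odd order, the subgroup they generate
has classes of sizes `2` and `n` (`n` odd).
-/

set_option autoImplicit false
set_option linter.style.haveILetI false

namespace Cfsg.Agent.FTConsumers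

open Subgroup

universe u

/-- In every subgroup two nontrivial class sizes have a common divisor. -/
def NoCoprimeClasses (G : Type*) [Group G] : Prop :=
  ∀ (H : Subgroup G) (x y : H), 1 < (centralizer ({x} : Set H)).index →
    1 < (centralizer ({y} : Set H)).index →
      ¬ ((centralizer ({x} : Set H)).index).Coprime (centralizer ({y} : Set H)).index

section Elementary

variable {G : Type*} [Group G]

theorem not_mem_two_of_odd {x : G} (hx : Odd (orderOf x)) (h : x * x = 1) : x = 1 := by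
  have h1 : orderOf x ∣ 2 := orderOf_dvd_of_pow_eq_one (by rw [pow_two, h])
  rcases (Nat.dvd_prime Nat.prime_two).1 h1 with h2 | h2
  · exact orderOf_eq_one_iff.1 h2
  · rw [h2] at hx; exact absurd hx (by decide)

variable [Finite G]

/-- An involution outside `O_2(G)` inverts a nontrivial element of odd order. -/
theorem exists_inverted_odd {t : G} (ht : orderOf t = 2) (hnot : t ∉ Cfsg.pCore 2 G) :
    ∃ y : G, y ≠ 1 ∧ Odd (orderOf y) ∧ t * y * t⁻¹ = y⁻¹ := by
  haveI : Fact (Nat.Prime 2) := ⟨Nat.prime_two⟩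
  by_contra hcon
  simp only [not_exists, not_and] at hcon
  have htt := Involution.sq_of_orderOf_two ht
  refine hnot (PCore.le_pCore (Involution.baer_suzuki t fun g => ?_)
    (subset_normalClosure (Set.mem_singleton t)))
  have huu : (g * t * g⁻¹) * (g * t * g⁻¹) = 1 := by
    rw [show g * t * g⁻¹ * (g * t * g⁻¹) = g * (t * t) * g⁻¹ by group, htt, mul_one, mul_inv_cancel]
  set z := t * (g * t * g⁻¹) with hz
  obtain ⟨a, m, hm, hzo⟩ := Nat.exists_eq_two_pow_mul_odd (orderOf_pos z).ne'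
  refine Involution.isPGroup_closure_pair (a := a) htt huu ?_
  by_contra hne
  have hord : orderOf (z ^ 2 ^ a) = m := by
    rw [orderOf_pow, hzo, Nat.gcd_eq_right (dvd_mul_right _ _), Nat.mul_div_cancel_left _
      (pow_pos two_pos a)]
  refine hcon _ hne (hord ▸ hm) ?_
  have h1 := Involution.invol_conj_zpow (Involution.invol_conj_mul htt huu) ((2 ^ a : ℕ) : ℤ)
  rw [zpow_natCast, zpow_neg, zpow_natCast] at h1
  exact h1

/-- A 2-element inverting a nontrivial element of odd order gives coprime classes. -/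
theorem not_inverts (h : NoCoprimeClasses G) {t y : G} (ht : ∃ k : ℕ, orderOf t = 2 ^ k)
    (hy : y ≠ 1) (hodd : Odd (orderOf y)) : t * y * t⁻¹ ≠ y⁻¹ := by
  intro hinv
  obtain ⟨k, hk⟩ := ht
  set Y := zpowers y with hY
  set T := zpowers t with hT
  have hTY : T ≤ normalizer (Y : Set G) := by
    rw [hT, zpowers_le]
    refine Coprime.mem_normalizer_of_conj_smul_eq ?_
    show Y.map (MulAut.conj t).toMonoidHom = Y
    rw [hY, MonoidHom.map_zpowers]
    show zpowers (t * y * t⁻¹) = _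
    rw [hinv, zpowers_inv]
  set H := T ⊔ Y with hH
  have hcop : (Nat.card T).Coprime (Nat.card Y) := by
    rw [hT, hY, Nat.card_zpowers, Nat.card_zpowers, hk]
    exact Nat.Coprime.pow_left k (Nat.coprime_two_left.2 hodd)
  have hHc : Nat.card H = Nat.card T * Nat.card Y :=
    Coprime.card_sup_of_le_normalizer hTY (Coprime.disjoint_of_coprime_card hcop)
  have hmem : ∀ x ∈ H, ∃ a ∈ T, ∃ b ∈ Y, x = a * b := fun x hx => by
    obtain ⟨a, ha, b, hb, e⟩ := (Coprime.mem_sup_iff_of_le_normalizer hTY).1 hx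
    exact ⟨a, ha, b, hb, e.symm⟩
  have hy2 : y * y ≠ 1 := fun e => hy (not_mem_two_of_odd hodd e)
  set xy : H := ⟨y, mem_sup_right (mem_zpowers y)⟩ with hxy
  set xt : H := ⟨t, mem_sup_left (mem_zpowers t)⟩ with hxt
  -- the centraliser of `t` in `H` is `T`
  have hCt : centralizer ({xt} : Set H) = T.subgroupOf H := by
    refine le_antisymm (fun x hx => ?_) ?_
    · obtain ⟨a, ha, b, hb, e⟩ := hmem x x.2
      obtain ⟨i, hi⟩ := mem_zpowers_iff.1 ha
      obtain ⟨j, hj⟩ := mem_zpowers_iff.1 hb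
      have h1 : (x : G) * t = t * x := congrArg Subtype.val (mem_centralizer_singleton_iff.1 hx)
      have h2 : Commute t b := by
        have h3 : Commute t a := hi ▸ (Commute.refl t).zpow_right i
        have h4 : Commute t (a * b) := by rw [← e]; exact h1.symm
        have : b = a⁻¹ * (a * b) := by group
        rw [this]
        exact h3.inv_right.mul_right h4
      have h5 : t * b * t⁻¹ = b⁻¹ := by
        rw [← hj, ← conj_zpow, hinv, inv_zpow]
      rw [h2.eq, mul_inv_cancel_right] at h5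
      have h6 : b = 1 := by
        refine not_mem_two_of_odd (hodd.of_dvd_nat ?_) (by nth_rw 2 [h5]; exact mul_inv_cancel b)
        exact (Subgroup.orderOf_dvd_natCard Y hb).trans (dvd_of_eq (Nat.card_zpowers y))
      rw [mem_subgroupOf, e, h6, mul_one]
      exact ha
    · intro x hx
      obtain ⟨i, hi⟩ := mem_zpowers_iff.1 (mem_subgroupOf.1 hx)
      refine mem_centralizer_singleton_iff.2 (Subtype.ext ?_)
      show (x : G) * t = t * x
      rw [← hi]
      exact ((Commute.refl t).zpow_left i).eq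
  have hidxT : (centralizer ({xt} : Set H)).index = orderOf y := by
    rw [hCt]
    refine Nat.eq_of_mul_eq_mul_left (Nat.card_pos (α := T.subgroupOf H)) ?_
    rw [card_mul_index, Coprime.card_subgroupOf (le_sup_left : T ≤ H), hHc, hY, Nat.card_zpowers y]
  have hidxY : (centralizer ({xy} : Set H)).index = 2 := by
    rw [index_eq_two_iff_exists_notMem_and]
    refine ⟨xt, fun hc => ?_, fun x => ?_⟩
    · have h1 : t * y = y * t := congrArg Subtype.val (mem_centralizer_singleton_iff.1 hc)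
      rw [h1, mul_inv_cancel_right] at hinv
      refine hy2 ?_
      nth_rw 2 [hinv]
      exact mul_inv_cancel y
    · have key : ∀ z : H, (z : G) * y * (z : G)⁻¹ = y ∨ (z : G) * y * (z : G)⁻¹ = y⁻¹ := by
        intro z
        obtain ⟨a, ha, b, hb, e⟩ := hmem z z.2
        obtain ⟨i, hi⟩ := mem_zpowers_iff.1 ha
        obtain ⟨j, hj⟩ := mem_zpowers_iff.1 hb
        have hbc : b * y * b⁻¹ = y := by
          rw [← hj, ((Commute.refl y).zpow_left j).eq, mul_inv_cancel_right]
        rw [e, show a * b * y * (a * b)⁻¹ = a * (b * y * b⁻¹) * a⁻¹ by group, hbc, ← hi]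
        clear hi
        induction i using Int.induction_on with
        | zero => left; simp
        | succ i ih =>
          rw [show t ^ ((i : ℤ) + 1) * y * (t ^ ((i : ℤ) + 1))⁻¹ =
            t * (t ^ (i : ℤ) * y * (t ^ (i : ℤ))⁻¹) * t⁻¹ by group]
          rcases ih with ih | ih <;> rw [ih]
          · exact Or.inr hinv
          · left
            rw [show t * y⁻¹ * t⁻¹ = (t * y * t⁻¹)⁻¹ by group, hinv, inv_inv]
        | pred i ih =>
          have hinv' : t⁻¹ * y * t = y⁻¹ := by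
            have h1 : t⁻¹ * (t * y * t⁻¹)⁻¹ * t = y⁻¹ := by group
            rwa [hinv, inv_inv] at h1
          rw [show t ^ (-(i : ℤ) - 1) * y * (t ^ (-(i : ℤ) - 1))⁻¹ =
            t⁻¹ * (t ^ (-(i : ℤ)) * y * (t ^ (-(i : ℤ)))⁻¹) * t by group]
          rcases ih with ih | ih <;> rw [ih]
          · exact Or.inr hinv'
          · left
            rw [show t⁻¹ * y⁻¹ * t = (t⁻¹ * y * t)⁻¹ by group, hinv', inv_inv]
      rcases key x with hx | hx
      · exact Or.inr (mem_centralizer_singleton_iff.2 (Subtype.ext (mul_inv_eq_iff_eq_mul.1 hx)))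
      · left
        refine mem_centralizer_singleton_iff.2 (Subtype.ext (mul_inv_eq_iff_eq_mul.1 ?_))
        show ((x : G) * t) * y * ((x : G) * t)⁻¹ = y
        rw [show (x : G) * t * y * ((x : G) * t)⁻¹ = x * (t * y * t⁻¹) * (x : G)⁻¹ by group, hinv,
          show (x : G) * y⁻¹ * (x : G)⁻¹ = ((x : G) * y * (x : G)⁻¹)⁻¹ by group, hx, inv_inv]
  refine h H xt xy ?_ ?_ ?_
  · rw [hidxT]
    have := orderOf_pos y
    have : orderOf y ≠ 1 := fun e => hy (orderOf_eq_one_iff.1 e)
    omega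
  · omega
  · rw [hidxT, hidxY]
    exact Nat.coprime_two_right.2 hodd

/-- Modulo `O_2`, no involution inverts a nontrivial element of odd order. -/
theorem odd_quotient_pCore (h : NoCoprimeClasses G) : Odd (Nat.card (G ⧸ Cfsg.pCore 2 G)) := by
  haveI : Fact (Nat.Prime 2) := ⟨Nat.prime_two⟩
  by_contra hne
  rw [Nat.not_odd_iff_even] at hne
  obtain ⟨tb, htb⟩ := exists_prime_orderOf_dvd_card' (G := G ⧸ Cfsg.pCore 2 G) 2 hne.two_dvd
  have htb' : tb ∉ Cfsg.pCore 2 (G ⧸ Cfsg.pCore 2 G) := by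
    rw [PCore.pCore_quotient_self_eq_bot, mem_bot]
    exact fun e => by simp [e] at htb
  obtain ⟨yb, hy1, hyodd, hyinv⟩ := exists_inverted_odd htb htb'
  obtain ⟨y₀, rfl⟩ := QuotientGroup.mk'_surjective (Cfsg.pCore 2 G) yb
  obtain ⟨t₀, rfl⟩ := QuotientGroup.mk'_surjective (Cfsg.pCore 2 G) tb
  set O := Cfsg.pCore 2 G with hO
  set π := QuotientGroup.mk' O with hπ
  -- an odd preimage of the image of `y₀`
  obtain ⟨a, m, hm, hyo⟩ := Nat.exists_eq_two_pow_mul_odd (orderOf_pos y₀).ne'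
  obtain ⟨i, hi⟩ := exists_pow_eq_self_of_coprime (x := π y₀) (n := 2 ^ a)
    (Nat.Coprime.pow_left a (Nat.coprime_two_left.2 hyodd))
  set y := (y₀ ^ 2 ^ a) ^ i with hy
  have hπy : π y = π y₀ := by rw [hy, map_pow, map_pow]; exact hi
  have hyodd' : Odd (orderOf y) := by
    refine hm.of_dvd_nat ((orderOf_pow_dvd i).trans (dvd_of_eq ?_))
    rw [orderOf_pow, hyo, Nat.gcd_eq_right (dvd_mul_right _ _),
      Nat.mul_div_cancel_left _ (pow_pos two_pos a)]
  -- `zpowers y` is conjugate to its image under `t₀`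
  set Y := zpowers y with hYdef
  have hcopY : (Nat.card Y).Coprime (Nat.card O) := by
    rw [hYdef, Nat.card_zpowers]
    obtain ⟨e, he⟩ := PCore.exists_card_pCore (G := G) (p := 2)
    rw [hO, he]
    exact Nat.Coprime.pow_right e (Nat.coprime_two_right.2 hyodd')
  have hyinv' : π (t₀ * y * t₀⁻¹) = π y⁻¹ := by
    rw [map_mul, map_mul, map_inv, map_inv, hπy]
    exact hyinv
  have hconj : t₀ * y * t₀⁻¹ ∈ Y ⊔ O := by
    have h1 : y * (t₀ * y * t₀⁻¹) ∈ O := by
      rw [← QuotientGroup.eq_one_iff]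
      show π _ = 1
      rw [map_mul, hyinv', map_inv, mul_inv_cancel]
    simpa using mul_mem (mem_sup_left (inv_mem (mem_zpowers y)) : y⁻¹ ∈ Y ⊔ O)
      (mem_sup_right h1 : _ ∈ Y ⊔ O)
  obtain ⟨o, ho, hle⟩ := Coprime.exists_le_conj_of_le_sup (A := Y) (N := O)
    (B := zpowers (t₀ * y * t₀⁻¹)) (normalizer_eq_top (H := O) ▸ le_top) (zpowers_le.2 hconj)
    hcopY (by
      rw [Nat.card_zpowers, ← MulAut.conj_apply, MulEquiv.orderOf_eq, ← Nat.card_zpowers]
      exact hcopY) (Or.inl inferInstance)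
  have hmem := hle (mem_zpowers (t₀ * y * t₀⁻¹))
  rw [Coprime.mem_conj_smul_iff] at hmem
  set t₁ := o⁻¹ * t₀ with ht₁
  have hπt : π t₁ = π t₀ := by
    rw [ht₁, map_mul, map_inv, show π o = 1 from (QuotientGroup.eq_one_iff o).2 ho, inv_one, one_mul]
  have ht₁y : t₁ * y * t₁⁻¹ = y⁻¹ := by
    have h1 : t₁ * y * t₁⁻¹ ∈ Y := by
      rw [show t₁ * y * t₁⁻¹ = o⁻¹ * (t₀ * y * t₀⁻¹) * o by rw [ht₁]; group]
      exact hmem
    have h2 : y * (t₁ * y * t₁⁻¹) ∈ Y ⊓ O := by
      refine mem_inf.2 ⟨mul_mem (mem_zpowers y) h1, ?_⟩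
      rw [← QuotientGroup.eq_one_iff]
      show π _ = 1
      have e : π (t₁ * y * t₁⁻¹) = π y⁻¹ := by
        rw [← hyinv', map_mul, map_mul, map_inv, hπt, ← map_inv, ← map_mul, ← map_mul]
      rw [map_mul, e, map_inv, mul_inv_cancel]
    rw [Coprime.disjoint_of_coprime_card hcopY, mem_bot] at h2
    exact eq_inv_of_mul_eq_one_right h2
  -- its 2-part
  obtain ⟨k, r, hr, hto⟩ := Nat.exists_eq_two_pow_mul_odd (orderOf_pos t₁).ne'
  refine not_inverts h (t := t₁ ^ r) (y := y) ⟨k, ?_⟩ ?_ hyodd' ?_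
  · rw [orderOf_pow, hto, Nat.gcd_eq_right (dvd_mul_left _ _),
      Nat.mul_div_cancel _ hr.pos]
  · intro e
    apply hy1
    show π y₀ = 1
    rw [← hπy, e, map_one]
  · obtain ⟨j, rfl⟩ := hr
    have h2 : Commute (t₁ * t₁) y := by
      refine mul_inv_eq_iff_eq_mul.1 ?_
      rw [show t₁ * t₁ * y * (t₁ * t₁)⁻¹ = t₁ * (t₁ * y * t₁⁻¹) * t₁⁻¹ by group, ht₁y,
        show t₁ * y⁻¹ * t₁⁻¹ = (t₁ * y * t₁⁻¹)⁻¹ by group, ht₁y, inv_inv]
    rw [pow_succ', pow_mul, pow_two,
      show t₁ * (t₁ * t₁) ^ j * y * (t₁ * (t₁ * t₁) ^ j)⁻¹ =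
        t₁ * ((t₁ * t₁) ^ j * y * ((t₁ * t₁) ^ j)⁻¹) * t₁⁻¹ by group,
      ((h2.pow_left j).eq), mul_inv_cancel_right, ht₁y]

end Elementary

/-- S4159 given the odd order theorem. -/
theorem isSolvable_of_noCoprimeClasses (hFT : OddOrder.{u}) {G : Type u} [Group G] [Finite G]
    (h : NoCoprimeClasses G) : Group.IsSolvable G := by
  haveI : Fact (Nat.Prime 2) := ⟨Nat.prime_two⟩
  haveI := hFT _ (odd_quotient_pCore h)
  haveI := (PCore.isPGroup_pCore (p := 2) (G := G)).isNilpotent
  exact Group.isSolvable_of_ker_le_range (Cfsg.pCore 2 G).subtype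
    (QuotientGroup.mk' (Cfsg.pCore 2 G)) (by rw [QuotientGroup.ker_mk', range_subtype])

end Cfsg.Agent.FTConsumers
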