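import Cfsg.Agent.Lib.Transfer.Alperin
import Cfsg.Agent.Lib.ConjFun.Basic
import Cfsg.Agent.Lib.ZStar.Main
import Cfsg.Agent.Lib.FTConsumers.Hyp
import Mathlib.GroupTheory.Transfer
import Mathlib.GroupTheory.SemidirectProduct

/-!
# Automorphisms centralising a Sylow 2-subgroup (Glauberman)

If `O(G) = 1` and `C` is the group of automorphisms fixing a Sylow 2-subgroup `S` pointwise, then a
Sylow 2-subgroup of `C` is abelian and has a normal complement; `C` is solvable given the odd order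
theorem.

For a centric `E ≤ S` and `x ∈ N(E)`, the `2`-part of `φ x * x⁻¹ ∈ C(E)` is a homomorphism in `φ`
into an abelian `2`-group. An automorphism in all these kernels (`Rigid`) has, if it is an
involution, all fusion in `S` realised in its fixed subgroup; it is then isolated in `G ⋊ ⟨φ⟩`, so it
is trivial by the Z*-theorem.
-/

set_option autoImplicit false
set_option linter.style.haveILetI false

namespace Cfsg.Agent.FTConsumers.AutCentSylow

open Subgroup

universe u

variable {G : Type u} [Group G]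

/-- `E ≤ S` is centric and fully centralised. -/
structure Centric (S : Sylow 2 G) (E : Subgroup G) : Prop where
  le : E ≤ (S : Subgroup G)
  cent : (S : Subgroup G) ⊓ centralizer (E : Set G) ≤ E
  index : ¬ 2 ∣ ((S : Subgroup G) ⊓ centralizer (E : Set G)).relIndex (centralizer (E : Set G))

/-- The automorphisms fixing `S` pointwise. -/
def fixer (S : Sylow 2 G) : Subgroup (MulAut G) where
  carrier := {φ | ∀ s ∈ (S : Subgroup G), φ s = s}
  one_mem' := fun _ _ => rfl
  mul_mem' := fun {a b} ha hb s hs => by rw [MulAut.mul_apply, hb s hs, ha s hs]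
  inv_mem' := fun {a} ha s hs => by
    conv_lhs => rw [← ha s hs]
    exact a.symm_apply_apply s

/-- `φ` moves the normalisers of centric subgroups by odd order elements only. -/
def Rigid (S : Sylow 2 G) (φ : MulAut G) : Prop :=
  ∀ E : Subgroup G, Centric S E → ∀ x ∈ normalizer (E : Set G), Odd (orderOf (φ x * x⁻¹))

section Hom

variable [Finite G] {S : Sylow 2 G} {E : Subgroup G}

theorem map_mul_inv_mem {φ : MulAut G} (hφ : φ ∈ fixer S) (hE : E ≤ (S : Subgroup G)) {x : G}
    (hx : x ∈ normalizer (E : Set G)) : φ x * x⁻¹ ∈ centralizer (E : Set G) := by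
  refine mem_centralizer_iff.2 fun e he => ?_
  have h1 : x⁻¹ * e * x ∈ E := by
    simpa using (mem_normalizer_iff.1 (inv_mem hx) e).1 he
  have h2 : φ (x * (x⁻¹ * e * x) * x⁻¹) = φ x * (x⁻¹ * e * x) * (φ x)⁻¹ := by
    rw [map_mul, map_mul, map_inv, hφ _ (hE h1)]
  rw [show x * (x⁻¹ * e * x) * x⁻¹ = e by group, hφ e (hE he)] at h2
  calc e * (φ x * x⁻¹) = φ x * (x⁻¹ * e * x) * (φ x)⁻¹ * (φ x * x⁻¹) := by rw [← h2]
    _ = φ x * x⁻¹ * e := by group

theorem apply_mem_centralizer {φ : MulAut G} (hφ : φ ∈ fixer S) (hE : E ≤ (S : Subgroup G)) {v : G}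
    (hv : v ∈ centralizer (E : Set G)) : φ v ∈ centralizer (E : Set G) := by
  refine mem_centralizer_iff.2 fun e he => ?_
  have := congrArg φ (mem_centralizer_iff.1 hv e he)
  rwa [map_mul, map_mul, hφ e (hE he)] at this

/-- The Sylow 2-subgroup `S ∩ C(E)` of `C(E)`. -/
noncomputable def centSylow (hE : Centric S E) : Sylow 2 ↥(centralizer (E : Set G)) :=
  haveI : Fact (Nat.Prime 2) := ⟨Nat.prime_two⟩
  ((S.2.to_le (inf_le_left : (S : Subgroup G) ⊓ centralizer (E : Set G) ≤ S)).of_equiv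
    (subgroupOfEquivOfLe inf_le_right).symm).toSylow hE.index

theorem coe_centSylow (hE : Centric S E) :
    (centSylow hE : Subgroup ↥(centralizer (E : Set G))) =
      ((S : Subgroup G) ⊓ centralizer (E : Set G)).subgroupOf (centralizer (E : Set G)) := rfl

theorem normalizer_le_centralizer (hE : Centric S E) :
    normalizer ((centSylow hE : Subgroup ↥(centralizer (E : Set G))) : Set ↥(centralizer (E : Set G))) ≤
      centralizer ((centSylow hE : Subgroup ↥(centralizer (E : Set G))) : Set ↥(centralizer (E : Set G))) := by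
  intro c _
  refine mem_centralizer_iff.2 fun z hz => Subtype.ext ?_
  exact mem_centralizer_iff.1 c.2 _ (hE.cent hz)

theorem exists_ab (hE : Centric S E) {x : G} (hx : x ∈ normalizer (E : Set G)) :
    ∃ θ : ↥(fixer S) →* ↥(centSylow hE : Subgroup ↥(centralizer (E : Set G))),
      (∀ a b : ↥(centSylow hE : Subgroup ↥(centralizer (E : Set G))), a * b = b * a) ∧
      ∀ φ : ↥(fixer S), θ φ = 1 → Odd (orderOf ((φ : MulAut G) x * x⁻¹)) := by
  haveI : Fact (Nat.Prime 2) := ⟨Nat.prime_two⟩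
  set Z := centSylow hE with hZ
  set τ := MonoidHom.transferSylow Z (normalizer_le_centralizer hE) with hτ
  have hodd : ∀ v : ↥(centralizer (E : Set G)), τ v = 1 → Odd (orderOf (v : G)) := by
    intro v hv
    have h1 : orderOf (⟨v, MonoidHom.mem_ker.2 hv⟩ : ↥τ.ker) ∣ Nat.card ↥τ.ker := orderOf_dvd_natCard _
    rw [Subgroup.orderOf_mk] at h1
    rw [Subgroup.orderOf_coe, ← Nat.not_even_iff_odd, even_iff_two_dvd]
    exact fun h2 => MonoidHom.not_dvd_card_ker_transferSylow Z _ (h2.trans h1)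
  have hker : ∀ v : ↥(centralizer (E : Set G)), Odd (orderOf (v : G)) → τ v = 1 := by
    intro v hv
    obtain ⟨k, hk⟩ := IsPGroup.iff_orderOf.1 Z.2 (τ v)
    have h1 : orderOf (τ v) ∣ orderOf v := orderOf_map_dvd τ v
    rw [← orderOf_eq_one_iff]
    rcases Nat.eq_zero_or_pos k with rfl | hk0
    · simpa using hk
    · exfalso
      rw [hk, ← Subgroup.orderOf_coe] at h1
      exact Nat.not_even_iff_odd.2 hv (even_iff_two_dvd.2 ((dvd_pow_self 2 hk0.ne').trans h1))
  have hinv : ∀ (φ : ↥(fixer S)) (v : ↥(centralizer (E : Set G))),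
      τ ⟨(φ : MulAut G) v, apply_mem_centralizer φ.2 hE.le v.2⟩ = τ v := by
    intro φ v
    obtain ⟨⟨⟨o, ho⟩, ⟨z, hz⟩⟩, hoz⟩ :=
      (MonoidHom.ker_transferSylow_isComplement' Z (normalizer_le_centralizer hE)).2 v
    replace hoz : o * z = v := hoz
    subst hoz
    have hφz : (φ : MulAut G) (z : G) = z := φ.2 _ hz.1
    have e : (⟨(φ : MulAut G) ((o * z : ↥(centralizer (E : Set G))) : G),
        apply_mem_centralizer φ.2 hE.le (o * z).2⟩ : ↥(centralizer (E : Set G))) =
        ⟨(φ : MulAut G) o, apply_mem_centralizer φ.2 hE.le o.2⟩ * z := by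
      refine Subtype.ext ?_
      show (φ : MulAut G) ((o : G) * (z : G)) = (φ : MulAut G) (o : G) * (z : G)
      rw [map_mul, hφz]
    have h1 : τ ⟨(φ : MulAut G) o, apply_mem_centralizer φ.2 hE.le o.2⟩ = 1 := hker _ (by
      rw [MulEquiv.orderOf_eq]
      exact hodd o ho)
    rw [e, map_mul, map_mul, h1, MonoidHom.mem_ker.1 ho]
  refine ⟨MonoidHom.mk' (fun φ => τ ⟨(φ : MulAut G) x * x⁻¹, map_mul_inv_mem φ.2 hE.le hx⟩) ?_, ?_, ?_⟩
  · intro a b
    have e : (⟨((a * b : ↥(fixer S)) : MulAut G) x * x⁻¹, map_mul_inv_mem (a * b).2 hE.le hx⟩ :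
        ↥(centralizer (E : Set G))) =
        ⟨(a : MulAut G) ((b : MulAut G) x * x⁻¹),
          apply_mem_centralizer a.2 hE.le (map_mul_inv_mem b.2 hE.le hx)⟩ *
          ⟨(a : MulAut G) x * x⁻¹, map_mul_inv_mem a.2 hE.le hx⟩ := by
      refine Subtype.ext ?_
      show (a : MulAut G) ((b : MulAut G) x) * x⁻¹ =
        (a : MulAut G) ((b : MulAut G) x * x⁻¹) * ((a : MulAut G) x * x⁻¹)
      rw [map_mul, map_inv]
      group
    have hab : ∀ p q : ↥(Z : Subgroup ↥(centralizer (E : Set G))), p * q = q * p := fun p q =>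
      Subtype.ext (mem_centralizer_iff.1 (normalizer_le_centralizer hE (le_normalizer q.2)) p p.2)
    rw [e, map_mul, hinv a ⟨_, map_mul_inv_mem b.2 hE.le hx⟩]
    exact hab _ _
  · intro p q
    exact Subtype.ext (mem_centralizer_iff.1 (normalizer_le_centralizer hE (le_normalizer q.2)) p p.2)
  · intro φ hφ
    exact hodd ⟨_, map_mul_inv_mem φ.2 hE.le hx⟩ hφ

end Hom

section Fusion

variable [Finite G] {S : Sylow 2 G} {φ : MulAut G}

/-- The fixed subgroup. -/
def fixed (φ : MulAut G) : Subgroup G where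
  carrier := {g | φ g = g}
  one_mem' := map_one φ
  mul_mem' := fun {a b} (ha : φ a = a) (hb : φ b = b) => show φ (a * b) = a * b by rw [map_mul, ha, hb]
  inv_mem' := fun {a} (ha : φ a = a) => show φ a⁻¹ = a⁻¹ by rw [map_inv, ha]

theorem centric_sup (S : Sylow 2 G) {D : Subgroup G} (hD : D ≤ (S : Subgroup G))
    (hidx : ¬ 2 ∣ ((S : Subgroup G) ⊓ centralizer (D : Set G)).relIndex (centralizer (D : Set G))) :
    Centric S (D ⊔ ((S : Subgroup G) ⊓ centralizer (D : Set G))) := by
  haveI : Fact (Nat.Prime 2) := ⟨Nat.prime_two⟩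
  set Cp := (S : Subgroup G) ⊓ centralizer (D : Set G) with hCp
  set E := D ⊔ Cp with hE
  have hCE : centralizer (E : Set G) ≤ centralizer (D : Set G) :=
    centralizer_le (SetLike.coe_subset_coe.2 le_sup_left)
  refine ⟨sup_le hD inf_le_left, (inf_le_inf_left _ hCE).trans le_sup_right, ?_⟩
  -- the Sylow subgroup of `C(E)` is inside `Cp`
  obtain ⟨R⟩ : Nonempty (Sylow 2 ↥(centralizer (E : Set G))) := Sylow.nonempty
  set T := (R : Subgroup ↥(centralizer (E : Set G))).map (centralizer (E : Set G)).subtype with hT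
  have hTC : T ≤ centralizer (E : Set G) := map_subtype_le _
  have hTn : T ≤ normalizer (Cp : Set G) := (hTC.trans
    (centralizer_le (SetLike.coe_subset_coe.2 le_sup_right))).trans (centralizer_le_normalizer _)
  have hp : IsPGroup 2 ↥(Cp ⊔ T) := by
    rw [sup_comm]
    exact (R.2.map _).to_sup_of_normal_right' (S.2.to_le inf_le_left) hTn
  obtain ⟨c, hc, hle⟩ := ConjFun.exists_conj_le_of_relIndex (p := 2) (T := Cp)
    (S.2.to_le inf_le_left) hidx (sup_le inf_le_right (hTC.trans hCE)) hp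
  have heq : Cp ⊔ T = Cp := by
    refine (Subgroup.eq_of_le_of_card_ge le_sup_left ?_).symm
    rw [← ConjFun.card_conjMap (Cp ⊔ T) c]
    exact Subgroup.card_le_of_le hle
  intro hdvd
  apply ConjFun.not_dvd_relIndex_of_sylow R
  refine hdvd.trans (relIndex_dvd_of_le_left _ (le_inf ?_ hTC))
  exact (sup_eq_left.1 heq).trans inf_le_left

theorem exists_odd_half {v : G} (hv : Odd (orderOf v)) : ∃ j : ℕ, v ^ (2 * j) = v := by
  obtain ⟨k, hk⟩ := exists_pow_eq_self_of_coprime (x := v) (n := 2) (Nat.coprime_two_left.2 hv)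
  exact ⟨k, by rw [pow_mul, hk]⟩

/-- All fusion in `S` is realised in the fixed subgroup. -/
theorem fusion (hfix : φ ∈ fixer S) (hr : Rigid S φ) (h2 : ∀ g, φ (φ g) = g) (A : Set G) (g : G)
    (hA : A ⊆ (S : Set G)) (hAg : ∀ a ∈ A, g⁻¹ * a * g ∈ S) :
    ∃ y : G, φ y = y ∧ ∀ a ∈ A, y⁻¹ * a * y = g⁻¹ * a * g := by
  haveI : Fact (Nat.Prime 2) := ⟨Nat.prime_two⟩
  refine (fun key => ?_ : (∀ D : Subgroup G, Transfer.IsTame S D → ∀ x ∈ normalizer (D : Set G),
      ∃ y ∈ fixed φ, ∀ d ∈ D, y⁻¹ * d * y = x⁻¹ * d * x) → _) (fun D hD x hx => ?_)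
  · obtain ⟨y, hy, he⟩ := Transfer.exists_conj_eq_of_tame S (fixed φ) key A g hA hAg
    exact ⟨y, hy, he⟩
  obtain ⟨Q, hQ, hidx, -⟩ := hD
  have hDS : D ≤ (S : Subgroup G) := hQ.le.trans inf_le_left
  set N := normalizer (D : Set G) with hN
  set CD := centralizer (D : Set G) with hCD
  set Cp := (S : Subgroup G) ⊓ CD with hCp
  have hnC : N ≤ normalizer (CD : Set G) := by
    intro n hn
    rw [mem_normalizer_iff_map_conj_eq]
    show CD.map (MulAut.conj n).toMonoidHom = CD
    rw [hCD, ConjFun.conjMap_centralizer, ConjFun.conjMap_eq_self hn]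
  have hCpidx : ¬ 2 ∣ Cp.relIndex CD := by
    have h := ConjFun.not_dvd_relIndex_inf (p := 2) (S.2.to_le (inf_le_left (b := N))) hidx
      (centralizer_le_normalizer _) hnC
    rwa [inf_assoc, inf_eq_right.2 (centralizer_le_normalizer _)] at h
  have hcen := centric_sup S hDS hCpidx
  -- Frattini
  obtain ⟨c, hc, hce⟩ : ∃ c ∈ CD, (Cp.map (MulAut.conj x).toMonoidHom).map (MulAut.conj c).toMonoidHom = Cp := by
    have hxC : CD.map (MulAut.conj x).toMonoidHom = CD := ConjFun.conjMap_eq_self (hnC hx)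
    obtain ⟨c, hc, hle⟩ := ConjFun.exists_conj_le_of_relIndex (p := 2) (T := Cp)
      (S.2.to_le inf_le_left) hCpidx ((Subgroup.map_mono inf_le_right).trans hxC.le)
      ((S.2.to_le inf_le_left).map _)
    exact ⟨c, hc, Subgroup.eq_of_le_of_card_ge hle (by
      rw [ConjFun.card_conjMap, ConjFun.card_conjMap])⟩
  set y := c * x with hy
  have hyN : y ∈ N := mul_mem (centralizer_le_normalizer _ hc) hx
  have hyCp : y ∈ normalizer (Cp : Set G) := by
    rw [mem_normalizer_iff_map_conj_eq]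
    show Cp.map (MulAut.conj y).toMonoidHom = Cp
    rw [hy, ConjFun.conjMap_mul]; exact hce
  have hyE : y ∈ normalizer ((D ⊔ Cp : Subgroup G) : Set G) := by
    rw [mem_normalizer_iff_map_conj_eq]
    show (D ⊔ Cp).map (MulAut.conj y).toMonoidHom = D ⊔ Cp
    rw [Subgroup.map_sup, ConjFun.conjMap_eq_self hyN, ConjFun.conjMap_eq_self hyCp]
  set v := φ y * y⁻¹ with hv
  obtain ⟨j, hj⟩ := exists_odd_half (hr _ hcen y hyE)
  have hvC : v ∈ centralizer ((D ⊔ Cp : Subgroup G) : Set G) := map_mul_inv_mem hfix hcen.le hyE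
  have hφv : φ v = v⁻¹ := by rw [hv, map_mul, map_inv, h2]; group
  refine ⟨v ^ j * y, ?_, fun d hd => ?_⟩
  · show φ (v ^ j * y) = v ^ j * y
    rw [map_mul, map_pow, hφv, inv_pow, show φ y = v * y by rw [hv]; group, ← mul_assoc]
    congr 1
    rw [inv_mul_eq_iff_eq_mul, ← pow_add, ← two_mul, hj]
  · have h1 : d * v ^ j = v ^ j * d :=
      mem_centralizer_iff.1 (pow_mem hvC j) d (mem_sup_left hd)
    have h3 : d * c = c * d := mem_centralizer_iff.1 hc d hd
    calc (v ^ j * y)⁻¹ * d * (v ^ j * y) = y⁻¹ * ((v ^ j)⁻¹ * (d * v ^ j)) * y := by group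
      _ = y⁻¹ * d * y := by rw [h1]; group
      _ = x⁻¹ * (c⁻¹ * (d * c)) * x := by rw [hy]; group
      _ = x⁻¹ * d * x := by rw [h3]; group

/-- A rigid involution is isolated: no twist `g (φ g)⁻¹` is a nontrivial fixed involution. -/
theorem no_twist (hfix : φ ∈ fixer S) (hr : Rigid S φ) (h2 : ∀ g, φ (φ g) = g) {g : G}
    (hs : φ (g * (φ g)⁻¹) = g * (φ g)⁻¹) (hs2 : (g * (φ g)⁻¹) * (g * (φ g)⁻¹) = 1) :
    g * (φ g)⁻¹ = 1 := by
  haveI : Fact (Nat.Prime 2) := ⟨Nat.prime_two⟩
  -- conjugate the twist into `S`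
  have twist : ∀ (k a : G), φ k = k → (k * a) * (φ (k * a))⁻¹ = k * (a * (φ a)⁻¹) * k⁻¹ := by
    intro k a hk
    rw [map_mul, hk]
    group
  suffices main : ∀ g : G, g * (φ g)⁻¹ ∈ (S : Subgroup G) → (g * (φ g)⁻¹) * (g * (φ g)⁻¹) = 1 →
      ¬ 2 ∣ ((S : Subgroup G) ⊓ centralizer ({g * (φ g)⁻¹} : Set G)).relIndex
        (centralizer ({g * (φ g)⁻¹} : Set G)) → g * (φ g)⁻¹ = 1 by
    have hSF : (S : Subgroup G) ≤ fixed φ := fun s hs => hfix s hs
    set s := g * (φ g)⁻¹ with hsdef
    have hidxF : ¬ 2 ∣ (S : Subgroup G).relIndex (fixed φ) := fun h =>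
      S.not_dvd_index (h.trans (Subgroup.relIndex_dvd_index_of_le hSF))
    obtain ⟨k, hk, hks⟩ := ConjFun.exists_conj_le_of_relIndex (p := 2) S.2 hidxF
      (U := zpowers s) (zpowers_le.2 hs) (IsPGroup.of_card_dvd_pow (n := 1) (by
        rw [Nat.card_zpowers, pow_one]
        exact orderOf_dvd_of_pow_eq_one (by rw [pow_two]; exact hs2)))
    have hs' : k * s * k⁻¹ ∈ (S : Subgroup G) := hks ⟨s, mem_zpowers s, rfl⟩
    -- fully centralise
    set s' := k * s * k⁻¹ with hs'def
    obtain ⟨R⟩ : Nonempty (Sylow 2 ↥(centralizer ({s'} : Set G))) := Sylow.nonempty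
    set R' := (R : Subgroup ↥(centralizer ({s'} : Set G))).map (centralizer ({s'} : Set G)).subtype
    have hs'2 : s' * s' = 1 := by
      calc s' * s' = k * (s * s) * k⁻¹ := by rw [hs'def]; group
        _ = 1 := by rw [hs2]; group
    have hzp : IsPGroup 2 ↥(zpowers s') := IsPGroup.of_card_dvd_pow (n := 1) (by
        rw [Nat.card_zpowers, pow_one]
        exact orderOf_dvd_of_pow_eq_one (by rw [pow_two]; exact hs'2))
    have hRs : IsPGroup 2 ↥(R' ⊔ zpowers s') := by
      refine (R.2.map _).to_sup_of_normal_left' hzp ?_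
      refine zpowers_le.2 (centralizer_le_normalizer _ (mem_centralizer_iff.2 ?_))
      rintro _ ⟨r, -, rfl⟩
      exact (mem_centralizer_singleton_iff.1 r.2)
    obtain ⟨W, hW⟩ := hRs.exists_le_sylow
    obtain ⟨b, hb⟩ := MulAction.exists_smul_eq G W S
    have hbS : ∀ w ∈ (W : Subgroup G), b * w * b⁻¹ ∈ (S : Subgroup G) := fun w hw => by
      rw [← hb]; exact ⟨w, hw, rfl⟩
    obtain ⟨y, hy, hye⟩ := fusion hfix hr h2 {s'} b⁻¹ (fun a ha => by rwa [Set.mem_singleton_iff.1 ha])
      (fun a ha => by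
        rw [Set.mem_singleton_iff.1 ha, inv_inv]
        exact hbS _ (hW (mem_sup_right (mem_zpowers _))))
    have hy' := hye s' rfl
    rw [inv_inv] at hy'
    have e : (y⁻¹ * k * g) * (φ (y⁻¹ * k * g))⁻¹ = b * s' * b⁻¹ := by
      rw [twist (y⁻¹ * k) g (by rw [map_mul, map_inv, hy, show φ k = k from hk]), ← hy', hs'def, hsdef]
      group
    have h1 := main (y⁻¹ * k * g) (by rw [e]; exact hbS _ (hW (mem_sup_right (mem_zpowers _))))
      (by
        rw [e]
        calc b * s' * b⁻¹ * (b * s' * b⁻¹) = b * (s' * s') * b⁻¹ := by group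
          _ = 1 := by rw [hs'2]; group)
      (by
        rw [e]
        have hC : centralizer ({b * s' * b⁻¹} : Set G) =
            (centralizer ({s'} : Set G)).map (MulAut.conj b).toMonoidHom := by
          ext z
          rw [mem_centralizer_singleton_iff]
          constructor
          · intro hz
            refine ⟨b⁻¹ * z * b, mem_centralizer_singleton_iff.2 ?_, by simp [mul_assoc]⟩
            calc b⁻¹ * z * b * s' = b⁻¹ * (z * (b * s' * b⁻¹)) * b := by group
              _ = s' * (b⁻¹ * z * b) := by rw [hz]; group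
          · rintro ⟨w, hw, rfl⟩
            have hw' := mem_centralizer_singleton_iff.1 hw
            simp only [MulEquiv.coe_toMonoidHom, MulAut.conj_apply]
            calc b * w * b⁻¹ * (b * s' * b⁻¹) = b * (w * s') * b⁻¹ := by group
              _ = _ := by rw [hw']; group
        intro hd
        apply ConjFun.not_dvd_relIndex_of_sylow R
        have hle : R'.map (MulAut.conj b).toMonoidHom ≤
            (S : Subgroup G) ⊓ centralizer ({b * s' * b⁻¹} : Set G) := by
          refine le_inf ?_ (hC ▸ Subgroup.map_mono (map_subtype_le _))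
          rintro _ ⟨r, hr', rfl⟩
          exact hbS r (hW (mem_sup_left hr'))
        have h3 := hd.trans (relIndex_dvd_of_le_left _ hle)
        rw [hC, relIndex_map_map_of_injective _ _ (MulAut.conj b).injective] at h3
        exact h3)
    rw [e] at h1
    have h4 : s' = 1 := by
      have := congrArg (fun t => b⁻¹ * t * b) h1
      simpa [mul_assoc] using this
    rw [hs'def] at h4
    have := congrArg (fun t => k⁻¹ * t * k) h4
    simpa [mul_assoc] using this
  clear hs hs2 g
  intro g hsS hs2 hidx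
  set s := g * (φ g)⁻¹ with hsdef
  have hsi : s⁻¹ = s := inv_eq_of_mul_eq_one_right hs2
  have hφg : φ g = s * g := by rw [← hsi, hsdef]; group
  set Cs := (S : Subgroup G) ⊓ centralizer ({s} : Set G) with hCs
  have hfixg : ∀ a ∈ Cs, g⁻¹ * a * g ∈ fixed φ := by
    intro a ha
    show φ (g⁻¹ * a * g) = g⁻¹ * a * g
    rw [map_mul, map_mul, map_inv, hfix a ha.1, hφg, mul_inv_rev, hsi]
    calc g⁻¹ * s * a * (s * g) = g⁻¹ * (s * (a * s)) * g := by group
      _ = g⁻¹ * ((s * s) * a) * g := by rw [mem_centralizer_singleton_iff.1 ha.2]; group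
      _ = g⁻¹ * a * g := by rw [hs2]; group
  have hidxF : ¬ 2 ∣ (S : Subgroup G).relIndex (fixed φ) := fun h =>
    S.not_dvd_index (h.trans (Subgroup.relIndex_dvd_index_of_le fun s hs => hfix s hs))
  obtain ⟨k, hk, hkS⟩ := ConjFun.exists_conj_le_of_relIndex (p := 2) S.2 hidxF
    (U := Cs.map (MulAut.conj g⁻¹).toMonoidHom)
    (by rintro _ ⟨a, ha, rfl⟩; simpa using hfixg a ha)
    ((S.2.to_le inf_le_left).map _)
  set g₂ := g * k⁻¹ with hg₂
  have hkinv : φ k⁻¹ = k⁻¹ := inv_mem (show k ∈ fixed φ from hk)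
  obtain ⟨y, hy, hye⟩ := fusion hfix hr h2 (Cs : Set G) g₂ (fun a ha => ha.1) (fun a ha => by
    show _ ∈ (S : Subgroup G)
    have := hkS ⟨_, ⟨a, ha, rfl⟩, rfl⟩
    simpa [hg₂, mul_assoc] using this)
  set c := g₂ * y⁻¹ with hc
  have hcs : ∀ a ∈ Cs, c * a = a * c := by
    intro a ha
    calc c * a = g₂ * (y⁻¹ * a * y) * y⁻¹ := by rw [hc]; group
      _ = a * c := by rw [hye a ha, hc]; group
  have hφc : φ c = s * c := by
    rw [hc, hg₂, map_mul, map_mul, hφg, hkinv, map_inv, hy]
    group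
  -- the subgroup of `C(s)` twisted into `⟨s⟩`
  set Z := centralizer ({s} : Set G) with hZdef
  let L : Subgroup G :=
    { carrier := {a | a ∈ Z ∧ (φ a = a ∨ φ a = s * a)}
      one_mem' := ⟨one_mem _, Or.inl (map_one φ)⟩
      mul_mem' := by
        rintro a b ⟨ha, ha'⟩ ⟨hb, hb'⟩
        have hca : a * s = s * a := mem_centralizer_singleton_iff.1 ha
        refine ⟨mul_mem ha hb, ?_⟩
        rw [map_mul]
        rcases ha' with ha' | ha' <;> rcases hb' with hb' | hb' <;> rw [ha', hb']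
        · exact Or.inl rfl
        · exact Or.inr (by rw [← mul_assoc, hca, mul_assoc])
        · exact Or.inr (by rw [mul_assoc])
        · refine Or.inl ?_
          calc s * a * (s * b) = s * (a * s) * b := by group
            _ = a * b := by rw [hca, ← mul_assoc, hs2, one_mul]
      inv_mem' := by
        rintro a ⟨ha, ha'⟩
        have hca : a * s = s * a := mem_centralizer_singleton_iff.1 ha
        refine ⟨inv_mem ha, ?_⟩
        rw [map_inv]
        rcases ha' with ha' | ha' <;> rw [ha']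
        · exact Or.inl rfl
        · exact Or.inr (by rw [mul_inv_rev, hsi]; calc
            a⁻¹ * s = a⁻¹ * (s * a) * a⁻¹ := by group
              _ = s * a⁻¹ := by rw [← hca]; group) }
  let δ : ↥L →* ↥Z :=
    MonoidHom.mk' (fun a => ⟨φ a * (a : G)⁻¹, by
      rcases a.2.2 with h | h <;> rw [h] <;> simp [hZdef, mem_centralizer_singleton_iff]⟩)
      (fun a b => Subtype.ext (by
        show φ (a * b : G) * ((a : G) * b)⁻¹ = φ a * (a : G)⁻¹ * (φ b * (b : G)⁻¹)
        have hca : (a : G) * s = s * a := mem_centralizer_singleton_iff.1 a.2.1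
        rw [map_mul]
        rcases a.2.2 with h | h <;> rcases b.2.2 with h' | h' <;> rw [h, h'] <;> simp only [mul_inv_rev, mul_assoc, mul_inv_cancel_left, mul_inv_cancel, mul_one]
        · rw [← mul_assoc (a : G) s, hca]; simp [mul_assoc]
        · rw [← mul_assoc (a : G) s, hca]; simp [mul_assoc]))
  have hcL : c ∈ L := ⟨mem_centralizer_singleton_iff.2 (hcs s ⟨hsS, mem_centralizer_singleton_iff.2 rfl⟩),
    Or.inr hφc⟩
  have hCL : Cs ≤ L := fun a ha => ⟨ha.2, Or.inl (hfix a ha.1)⟩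
  have hker : Cs.subgroupOf L ≤ δ.ker := by
    intro a ha
    rw [MonoidHom.mem_ker]
    exact Subtype.ext (by show φ a * (a : G)⁻¹ = 1; rw [hfix _ (mem_subgroupOf.1 ha).1, mul_inv_cancel])
  have hrange : ∀ z ∈ δ.range, (z : G) ∈ zpowers s := by
    rintro _ ⟨a, rfl⟩
    rcases a.2.2 with h | h
    · show φ a * (a : G)⁻¹ ∈ zpowers s
      rw [h, mul_inv_cancel]; exact one_mem _
    · show φ a * (a : G)⁻¹ ∈ zpowers s
      rw [h, mul_inv_cancel_right]; exact mem_zpowers s
  have hodd : ¬ 2 ∣ δ.ker.index := fun h => hidx (by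
    refine (h.trans (Subgroup.index_dvd_of_le hker)).trans ?_
    show Cs.relIndex L ∣ Cs.relIndex Z
    exact Dvd.intro _ (relIndex_mul_relIndex Cs L Z hCL fun a ha => ha.1))
  have hpg : IsPGroup 2 ↥δ.range := fun z => ⟨1, Subtype.ext (Subtype.ext (by
    obtain ⟨m, hm⟩ := mem_zpowers_iff.1 (hrange z z.2)
    show ((z : ↥Z) : G) ^ 2 ^ 1 = 1
    rw [pow_one, ← hm, ← zpow_natCast, ← zpow_mul, mul_comm, zpow_mul, zpow_natCast, pow_two, hs2,
      one_zpow]))⟩
  obtain ⟨n, hn⟩ := IsPGroup.iff_card.1 hpg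
  rw [← Subgroup.index_ker] at hn
  have htop : δ.ker = ⊤ := by
    rw [← Subgroup.index_eq_one, hn]
    rcases n.eq_zero_or_pos with rfl | hn0
    · rfl
    · exact absurd (hn ▸ dvd_pow_self 2 hn0.ne') hodd
  have h1 : δ ⟨c, hcL⟩ = 1 := MonoidHom.mem_ker.1 (htop ▸ mem_top _)
  have h2' : φ c * c⁻¹ = 1 := congrArg Subtype.val h1
  rwa [hφc, mul_inv_cancel_right] at h2'

/-- A rigid involution is trivial when `O(G) = 1`. -/
theorem eq_one_of_rigid (hO : ∀ N : Subgroup G, N.Normal → Odd (Nat.card N) → N = ⊥)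
    (hfix : φ ∈ fixer S) (hr : Rigid S φ) (h2 : ∀ g, φ (φ g) = g) : φ = 1 := by
  haveI : Fact (Nat.Prime 2) := ⟨Nat.prime_two⟩
  by_contra hne
  set K := zpowers φ with hK
  set f : ↥K →* MulAut G := K.subtype with hf
  haveI : Finite (SemidirectProduct G ↥K f) := Finite.of_equiv _ SemidirectProduct.equivProd.symm
  set k : ↥K := ⟨φ, mem_zpowers φ⟩ with hk
  set u : SemidirectProduct G ↥K f := SemidirectProduct.inr k with hu
  have hφ2 : φ * φ = 1 := MulEquiv.ext h2
  have hφo : orderOf φ = 2 := orderOf_eq_prime (by rw [pow_two]; exact hφ2) hne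
  have huo : orderOf u = 2 := by
    rw [hu, orderOf_injective _ SemidirectProduct.inr_injective, hk, Subgroup.orderOf_mk, hφo]
  have hiso : IsIsolatedInvolution u := by
    refine ⟨huo, fun x hx => ?_⟩
    set g := x.left with hg
    have hxe : x * u * x⁻¹ = SemidirectProduct.inl (g * (φ g)⁻¹) * u := by
      have hc : x.right * k * x.right⁻¹ = k := by
        obtain ⟨i, hi⟩ := mem_zpowers_iff.1 x.right.2
        refine Subtype.ext ?_
        show (x.right : MulAut G) * φ * (x.right : MulAut G)⁻¹ = φ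
        rw [← hi]; group
      have hxdec : x = SemidirectProduct.inl g * SemidirectProduct.inr x.right :=
        (SemidirectProduct.inl_left_mul_inr_right x).symm
      have h3 : u * SemidirectProduct.inl g⁻¹ = SemidirectProduct.inl ((φ g)⁻¹) * u := by
        rw [← map_inv φ g, ← show f k g⁻¹ = φ g⁻¹ from rfl, SemidirectProduct.inl_aut, hu,
          mul_assoc, ← map_mul, inv_mul_cancel, map_one, mul_one]
      conv_lhs => rw [hxdec]
      calc SemidirectProduct.inl g * SemidirectProduct.inr x.right * u *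
            (SemidirectProduct.inl g * SemidirectProduct.inr x.right)⁻¹
          = SemidirectProduct.inl g * (SemidirectProduct.inr (x.right * k * x.right⁻¹) *
              SemidirectProduct.inl g⁻¹) := by
            rw [hu, map_mul, map_mul, map_inv, map_inv]; group
        _ = SemidirectProduct.inl g * (u * SemidirectProduct.inl g⁻¹) := by rw [hc]
        _ = _ := by rw [h3, map_mul, mul_assoc]
    rw [hxe] at hx ⊢
    set s := g * (φ g)⁻¹ with hsdef
    have hus : u * SemidirectProduct.inl s = SemidirectProduct.inl (φ s) * u := by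
      rw [← show f k s = φ s from rfl, SemidirectProduct.inl_aut, hu, mul_assoc, ← map_mul,
        inv_mul_cancel, map_one, mul_one]
    have hs : φ s = s := by
      have h4 := hx.eq
      rw [← mul_assoc, hus] at h4
      exact SemidirectProduct.inl_injective (mul_right_cancel (mul_right_cancel h4))
    have hs2 : s * s = 1 := by
      have h5 : φ s = s⁻¹ := by rw [hsdef, map_mul, map_inv, h2]; group
      rw [hs] at h5
      nth_rewrite 1 [h5]
      exact inv_mul_cancel s
    rw [show s = 1 from no_twist hfix hr h2 hs hs2, map_one, one_mul]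
  have hz := ZStar.inZStar hiso
  set M := (oddCore (SemidirectProduct G ↥K f)).comap (SemidirectProduct.inl) with hM
  have hMbot : M = ⊥ := by
    refine hO M inferInstance ?_
    have : Nat.card M ∣ Nat.card (oddCore (SemidirectProduct G ↥K f)) := by
      rw [hM, ← Subgroup.card_map_of_injective (f := (SemidirectProduct.inl : G →* SemidirectProduct G ↥K f)) SemidirectProduct.inl_injective]
      exact Subgroup.card_dvd_of_le (map_comap_le _ _)
    exact Odd.of_dvd_nat PCore.odd_card_oddCore this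
  refine hne (MulEquiv.ext fun g => ?_)
  have h1 := hz (SemidirectProduct.inl g)
  have h6 : SemidirectProduct.inl g * u * (SemidirectProduct.inl g)⁻¹ * u⁻¹ =
      SemidirectProduct.inl (g * φ g⁻¹) := by
    rw [map_mul, ← show f k g⁻¹ = φ g⁻¹ from rfl, SemidirectProduct.inl_aut, hu, map_inv,
      map_inv]
    group
  rw [h6] at h1
  have h7 : g * φ g⁻¹ ∈ M := h1
  rw [hMbot, mem_bot, map_inv, mul_inv_eq_one] at h7
  exact h7.symm

end Fusion

section Main

variable [Finite G] {S : Sylow 2 G}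

/-- The rigid automorphisms fixing `S` form a normal subgroup of odd order with an abelian `2`-group quotient. -/
theorem exists_kernel (hO : ∀ N : Subgroup G, N.Normal → Odd (Nat.card N) → N = ⊥) :
    ∃ N : Subgroup ↥(fixer S), N.Normal ∧ Odd (Nat.card N) ∧ (∃ n, N.index = 2 ^ n) ∧
      ∀ a b : ↥(fixer S), a * b * a⁻¹ * b⁻¹ ∈ N := by
  haveI : Fact (Nat.Prime 2) := ⟨Nat.prime_two⟩
  let ι := (E : {E : Subgroup G // Centric S E}) × ↥(normalizer ((E : Subgroup G) : Set G))
  choose θ hab hθ using fun i : ι => exists_ab i.1.2 i.2.2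
  let Ψ : ↥(fixer S) →* ((i : ι) → ↥(centSylow i.1.2 : Subgroup ↥(centralizer ((i.1.1 : Subgroup G) : Set G)))) :=
    MonoidHom.pi θ
  refine ⟨Ψ.ker, inferInstance, ?_, ?_, fun a b => ?_⟩
  · rw [← Nat.not_even_iff_odd, even_iff_two_dvd]
    intro hd
    obtain ⟨t, ht⟩ := exists_prime_orderOf_dvd_card' (G := ↥Ψ.ker) 2 hd
    have ht' : orderOf ((t : ↥(fixer S)) : MulAut G) = 2 := by
      rw [Subgroup.orderOf_coe, Subgroup.orderOf_coe]; exact ht
    have hrig : Rigid S ((t : ↥(fixer S)) : MulAut G) := fun E hE x hx =>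
      hθ ⟨⟨E, hE⟩, ⟨x, hx⟩⟩ _ (congrFun (MonoidHom.mem_ker.1 t.2) _)
    have h := eq_one_of_rigid hO (t : ↥(fixer S)).2 hrig fun g => by
      have := DFunLike.congr_fun (pow_orderOf_eq_one ((t : ↥(fixer S)) : MulAut G)) g
      rw [ht', pow_two] at this
      simpa using this
    rw [h, orderOf_one] at ht'
    exact absurd ht' (by norm_num)
  · have hp : IsPGroup 2 ↥Ψ.range := by
      intro z
      obtain ⟨m, hm⟩ := IsPGroup.iff_card.1 S.2
      refine ⟨m, Subtype.ext (funext fun i => Subtype.ext (Subtype.ext ?_))⟩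
      have hmem : (((z.1 i) : ↥(centralizer ((i.1.1 : Subgroup G) : Set G))) : G) ∈ (S : Subgroup G) :=
        (mem_subgroupOf.1 (z.1 i).2).1
      have h1 : orderOf (((z.1 i) : ↥(centralizer ((i.1.1 : Subgroup G) : Set G))) : G) ∣ 2 ^ m := by
        rw [← hm]; exact Subgroup.orderOf_dvd_natCard _ hmem
      simpa using orderOf_dvd_iff_pow_eq_one.1 h1
    obtain ⟨n, hn⟩ := IsPGroup.iff_card.1 hp
    exact ⟨n, by rw [Subgroup.index_ker, hn]⟩
  · rw [MonoidHom.mem_ker, map_mul, map_mul, map_mul, map_inv, map_inv]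
    funext i
    simp only [Pi.mul_apply, Pi.inv_apply, Pi.one_apply]
    rw [hab i (Ψ a i) (Ψ b i)]
    group

/-- **Glauberman**: automorphisms centralising a Sylow 2-subgroup. -/
theorem sylow_abelian_complement (hO : ∀ N : Subgroup G, N.Normal → Odd (Nat.card N) → N = ⊥)
    (C : Subgroup (MulAut G)) (hC : ∀ φ : MulAut G, φ ∈ C ↔ ∀ s : G, s ∈ S → φ s = s)
    (T : Sylow 2 ↥C) :
    (∀ a b : ↥T, a * b = b * a) ∧
      ∃ N : Subgroup ↥C, N.Normal ∧ Subgroup.IsComplement' N (T : Subgroup ↥C) := by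
  haveI : Fact (Nat.Prime 2) := ⟨Nat.prime_two⟩
  obtain rfl : C = fixer S := Subgroup.ext fun φ => hC φ
  obtain ⟨N, hNn, hNodd, ⟨n, hn⟩, hcomm⟩ := exists_kernel hO (S := S)
  have hcop : (Nat.card N).Coprime (Nat.card T) := by
    obtain ⟨m, hm⟩ := IsPGroup.iff_card.1 T.2
    rw [hm]
    exact (Nat.coprime_two_right.2 hNodd).pow_right m
  refine ⟨fun a b => ?_, N, hNn, ?_⟩
  · have h0 : N ⊓ (T : Subgroup ↥(fixer S)) = ⊥ := Subgroup.inf_eq_bot_of_coprime hcop
    have h1 : ((a * b * a⁻¹ * b⁻¹ : ↥T) : ↥(fixer S)) ∈ N ⊓ (T : Subgroup ↥(fixer S)) :=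
      ⟨hcomm (a : ↥(fixer S)) b, (a * b * a⁻¹ * b⁻¹ : ↥T).2⟩
    rw [h0, mem_bot] at h1
    have h2 : a * b * a⁻¹ * b⁻¹ = 1 := Subtype.ext h1
    rwa [mul_inv_eq_one, mul_inv_eq_iff_eq_mul] at h2
  · refine Subgroup.isComplement'_of_coprime ?_ hcop
    have h1 := N.index_mul_card
    have hT : Nat.card T = 2 ^ n := by
      rw [T.card_eq_multiplicity, ← h1, hn,
        Nat.factorization_mul (by positivity) Nat.card_pos.ne', Finsupp.add_apply,
        Nat.Prime.factorization_pow Nat.prime_two, Finsupp.single_eq_same,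
        Nat.factorization_eq_zero_of_not_dvd (fun h => Nat.not_even_iff_odd.2 hNodd (even_iff_two_dvd.2 h)),
        add_zero]
    rw [← h1, hn, hT, mul_comm]

/-- Given the odd order theorem the centraliser is solvable. -/
theorem isSolvable (hFT : OddOrder.{u}) (hO : ∀ N : Subgroup G, N.Normal → Odd (Nat.card N) → N = ⊥)
    (C : Subgroup (MulAut G)) (hC : ∀ φ : MulAut G, φ ∈ C ↔ ∀ s : G, s ∈ S → φ s = s) :
    Group.IsSolvable ↥C := by
  obtain rfl : C = fixer S := Subgroup.ext fun φ => hC φ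
  obtain ⟨N, hNn, hNodd, -, hcomm⟩ := exists_kernel hO (S := S)
  haveI := hNn
  haveI : Group.IsSolvable ↥N := hFT N hNodd
  haveI : Group.IsSolvable (↥(fixer S) ⧸ N) := Group.isSolvable_of_comm fun a b => by
    obtain ⟨a, rfl⟩ := QuotientGroup.mk'_surjective N a
    obtain ⟨b, rfl⟩ := QuotientGroup.mk'_surjective N b
    have h := (QuotientGroup.eq_one_iff (N := N) _).2 (hcomm a b)
    change QuotientGroup.mk' N (a * b * a⁻¹ * b⁻¹) = 1 at h
    rwa [map_mul, map_mul, map_mul, map_inv, map_inv, mul_inv_eq_one, mul_inv_eq_iff_eq_mul] at h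
  exact Group.isSolvable_of_ker_le_range N.subtype (QuotientGroup.mk' N) (by simp)

end Main

end Cfsg.Agent.FTConsumers.AutCentSylow
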