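import Cfsg.Agent.Lib.FTConsumers.Hyp
import Cfsg.Agent.Lib.Transfer.Thompson
import Cfsg.Agent.Lib.ClassSize.OneSize

/-!
# No class size divisible by four implies solvable, given the odd order theorem

In a simple group every involution is fused into every maximal subgroup of a Sylow 2-subgroup, so
the centralizer of an involution would meet every class.
-/

set_option autoImplicit false
set_option linter.style.haveILetI false

namespace Cfsg.Agent.FTConsumers

open Subgroup

universe u

theorem exists_conj_mem_centralizer {G : Type u} [Group G] [Finite G]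
    (hM : ∀ M : Subgroup G, M.Normal → M.index ≠ 2) {w : G} (hw : orderOf w = 2) (x : G)
    (hx : ¬ 4 ∣ (centralizer ({x} : Set G)).index) :
    ∃ k : G, k⁻¹ * x * k ∈ centralizer ({w} : Set G) := by
  haveI : Fact (Nat.Prime 2) := ⟨Nat.prime_two⟩
  set C := centralizer ({x} : Set G) with hC
  obtain ⟨T⟩ := (inferInstance : Nonempty (Sylow 2 C))
  set Q : Subgroup G := (T : Subgroup C).map C.subtype with hQ
  obtain ⟨P, hP⟩ := (T.2.map C.subtype).exists_le_sylow
  have hQC : Q ≤ C := map_subtype_le _
  -- the 2-part of the index of `Q` is that of the class size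
  have hidx : ¬ 4 ∣ Q.relIndex P := by
    intro h4
    apply hx
    have h1 : Q.relIndex P * (P : Subgroup G).index = Q.index := relIndex_mul_index hP
    have h2 : Q.index = (T : Subgroup C).index * C.index := index_map_subtype _
    have h3 : 4 ∣ (T : Subgroup C).index * C.index := h2 ▸ h1 ▸ h4.mul_right _
    exact ((Nat.Coprime.pow_left 2 (Nat.prime_two.coprime_iff_not_dvd.2 T.not_dvd_index)).dvd_mul_left
      (n := C.index)).1 h3
  -- some conjugate of `w` lies in `P`
  obtain ⟨R, hR⟩ := (IsPGroup.of_card (n := 1) (by rw [Nat.card_zpowers, hw, pow_one]) :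
    IsPGroup 2 (zpowers w)).exists_le_sylow
  obtain ⟨g, hg⟩ := MulAction.exists_smul_eq G R P
  have hwP : g * w * g⁻¹ ∈ (P : Subgroup G) := by
    have h := Subgroup.smul_mem_pointwise_smul w (MulAut.conj g) (R : Subgroup G)
      (hR (mem_zpowers w))
    rw [← hg]
    exact h
  suffices h : ∃ k : G, k * (g * w * g⁻¹) * k⁻¹ ∈ Q by
    obtain ⟨k, hk⟩ := h
    refine ⟨k * g, mem_centralizer_singleton_iff.2 ?_⟩
    have h := mem_centralizer_singleton_iff.1 (hQC hk)
    have e : ∀ a b c : G, (c⁻¹ * a * c) * b = b * (c⁻¹ * a * c) ↔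
        a * (c * b * c⁻¹) = (c * b * c⁻¹) * a := fun a b c => by
      constructor <;> intro hh
      · calc a * (c * b * c⁻¹) = c * ((c⁻¹ * a * c) * b) * c⁻¹ := by group
          _ = c * (b * (c⁻¹ * a * c)) * c⁻¹ := by rw [hh]
          _ = (c * b * c⁻¹) * a := by group
      · calc (c⁻¹ * a * c) * b = c⁻¹ * (a * (c * b * c⁻¹)) * c := by group
          _ = c⁻¹ * ((c * b * c⁻¹) * a) * c := by rw [hh]
          _ = b * (c⁻¹ * a * c) := by group
    refine (e x w (k * g)).2 ?_
    rw [show k * g * w * (k * g)⁻¹ = k * (g * w * g⁻¹) * k⁻¹ by group]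
    exact h.symm
  by_cases hle : (P : Subgroup G) ≤ Q
  · exact ⟨1, by simpa using hle hwP⟩
  by_contra hcon
  simp only [not_exists] at hcon
  have h2 : Q.relIndex P = 2 := by
    obtain ⟨n, hn⟩ := P.2.exists_card_eq
    obtain ⟨m, -, hm⟩ := (Nat.dvd_prime_pow Nat.prime_two).1
      (hn ▸ (Q.subgroupOf (P : Subgroup G)).index_dvd_card : Q.relIndex P ∣ 2 ^ n)
    rcases m with _ | _ | m
    · exact absurd (relIndex_eq_one.1 (by rw [hm, pow_zero])) hle
    · exact hm
    · exact absurd (hm ▸ ⟨2 ^ m, by ring⟩) hidx
  have hw2 : (g * w * g⁻¹) ^ 2 = 1 := by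
    rw [conj_pow, ← hw, pow_orderOf_eq_one, mul_one, mul_inv_cancel]
  obtain ⟨M, hMn, hMi, -⟩ := Transfer.exists_index_two_of_involution P Q hP h2 (g * w * g⁻¹) hw2
    hwP (fun h => hcon 1 (by simpa using h)) hcon
  exact hM M hMn hMi

variable (hFT : OddOrder.{u})

include hFT

/-- S4167 given the odd order theorem. -/
theorem isSolvable_of_not_four_dvd : ∀ (n : ℕ) (G : Type u) [Group G] [Finite G],
    Nat.card G = n → (∀ x : G, ¬ 4 ∣ (centralizer ({x} : Set G)).index) → Group.IsSolvable G := by
  intro n
  induction n using Nat.strong_induction_on with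
  | _ n ih =>
    intro G _ _ hn h
    by_cases hodd : Odd (Nat.card G)
    · exact hFT G hodd
    by_cases hN : ∃ N : Subgroup G, N.Normal ∧ N ≠ ⊥ ∧ N ≠ ⊤
    · obtain ⟨N, hNn, hN1, hN2⟩ := hN
      haveI := ih (Nat.card N) (hn ▸ lt_of_le_of_ne (card_le_card_group N) (fun e => hN2 (eq_top_of_card_eq N e))) N rfl fun x h4 => h x (by
        have he : centralizer ({x} : Set N) = (centralizer ({(x : G)} : Set G)).subgroupOf N := by
          ext y
          simp only [mem_centralizer_singleton_iff, mem_subgroupOf, Subtype.ext_iff, coe_mul]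
        rw [he] at h4
        refine h4.trans ?_
        show (centralizer ({(x : G)} : Set G)).relIndex N ∣ _
        set H := centralizer ({(x : G)} : Set G)
        obtain ⟨c, hc⟩ := relIndex_dvd_index_of_normal N H
        refine Dvd.intro c (Nat.eq_of_mul_eq_mul_left
          (Nat.pos_of_ne_zero (FiniteIndex.index_ne_zero (H := N.subgroupOf H))) ?_)
        have e1 : H.relIndex N * N.index = (H ⊓ N).index := by
          rw [← inf_relIndex_right, relIndex_mul_index inf_le_right]
        have e2 : N.relIndex H * H.index = (H ⊓ N).index := by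
          rw [← inf_relIndex_right, inf_comm, relIndex_mul_index inf_le_left]
        show N.relIndex H * _ = N.relIndex H * _
        rw [e2, ← e1, hc]
        ring)
      haveI := ih (Nat.card (G ⧸ N)) (hn ▸ (by
          rw [card_eq_card_quotient_mul_card_subgroup N]
          exact lt_mul_of_one_lt_right Nat.card_pos ((one_lt_card_iff_ne_bot N).2 hN1)))
        (G ⧸ N) rfl fun y h4 => by
          obtain ⟨x, rfl⟩ := QuotientGroup.mk'_surjective N y
          refine h x (h4.trans ((index_dvd_of_le ?_).trans
            (index_map_dvd _ (QuotientGroup.mk'_surjective N))))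
          rintro _ ⟨z, hz, rfl⟩
          refine mem_centralizer_singleton_iff.2 ?_
          rw [← map_mul, mem_centralizer_singleton_iff.1 hz, map_mul]
      exact Group.isSolvable_of_ker_le_range N.subtype (QuotientGroup.mk' N)
        (by rw [QuotientGroup.ker_mk', range_subtype])
    simp only [not_exists, not_and, not_ne_iff] at hN
    haveI : Fact (Nat.Prime 2) := ⟨Nat.prime_two⟩
    obtain ⟨w, hw⟩ := exists_prime_orderOf_dvd_card' (G := G) 2
      (even_iff_two_dvd.1 (Nat.not_odd_iff_even.1 hodd))
    by_cases hM : ∀ M : Subgroup G, M.Normal → M.index ≠ 2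
    · have htop : centralizer ({w} : Set G) = ⊤ := ClassSize.OneSize.eq_top_of_forall_conj
        fun x => exists_conj_mem_centralizer hM hw x (h x)
      have hwZ : w ∈ center G := mem_center_iff.2 fun y =>
        (mem_centralizer_singleton_iff.1 (htop ▸ mem_top y : y ∈ centralizer ({w} : Set G)))
      have hw1 : w ≠ 1 := fun e => by rw [e, orderOf_one] at hw; omega
      have hZ : center G = ⊤ := hN (center G) inferInstance
        fun e => hw1 (mem_bot.1 (e ▸ hwZ))
      exact Group.isSolvable_of_comm fun a b =>
        (mem_center_iff.1 (hZ ▸ mem_top b : b ∈ center G) a)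
    · simp only [not_forall, not_not] at hM
      obtain ⟨M, hMn, hMi⟩ := hM
      haveI : Nontrivial G := ⟨w, 1, fun e => by rw [e, orderOf_one] at hw; omega⟩
      have hMb : M = ⊥ := by
        by_contra hne
        have := hN M hMn hne
        rw [this, index_top] at hMi
        omega
      rw [hMb, index_bot] at hMi
      haveI : IsCyclic G := isCyclic_of_prime_card hMi
      haveI := IsCyclic.isMulCommutative (α := G)
      exact Group.isSolvable_of_comm fun a b => mul_comm' a b

end Cfsg.Agent.FTConsumers
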