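import Cfsg.Agent.Lib.Coprime.Commutator
import Cfsg.Agent.Lib.Transfer.Frobenius
import Cfsg.Agent.Lib.PGroup.Frattini
import Mathlib.GroupTheory.FixedPointFree

/-!
# A self-normalising Sylow 2-subgroup of class two without normal 2-complement

Some normal subgroup `D` of index two of `P` has an element of odd order normalising but not
centralising it, inverted modulo `D C(D)` by the elements of `P` outside `D`.
-/

set_option autoImplicit false
set_option linter.style.haveILetI false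

namespace Cfsg.Agent.FTConsumers.ClassTwo

open Subgroup
open scoped commutatorElement Pointwise

universe u

section Elementary

variable {G : Type u} [Group G]

theorem mem_of_two_pow_mem {Y : Subgroup G} {g : G} (hg : Odd (orderOf g)) {k : ℕ}
    (h : g ^ 2 ^ k ∈ Y) : g ∈ Y := by
  obtain ⟨m, hm⟩ := exists_pow_eq_self_of_coprime
    (((Nat.coprime_two_left.mpr hg).pow_left k) : (2 ^ k).Coprime (orderOf g))
  exact hm ▸ pow_mem h m

theorem eq_one_of_two_odd {g : G} (hg : Odd (orderOf g)) {k : ℕ} (h : g ^ 2 ^ k = 1) : g = 1 :=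
  mem_bot.1 (mem_of_two_pow_mem (Y := ⊥) hg (k := k) (mem_bot.2 h))

theorem exists_odd_pow [Finite G] (g : G) : ∃ k : ℕ, Odd (orderOf (g ^ 2 ^ k)) := by
  obtain ⟨k, m, hm, e⟩ := Nat.exists_eq_two_pow_mul_odd (orderOf_pos g).ne'
  exact ⟨k, hm.of_dvd_nat (orderOf_dvd_of_pow_eq_one (by rw [← pow_mul, ← e, pow_orderOf_eq_one]))⟩

/-- The elements stabilising `D` and `Z` and acting trivially on `D` modulo `Z`. -/
def trivOn (D Z : Subgroup G) : Subgroup G where
  carrier := {g | g ∈ normalizer (D : Set G) ∧ g ∈ normalizer (Z : Set G) ∧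
    ∀ d ∈ D, g * d * g⁻¹ * d⁻¹ ∈ Z}
  one_mem' := ⟨one_mem _, one_mem _, fun d _ => by simp⟩
  mul_mem' := fun {g h} hg hh => ⟨mul_mem hg.1 hh.1, mul_mem hg.2.1 hh.2.1, fun d hd => by
    have e : g * h * d * (g * h)⁻¹ * d⁻¹ =
        (g * (h * d * h⁻¹ * d⁻¹) * g⁻¹) * (g * d * g⁻¹ * d⁻¹) := by group
    rw [e]
    exact mul_mem ((mem_normalizer_iff.1 hg.2.1 _).1 (hh.2.2 d hd)) (hg.2.2 d hd)⟩
  inv_mem' := fun {g} hg => ⟨inv_mem hg.1, inv_mem hg.2.1, fun d hd => by
    have he : g⁻¹ * d * g ∈ D := by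
      simpa using (mem_normalizer_iff.1 (inv_mem hg.1) d).1 hd
    have h := inv_mem (hg.2.2 _ he)
    convert h using 1
    group⟩

theorem mem_trivOn {D Z : Subgroup G} {g : G} :
    g ∈ trivOn D Z ↔ g ∈ normalizer (D : Set G) ∧ g ∈ normalizer (Z : Set G) ∧
      ∀ d ∈ D, g * d * g⁻¹ * d⁻¹ ∈ Z := Iff.rfl

variable [Finite G]

/-- An element normalising `U` normalises the image of a characteristic subgroup of `U`. -/
theorem le_normalizer_map_char' {U : Subgroup G} (K : Subgroup U) [hK : K.Characteristic] :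
    normalizer (U : Set G) ≤ normalizer ((K.map U.subtype : Subgroup G) : Set G) := by
  intro g hg
  refine Coprime.mem_normalizer_of_conj_smul_eq ?_
  show (K.map U.subtype).map (MulAut.conj g).toMonoidHom = _
  have h := characteristic_iff_map_eq.mp hK (U.normalizerMonoidHom ⟨g, hg⟩)
  conv_rhs => rw [← h]
  rw [map_map, map_map]
  congr 1

theorem normalizer_le_normalizer_centralizer (D : Subgroup G) :
    normalizer (D : Set G) ≤ normalizer ((centralizer (D : Set G) : Subgroup G) : Set G) := by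
  intro g hg
  refine Coprime.mem_normalizer_of_conj_smul_eq ?_
  refine eq_of_le_of_card_ge ?_ (Coprime.card_conj_smul g _).ge
  rintro _ ⟨x, hx, rfl⟩
  refine mem_centralizer_iff.2 fun d hd => ?_
  have hd' : g⁻¹ * d * g ∈ D := by simpa using (mem_normalizer_iff.1 (inv_mem hg) d).1 hd
  show d * (g * x * g⁻¹) = g * x * g⁻¹ * d
  calc d * (g * x * g⁻¹) = g * ((g⁻¹ * d * g) * x) * g⁻¹ := by group
    _ = g * (x * (g⁻¹ * d * g)) * g⁻¹ := by rw [mem_centralizer_iff.1 hx _ hd']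
    _ = g * x * g⁻¹ * d := by group

end Elementary

variable {G : Type u} [Group G] [Finite G]

/-- `D` is normalised, not centralised, by an element of odd order. -/
def Bad (D : Subgroup G) : Prop :=
  IsPGroup 2 D ∧ ∃ u ∈ normalizer (D : Set G), Odd (orderOf u) ∧ u ∉ centralizer (D : Set G)

theorem Bad.conj {D : Subgroup G} (h : Bad D) (g : G) : Bad (MulAut.conj g • D) := by
  obtain ⟨h2, u, hu, ho, hC⟩ := h
  refine ⟨h2.map _, g * u * g⁻¹, ?_, ?_, ?_⟩
  · have := mem_map_of_mem (MulAut.conj g).toMonoidHom hu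
    rw [map_equiv_normalizer_eq] at this
    exact this
  · rwa [show orderOf (g * u * g⁻¹) = orderOf u from MulEquiv.orderOf_eq (MulAut.conj g) u]
  · intro hc
    refine hC (mem_centralizer_iff.2 fun d hd => ?_)
    have h1 := mem_centralizer_iff.1 hc (g * d * g⁻¹)
      ((Subgroup.mem_map_of_mem (MulAut.conj g).toMonoidHom hd : _ ∈ MulAut.conj g • D))
    calc d * u = g⁻¹ * ((g * d * g⁻¹) * (g * u * g⁻¹)) * g := by group
      _ = g⁻¹ * ((g * u * g⁻¹) * (g * d * g⁻¹)) * g := by rw [h1]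
      _ = u * d := by group

/-- Odd elements normalising a 2-subgroup larger than a largest bad one centralise it. -/
theorem centralize_of_lt {D R : Subgroup G}
    (hmax : ∀ E : Subgroup G, Bad E → Nat.card E ≤ Nat.card D) (hR : IsPGroup 2 R)
    (hlt : Nat.card D < Nat.card R) {n : G} (hn : n ∈ normalizer (R : Set G))
    (ho : Odd (orderOf n)) : n ∈ centralizer (R : Set G) := by
  by_contra h
  exact (hmax R ⟨hR, n, hn, ho, h⟩).not_gt hlt

/-- The 2-elements centralising a largest bad subgroup lie in it. -/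
theorem mem_of_centralize {D : Subgroup G} (hD : Bad D)
    (hmax : ∀ E : Subgroup G, Bad E → Nat.card E ≤ Nat.card D) {c : G}
    (hc : c ∈ centralizer (D : Set G)) (hc2 : ∃ k : ℕ, c ^ 2 ^ k = 1) : c ∈ D := by
  haveI : Fact (Nat.Prime 2) := ⟨Nat.prime_two⟩
  obtain ⟨h2, u, hu, ho, huC⟩ := hD
  obtain ⟨k, hk⟩ := hc2
  set C := centralizer (D : Set G) with hCdef
  have hcp : IsPGroup 2 (zpowers (⟨c, hc⟩ : C)) := by
    obtain ⟨j, -, hj⟩ := (Nat.dvd_prime_pow Nat.prime_two).1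
      (orderOf_dvd_of_pow_eq_one (show (⟨c, hc⟩ : C) ^ 2 ^ k = 1 from Subtype.ext hk))
    exact IsPGroup.of_card (n := j) (by rw [Nat.card_zpowers, hj])
  obtain ⟨S, hS⟩ := hcp.exists_le_sylow
  set S' : Subgroup G := (S : Subgroup C).map C.subtype with hS'
  have hcS : c ∈ S' := ⟨⟨c, hc⟩, hS (mem_zpowers _), rfl⟩
  set R := D ⊔ S' with hR
  have hDN : normalizer (D : Set G) ≤ normalizer (C : Set G) :=
    normalizer_le_normalizer_centralizer D
  obtain ⟨h, hh, hhu⟩ := Coprime.exists_mem_conj_sylow_eq S (hDN hu)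
  have hnS : h⁻¹ * u ∈ normalizer (S' : Set G) := Coprime.mem_normalizer_of_conj_smul_eq (by
    rw [← Coprime.conj_smul_smul, ← hhu, Coprime.conj_smul_smul, inv_mul_cancel, map_one, one_smul])
  have hhD : h⁻¹ ∈ normalizer (D : Set G) := centralizer_le_normalizer _ (inv_mem hh)
  have hnR : h⁻¹ * u ∈ normalizer (R : Set G) := by
    refine Coprime.mem_normalizer_of_conj_smul_eq ?_
    rw [hR, smul_sup, Coprime.conj_smul_eq_self_of_mem (mul_mem hhD hu),
      Coprime.conj_smul_eq_self_of_mem hnS]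
  have hR2 : IsPGroup 2 R := h2.to_sup_of_normal_left' (S.2.map C.subtype)
    ((map_subtype_le _).trans (centralizer_le_normalizer _))
  rcases (card_le_of_le (le_sup_left : D ≤ R)).lt_or_eq with hlt | heq
  swap
  · exact (eq_of_le_of_card_ge le_sup_left heq.ge).symm ▸ (mem_sup_right hcS : c ∈ D ⊔ S')
  exfalso
  -- `h⁻¹ u` induces the same automorphism of `D` as `u`
  have hact : ∀ (j : ℕ), ∀ d ∈ D, (h⁻¹ * u) ^ j * d * ((h⁻¹ * u) ^ j)⁻¹ =
      u ^ j * d * (u ^ j)⁻¹ := by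
    intro j
    induction j with
    | zero => simp
    | succ j ih =>
      intro d hd
      have hd' : u * d * u⁻¹ ∈ D := (mem_normalizer_iff.1 hu d).1 hd
      have h1 : (h⁻¹ * u) * d * (h⁻¹ * u)⁻¹ = u * d * u⁻¹ := by
        calc (h⁻¹ * u) * d * (h⁻¹ * u)⁻¹ = h⁻¹ * ((u * d * u⁻¹) * h) := by group
          _ = h⁻¹ * (h * (u * d * u⁻¹)) := by rw [mem_centralizer_iff.1 hh _ hd']
          _ = u * d * u⁻¹ := by group
      calc (h⁻¹ * u) ^ (j + 1) * d * ((h⁻¹ * u) ^ (j + 1))⁻¹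
          = (h⁻¹ * u) ^ j * ((h⁻¹ * u) * d * (h⁻¹ * u)⁻¹) * ((h⁻¹ * u) ^ j)⁻¹ := by
            rw [pow_succ]; group
        _ = u ^ j * (u * d * u⁻¹) * (u ^ j)⁻¹ := by rw [h1, ih _ hd']
        _ = u ^ (j + 1) * d * (u ^ (j + 1))⁻¹ := by rw [pow_succ]; group
  obtain ⟨j, hj⟩ := exists_odd_pow (h⁻¹ * u)
  have hz := centralize_of_lt hmax hR2 hlt (pow_mem hnR _) hj
  refine huC (mem_of_two_pow_mem ho (k := j) (mem_centralizer_iff.2 fun d hd => ?_))
  have h3 := hact (2 ^ j) d hd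
  rw [← mem_centralizer_iff.1 hz d (mem_sup_left hd)] at h3
  rw [mul_inv_cancel_right] at h3
  calc d * u ^ 2 ^ j = (u ^ 2 ^ j * d * (u ^ 2 ^ j)⁻¹) * u ^ 2 ^ j := by rw [← h3]
    _ = u ^ 2 ^ j * d := by group

/-- The configuration. -/
structure Config (P : Subgroup G) where
  D : Subgroup G
  x : G
  u : G
  le : D ≤ P
  xP : x ∈ P
  xD : x ∉ D
  uD : u ∈ normalizer (D : Set G)
  odd : Odd (orderOf u)
  uC : u ∉ centralizer (D : Set G)
  xnorm : x ∈ normalizer (D : Set G)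
  index : ∀ y ∈ P, y ∉ D → x⁻¹ * y ∈ D
  sq : x * x ∈ D
  central : ∀ z ∈ P, z ∈ centralizer (P : Set G) → z ∈ D
  inverts : ∃ d ∈ D, ∃ c ∈ centralizer (D : Set G), x * u * x⁻¹ = d * c * u⁻¹

theorem nonempty_config (P : Sylow 2 G)
    (hcl : ∀ a ∈ (P : Subgroup G), ∀ b ∈ (P : Subgroup G), ⁅a, b⁆ ∈ centralizer ((P : Subgroup G) : Set G))
    (hNP : ∀ n ∈ normalizer ((P : Subgroup G) : Set G), Odd (orderOf n) →
      n ∈ centralizer ((P : Subgroup G) : Set G))
    (hno : ¬ Cfsg.HasNormalPComplement 2 G) : Nonempty (Config (P : Subgroup G)) := by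
  haveI : Fact (Nat.Prime 2) := ⟨Nat.prime_two⟩
  have hne : {E : Subgroup G | Bad E}.Nonempty := by
    by_contra h
    rw [Set.not_nonempty_iff_eq_empty] at h
    refine hno (Transfer.hasNormalPComplement_of_centralizer P fun Q hQ g hg hco => ?_)
    by_contra hgC
    exact (Set.eq_empty_iff_forall_notMem.1 h) Q
      ⟨P.2.to_le hQ, g, hg, Nat.coprime_two_right.1 hco, hgC⟩
  obtain ⟨D₀, hD₀, hmax₀⟩ := Set.exists_max_image _ (fun E : Subgroup G => Nat.card E)
    (Set.toFinite _) hne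
  obtain ⟨T, hT⟩ := hD₀.1.exists_le_sylow
  obtain ⟨g, hg⟩ := MulAction.exists_smul_eq G T P
  set D := MulAut.conj g • D₀ with hDdef
  have hD : Bad D := Bad.conj hD₀ g
  have hmax : ∀ E : Subgroup G, Bad E → Nat.card E ≤ Nat.card D := fun E hE => by
    rw [hDdef, Coprime.card_conj_smul]; exact hmax₀ E hE
  have hDP : D ≤ (P : Subgroup G) := by
    rw [← hg]
    exact Subgroup.pointwise_smul_le_pointwise_smul_iff.2 hT
  have hcentral : ∀ z ∈ (P : Subgroup G), z ∈ centralizer ((P : Subgroup G) : Set G) → z ∈ D := by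
    intro z hz hzc
    obtain ⟨k, hk⟩ := P.2 ⟨z, hz⟩
    exact mem_of_centralize hD hmax (centralizer_le hDP hzc)
      ⟨k, congrArg Subtype.val hk⟩
  have hcomm : ∀ a ∈ (P : Subgroup G), ∀ b ∈ (P : Subgroup G), ⁅a, b⁆ ∈ D := fun a ha b hb =>
    hcentral _ (by rw [commutatorElement_def]; exact mul_mem (mul_mem (mul_mem ha hb) (inv_mem ha)) (inv_mem hb))
      (hcl a ha b hb)
  have hPD : (P : Subgroup G) ≤ normalizer (D : Set G) := by
    intro y hy
    refine Coprime.mem_normalizer_of_conj_smul_eq (eq_of_le_of_card_ge ?_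
      (Coprime.card_conj_smul y D).ge)
    rintro _ ⟨d, hd, rfl⟩
    show y * d * y⁻¹ ∈ D
    rw [show y * d * y⁻¹ = ⁅y, d⁆ * d by rw [commutatorElement_def]; group]
    exact mul_mem (hcomm y hy d (hDP hd)) hd
  have hmem := fun c => mem_of_centralize (c := c) hD hmax
  obtain ⟨h2, u, hu, ho, huC⟩ := hD
  have hDlt : Nat.card D < Nat.card (P : Subgroup G) := by
    refine (card_le_of_le hDP).lt_of_ne fun e => ?_
    have he := eq_of_le_of_card_ge hDP e.ge
    exact huC (by rw [he] at hu ⊢; exact hNP u hu ho)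
  set L := normalizer (D : Set G) with hL
  set C := centralizer (D : Set G) with hC
  have hCL : C ≤ L := centralizer_le_normalizer _
  have hDL : D ≤ L := le_normalizer
  have hCn : L ≤ normalizer (C : Set G) := normalizer_le_normalizer_centralizer D
  have hN0 : L ≤ normalizer ((D ⊔ C : Subgroup G) : Set G) := fun g hg =>
    Coprime.mem_normalizer_of_conj_smul_eq (by
      rw [smul_sup, Coprime.conj_smul_eq_self_of_mem (hCn hg), Coprime.conj_smul_eq_self_of_mem hg])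
  haveI : ((D ⊔ C).subgroupOf L).Normal :=
    (normal_subgroupOf_iff_le_normalizer (sup_le hDL hCL)).2 hN0
  set π := QuotientGroup.mk' ((D ⊔ C).subgroupOf L) with hπdef
  have hπs : Function.Surjective π := QuotientGroup.mk'_surjective _
  have hker : ∀ g : L, π g = 1 ↔ (g : G) ∈ D ⊔ C := fun g =>
    (QuotientGroup.eq_one_iff g).trans mem_subgroupOf
  have hsup : ∀ {g : G}, g ∈ D ⊔ C → ∃ d ∈ D, ∃ c ∈ C, g = d * c := by
    intro g hg
    rw [← SetLike.mem_coe, coe_mul_of_right_le_normalizer_left D C hCL] at hg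
    obtain ⟨d, hd, c, hc, rfl⟩ := hg
    exact ⟨d, hd, c, hc, rfl⟩
  -- Frattini: odd elements of the quotient normalising the image of a larger 2-group are trivial
  have key : ∀ R : Subgroup G, D ≤ R → R ≤ (P : Subgroup G) → R ≠ D → ∀ m : L,
      Odd (orderOf (π m)) → (∀ r : G, r ∈ R → (m : G) * r * (m : G)⁻¹ ∈ R ⊔ C) → π m = 1 := by
    intro R hDR hRP hne m hodd hnorm
    have hlt : Nat.card D < Nat.card R :=
      (card_le_of_le hDR).lt_of_ne fun e => hne (eq_of_le_of_card_ge hDR e.ge).symm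
    have hR2 : IsPGroup 2 R := P.2.to_le hRP
    have hRL : R ≤ L := hRP.trans hPD
    set K := R ⊔ C with hK
    have hmK : (m : G) ∈ normalizer (K : Set G) := by
      refine Coprime.mem_normalizer_of_conj_smul_eq (eq_of_le_of_card_ge ?_
        (Coprime.card_conj_smul _ K).ge)
      rw [hK, smul_sup]
      refine sup_le ?_ ?_
      · rintro _ ⟨r, hr, rfl⟩
        exact hnorm r hr
      · exact (Coprime.conj_smul_eq_self_of_mem (hCn m.2)).le.trans le_sup_right
    obtain ⟨S, hS⟩ := ((hR2.of_equiv (subgroupOfEquivOfLe (le_sup_left : R ≤ K)).symm :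
      IsPGroup 2 (R.subgroupOf K))).exists_le_sylow
    have hSR : (S : Subgroup K).map K.subtype = R := by
      refine le_antisymm ?_ fun r hr => ⟨⟨r, mem_sup_left hr⟩, hS (mem_subgroupOf.2 hr), rfl⟩
      rintro _ ⟨z, hz, rfl⟩
      obtain ⟨r, hr, c, hc, he⟩ : ∃ r ∈ R, ∃ c ∈ C, (z : G) = r * c := by
        have hz' : (z : G) ∈ R ⊔ C := z.2
        rw [← SetLike.mem_coe, coe_mul_of_left_le_normalizer_right R C (hRL.trans hCn)] at hz'
        obtain ⟨r, hr, c, hc, he⟩ := hz'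
        exact ⟨r, hr, c, hc, he.symm⟩
      have hrS : (⟨r, mem_sup_left hr⟩ : K) ∈ (S : Subgroup K) := hS (mem_subgroupOf.2 hr)
      obtain ⟨k, hk⟩ := S.2 ⟨_, mul_mem (inv_mem hrS) hz⟩
      have hk' : c ^ 2 ^ k = 1 := by
        have := congrArg (fun t : (S : Subgroup K) => ((t : K) : G)) hk
        simpa [he] using this
      show (z : G) ∈ R
      rw [he]
      exact mul_mem hr (hDR (hmem c hc ⟨k, hk'⟩))
    obtain ⟨h, hh, hhm⟩ := Coprime.exists_mem_conj_sylow_eq S hmK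
    rw [hSR] at hhm
    have hn : h⁻¹ * (m : G) ∈ normalizer (R : Set G) := Coprime.mem_normalizer_of_conj_smul_eq (by
      rw [← Coprime.conj_smul_smul, ← hhm, Coprime.conj_smul_smul, inv_mul_cancel, map_one,
        one_smul])
    have hKL : K ≤ L := sup_le hRL hCL
    obtain ⟨j, hj⟩ := exists_odd_pow (h⁻¹ * (m : G))
    have hz := centralize_of_lt hmax hR2 hlt (pow_mem hn _) hj
    set n : L := ⟨h⁻¹ * (m : G), mul_mem (inv_mem (hKL hh)) m.2⟩ with hndef
    have hn2 : π n ^ 2 ^ j = 1 := by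
      rw [← map_pow, hker]
      exact mem_sup_right (centralizer_le hDR hz)
    set Q := (R.subgroupOf L).map π with hQ
    have hQ2 : IsPGroup 2 Q := (hR2.of_equiv (subgroupOfEquivOfLe hRL).symm).map π
    have hnQ : π n ∈ normalizer (Q : Set _) := by
      refine Coprime.mem_normalizer_of_conj_smul_eq (eq_of_le_of_card_ge ?_
        (Coprime.card_conj_smul _ Q).ge)
      rintro _ ⟨_, ⟨r, hr, rfl⟩, rfl⟩
      refine ⟨n * r * n⁻¹, ?_, by simp⟩
      exact mem_subgroupOf.2 ((mem_normalizer_iff.1 hn _).1 hr)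
    obtain ⟨i, -, hi⟩ := (Nat.dvd_prime_pow Nat.prime_two).1 (orderOf_dvd_of_pow_eq_one hn2)
    have h2' : IsPGroup 2 (Q ⊔ zpowers (π n) : Subgroup _) :=
      hQ2.to_sup_of_normal_left' (IsPGroup.of_card (n := i) (by rw [Nat.card_zpowers, hi]))
        (zpowers_le.2 hnQ)
    have hhQ : π ⟨h, hKL hh⟩ ∈ Q := by
      have hh' := hh
      obtain ⟨r, hr, c, hc, he⟩ : ∃ r ∈ R, ∃ c ∈ D ⊔ C, h = r * c := by
        have : h ∈ R ⊔ (D ⊔ C) := by
          rw [← sup_assoc, sup_eq_left.2 hDR]; exact hh'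
        rw [← SetLike.mem_coe, coe_mul_of_left_le_normalizer_right R (D ⊔ C) (hRL.trans hN0)] at this
        obtain ⟨r, hr, c, hc, he⟩ := this
        exact ⟨r, hr, c, hc, he.symm⟩
      refine ⟨⟨r, hRL hr⟩, mem_subgroupOf.2 hr, ?_⟩
      have : π ⟨c, (sup_le hDL hCL) hc⟩ = 1 := (hker _).2 hc
      rw [show (⟨h, hKL hh⟩ : L) = ⟨r, hRL hr⟩ * ⟨c, (sup_le hDL hCL) hc⟩ from Subtype.ext he,
        map_mul, this, mul_one]
    have hm : π m = π ⟨h, hKL hh⟩ * π n := by
      rw [← map_mul]; congr 1; exact Subtype.ext (by simp [hndef])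
    have hmQ : π m ∈ Q ⊔ zpowers (π n) :=
      hm ▸ mul_mem (mem_sup_left hhQ) (mem_sup_right (mem_zpowers _))
    obtain ⟨k, hk⟩ := h2' ⟨π m, hmQ⟩
    exact eq_one_of_two_odd hodd (congrArg Subtype.val hk)
  -- the quotient has a normal 2-complement
  set S₂ := (P.subtype hPD).mapSurjective hπs with hS2
  have hS2mem : ∀ {z : L ⧸ (D ⊔ C).subgroupOf L}, z ∈ (S₂ : Subgroup _) → ∃ y : L, (y : G) ∈ (P : Subgroup G) ∧ π y = z := by
    intro z hz
    rw [hS2, Sylow.coe_mapSurjective, Sylow.coe_subtype] at hz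
    obtain ⟨y, hy, rfl⟩ := hz
    exact ⟨y, hy, rfl⟩
  have hmemS2 : ∀ {y : L}, (y : G) ∈ (P : Subgroup G) → π y ∈ (S₂ : Subgroup _) := by
    intro y hy
    rw [hS2, Sylow.coe_mapSurjective, Sylow.coe_subtype]
    exact mem_map_of_mem _ (mem_subgroupOf.2 hy)
  have hab : ∀ a : L ⧸ (D ⊔ C).subgroupOf L, a ∈ (S₂ : Subgroup _) →
      ∀ b ∈ (S₂ : Subgroup _), a * b = b * a := by
    intro a ha b hb
    obtain ⟨y, hy, rfl⟩ := hS2mem ha
    obtain ⟨z, hz, rfl⟩ := hS2mem hb
    rw [← commutatorElement_eq_one_iff_mul_comm, ← map_commutatorElement, hker]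
    exact mem_sup_left (hcomm _ hy _ hz)
  have hPne : (P : Subgroup G) ≠ D := fun e => hDlt.ne (by rw [e])
  obtain ⟨P₁, O, hOn, hO⟩ : Cfsg.HasNormalPComplement 2 (L ⧸ (D ⊔ C).subgroupOf L) := by
    refine Transfer.hasNormalPComplement_of_normalizer_le_centralizer S₂ fun z hz => ?_
    obtain ⟨k, hk⟩ := exists_odd_pow z
    obtain ⟨m, hm⟩ := hπs (z ^ 2 ^ k)
    have hz1 : z ^ 2 ^ k = 1 := by
      rw [← hm]
      refine key P hDP le_rfl hPne m (hm.symm ▸ hk) fun r hr => ?_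
      have hrL : r ∈ L := hPD hr
      have h1 : π (m * ⟨r, hrL⟩ * m⁻¹) ∈ (S₂ : Subgroup _) := by
        rw [map_mul, map_mul, map_inv, hm]
        exact (mem_normalizer_iff.1 (pow_mem hz _) _).1 (hmemS2 hr)
      obtain ⟨y, hy, hye⟩ := hS2mem h1
      have h2 : (y⁻¹ * (m * ⟨r, hrL⟩ * m⁻¹) : L).1 ∈ D ⊔ C := by
        rw [← hker, map_mul, map_inv, hye, inv_mul_cancel]
      have h3 := mul_mem (mem_sup_left hy : (y : G) ∈ (P : Subgroup G) ⊔ C)
        ((sup_le_sup_right hDP C) h2)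
      simpa [mul_assoc] using h3
    obtain ⟨i, -, hi⟩ := (Nat.dvd_prime_pow Nat.prime_two).1 (orderOf_dvd_of_pow_eq_one hz1)
    have hzS : z ∈ (S₂ : Subgroup _) := by
      have hg2 := S₂.2.to_sup_of_normal_left' (K := zpowers z)
        (IsPGroup.of_card (n := i) (by rw [Nat.card_zpowers, hi])) (zpowers_le.2 hz)
      exact (S₂.3 hg2 le_sup_left) ▸ (mem_sup_right (mem_zpowers z))
    exact mem_centralizer_iff.2 fun a ha => hab a ha z hzS
  haveI := hOn
  have hOodd : Odd (Nat.card O) := by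
    rw [← hO.index_eq_card]
    exact Nat.not_even_iff_odd.1 fun he => P₁.not_dvd_index he.two_dvd
  have hmemO : ∀ z, Odd (orderOf z) → z ∈ O := by
    intro z hz
    rw [← QuotientGroup.eq_one_iff]
    obtain ⟨k, hk⟩ := P₁.2.exists_card_eq
    refine orderOf_eq_one_iff.1 (Nat.eq_one_of_dvd_coprimes
      ((Nat.coprime_two_right.2 hz).pow_right k) (orderOf_map_dvd (QuotientGroup.mk' O) z) ?_)
    have hidx : O.index = Nat.card (P₁ : Subgroup (L ⧸ (D ⊔ C).subgroupOf L)) :=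
      hO.symm.index_eq_card
    rw [← hk, ← hidx, index_eq_card]
    exact orderOf_dvd_natCard _
  have hfpf : ∀ y : L, (y : G) ∈ (P : Subgroup G) → (y : G) ∉ D →
      ∀ z ∈ O, π y * z * (π y)⁻¹ = z → z = 1 := by
    intro y hy hyD z hz hfix
    obtain ⟨m, rfl⟩ := hπs z
    set R := D ⊔ zpowers (y : G) with hR
    refine key R le_sup_left (sup_le hDP (zpowers_le.2 hy)) ?_ m ?_ ?_
    · intro e
      exact hyD (e ▸ (mem_sup_right (mem_zpowers _) : (y : G) ∈ D ⊔ zpowers (y : G)))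
    · exact hOodd.of_dvd_nat (Subgroup.orderOf_dvd_natCard O hz)
    · intro r hr
      have hRL : R ≤ L := (sup_le hDP (zpowers_le.2 hy)).trans hPD
      have hc' : π (m * y * m⁻¹ * y⁻¹) = 1 := by
        rw [map_mul, map_mul, map_mul, map_inv, map_inv,
          show π m * π y = π y * π m from (mul_inv_eq_iff_eq_mul.1 hfix).symm]
        group
      have hle : R ≤ (R ⊔ C).comap (MulAut.conj (m : G)).toMonoidHom := by
        refine sup_le (fun d hd => ?_) (zpowers_le.2 ?_)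
        · exact mem_sup_left (mem_sup_left ((mem_normalizer_iff.1 m.2 d).1 hd))
        · show (m : G) * y * (m : G)⁻¹ ∈ R ⊔ C
          have h1 : ((m * y * m⁻¹ * y⁻¹ : L) : G) ∈ R ⊔ C :=
            (sup_le_sup_right le_sup_left C) ((hker _).1 hc')
          simpa [mul_assoc] using mul_mem h1
            (mem_sup_left (mem_sup_right (mem_zpowers (y : G))) : (y : G) ∈ R ⊔ C)
      exact hle hr
  -- the image of `u`
  have huO : π ⟨u, hu⟩ ∈ O := hmemO _ (ho.of_dvd_nat (by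
    simpa using orderOf_map_dvd π (⟨u, hu⟩ : L)))
  have hu1 : π ⟨u, hu⟩ ≠ 1 := by
    rw [Ne, hker]
    intro h
    obtain ⟨d, hd, c, hc, he⟩ := hsup h
    obtain ⟨k, hk⟩ := h2 ⟨d, hd⟩
    refine huC (mem_of_two_pow_mem ho (k := k) ?_)
    have hdc : Commute d c := mem_centralizer_iff.1 hc d hd
    show (u : G) ^ 2 ^ k ∈ C
    rw [show u = d * c from he, hdc.mul_pow, show d ^ 2 ^ k = 1 from congrArg Subtype.val hk, one_mul]
    exact pow_mem hc _
  -- squares of elements of `P` lie in `D`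
  set Φ := (frattini D).map D.subtype with hΦ
  have hΦN : L ≤ normalizer (Φ : Set G) := le_normalizer_map_char' (frattini D)
  have hsqD : ∀ y ∈ (P : Subgroup G), y * y ∈ D := by
    intro y hy
    by_contra hyD
    refine hu1 (hfpf ⟨y * y, mul_mem (hPD hy) (hPD hy)⟩ (mul_mem hy hy) hyD _ huO ?_)
    have hT : y * y ∈ trivOn D Φ := by
      refine ⟨mul_mem (hPD hy) (hPD hy), hΦN (mul_mem (hPD hy) (hPD hy)), fun d hd => ?_⟩
      have hzc := mem_centralizer_iff.1 (hcl y hy d (hDP hd)) y hy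
      have hzD := hcomm y hy d (hDP hd)
      have e : y * y * d * (y * y)⁻¹ * d⁻¹ = ⁅y, d⁆ ^ 2 := by
        rw [commutatorElement_def] at hzc ⊢
        calc y * y * d * (y * y)⁻¹ * d⁻¹
            = (y * (y * d * y⁻¹ * d⁻¹)) * y⁻¹ * (y * d * y⁻¹ * d⁻¹) := by group
          _ = ((y * d * y⁻¹ * d⁻¹) * y) * y⁻¹ * (y * d * y⁻¹ * d⁻¹) := by rw [hzc]
          _ = (y * d * y⁻¹ * d⁻¹) ^ 2 := by rw [sq]; group
      rw [e]
      exact ⟨⟨⁅y, d⁆, hzD⟩ ^ 2, PGroup.pow_mem_frattini h2 _, rfl⟩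
    set k : G := y * y * u * (y * y)⁻¹ * u⁻¹ with hk
    have hkT : k ∈ trivOn D Φ := by
      have hc : u * (y * y)⁻¹ * u⁻¹ ∈ trivOn D Φ := by
        have hi := inv_mem hT
        refine ⟨mul_mem (mul_mem hu hi.1) (inv_mem hu),
          mul_mem (mul_mem (hΦN hu) hi.2.1) (inv_mem (hΦN hu)), fun d hd => ?_⟩
        have hd' : u⁻¹ * d * u ∈ D := by simpa using (mem_normalizer_iff.1 (inv_mem hu) d).1 hd
        have h := (mem_normalizer_iff.1 (hΦN hu) _).1 (hi.2.2 _ hd')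
        convert h using 1
        group
      rw [show k = (y * y) * (u * (y * y)⁻¹ * u⁻¹) by rw [hk]; group]
      exact mul_mem hT hc
    obtain ⟨j, hj⟩ := exists_odd_pow k
    have hkC : k ^ 2 ^ j ∈ C := by
      haveI : Fact (Nat.Prime 2) := ⟨Nat.prime_two⟩
      refine Coprime.le_centralizer_of_frattini (A := zpowers (k ^ 2 ^ j)) (K := D)
        (zpowers_le.2 (pow_mem hkT.1 _)) ?_ ?_ (mem_zpowers _)
      · rw [Nat.card_zpowers]
        obtain ⟨n, hn⟩ := (h2.to_subgroup (frattini D)).exists_card_eq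
        rw [hn]
        exact (Nat.coprime_two_right.2 hj).pow_right n
      · intro a ha d hd
        exact ((zpowers_le.2 (pow_mem hkT _)) ha : a ∈ trivOn D Φ).2.2 d hd
    set kL : L := ⟨y * y, mul_mem (hPD hy) (hPD hy)⟩ * ⟨u, hu⟩ *
      (⟨y * y, mul_mem (hPD hy) (hPD hy)⟩ : L)⁻¹ * (⟨u, hu⟩ : L)⁻¹ with hkL
    have hkO : π kL ∈ O := by
      rw [hkL, map_mul, map_mul, map_mul, map_inv, map_inv]
      exact mul_mem (hOn.conj_mem _ huO _) (inv_mem huO)
    have h1 : π kL ^ 2 ^ j = 1 := by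
      rw [← map_pow, hker]
      exact mem_sup_right hkC
    have h0 : π kL = 1 := eq_one_of_two_odd
      (hOodd.of_dvd_nat (Subgroup.orderOf_dvd_natCard O hkO)) h1
    rw [hkL, map_mul, map_mul, map_mul, map_inv, map_inv] at h0
    exact mul_inv_eq_one.1 h0
  obtain ⟨x, hxP, hxD⟩ : ∃ x ∈ (P : Subgroup G), x ∉ D := by
    by_contra h
    simp only [not_exists, not_and, not_not] at h
    exact hPne (le_antisymm h hDP)
  -- elements of `P` outside `D` invert `O`
  have hinv : ∀ y : L, (y : G) ∈ (P : Subgroup G) → (y : G) ∉ D →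
      ∀ z ∈ O, π y * z * (π y)⁻¹ = z⁻¹ := by
    intro y hy hyD z hz
    set f : O →* O := (MulAut.conjNormal (π y) : MulAut O).toMonoidHom with hf
    have hfp : MonoidHom.FixedPointFree f := by
      intro w hw
      have h := congrArg Subtype.val hw
      rw [hf, MulEquiv.coe_toMonoidHom, MulAut.conjNormal_apply] at h
      exact Subtype.ext (hfpf y hy hyD w w.2 h)
    have hy2 : π y * π y = 1 := by
      rw [← map_mul, hker]; exact mem_sup_left (hsqD _ hy)
    have hiv : Function.Involutive f := by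
      intro w
      apply Subtype.ext
      rw [hf, MulEquiv.coe_toMonoidHom, MulAut.conjNormal_apply, MulAut.conjNormal_apply,
        inv_eq_of_mul_eq_one_right hy2, mul_assoc, mul_assoc, hy2, mul_one, ← mul_assoc, hy2,
        one_mul]
    have h := congrArg Subtype.val (congrFun (hfp.coe_eq_inv_of_involutive hiv) ⟨z, hz⟩)
    rw [hf, MulEquiv.coe_toMonoidHom, MulAut.conjNormal_apply] at h
    exact h
  have hindex : ∀ y ∈ (P : Subgroup G), y ∉ D → x⁻¹ * y ∈ D := by
    intro y hy hyD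
    by_contra hw
    refine hu1 (hfpf (⟨x, hPD hxP⟩⁻¹ * ⟨y, hPD hy⟩) (mul_mem (inv_mem hxP) hy) hw _ huO ?_)
    have h1 := hinv ⟨y, hPD hy⟩ hy hyD _ huO
    have hxi : x⁻¹ ∉ D := fun h => hxD (inv_mem_iff.1 h)
    have h2 := hinv (⟨x, hPD hxP⟩⁻¹) (inv_mem hxP) hxi _ (inv_mem huO)
    rw [map_mul, mul_inv_rev, show ∀ a b c : L ⧸ (D ⊔ C).subgroupOf L,
      a * b * c * (b⁻¹ * a⁻¹) = a * (b * c * b⁻¹) * a⁻¹ from fun a b c => by group, h1, h2, inv_inv]
  have hux : ((⟨x, hPD hxP⟩ * ⟨u, hu⟩ * (⟨x, hPD hxP⟩ : L)⁻¹ * ⟨u, hu⟩ : L) : G) ∈ D ⊔ C := by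
    rw [← hker, map_mul, map_mul, map_mul, map_inv, hinv ⟨x, hPD hxP⟩ hxP hxD _ huO,
      inv_mul_cancel]
  obtain ⟨d, hd, c, hc, he⟩ := hsup hux
  exact ⟨⟨D, x, u, hDP, hxP, hxD, hu, ho, huC, hPD hxP, hindex, hsqD x hxP, hcentral,
    d, hd, c, hc, by rw [← he]; simp⟩⟩

end Cfsg.Agent.FTConsumers.ClassTwo
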