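import Cfsg.Agent.Lib.FTConsumers.ClassTwoConfig

/-!
# Self-normalising invariant Sylow 2-subgroups of class two

If an odd group acts, `P` is invariant of class at most two and the normaliser of every nontrivial
invariant normal subgroup of `P` is `P` times an odd centralising part, there is a normal
2-complement: the translates of the noncentral part of the configuration stay inside it.
-/

set_option autoImplicit false
set_option linter.style.haveILetI false

namespace Cfsg.Agent.FTConsumers.ClassTwo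

open Subgroup
open scoped commutatorElement Pointwise

universe u v

variable {G : Type u} [Group G] [Finite G] {P : Subgroup G}

theorem comm_mem (hP : ∀ a ∈ P, ∀ b ∈ P, ⁅a, b⁆ ∈ centralizer (P : Set G)) {a b : G} (ha : a ∈ P)
    (hb : b ∈ P) : ⁅a, b⁆ ∈ P ∧ ⁅a, b⁆ ∈ centralizer (P : Set G) :=
  ⟨by rw [commutatorElement_def]; exact mul_mem (mul_mem (mul_mem ha hb) (inv_mem ha)) (inv_mem hb),
    hP a ha b hb⟩

theorem comm_mul_left (hP : ∀ a ∈ P, ∀ b ∈ P, ⁅a, b⁆ ∈ centralizer (P : Set G)) {a b c : G}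
    (ha : a ∈ P) (hb : b ∈ P) (hc : c ∈ P) : ⁅a * b, c⁆ = ⁅a, c⁆ * ⁅b, c⁆ := by
  have h1 := mem_centralizer_iff.1 (hP b hb c hc) a ha
  have h2 := mem_centralizer_iff.1 (hP a ha c hc) _ (comm_mem hP hb hc).1
  calc ⁅a * b, c⁆ = a * ⁅b, c⁆ * a⁻¹ * ⁅a, c⁆ := by simp only [commutatorElement_def]; group
    _ = ⁅b, c⁆ * ⁅a, c⁆ := by rw [h1, mul_inv_cancel_right]
    _ = ⁅a, c⁆ * ⁅b, c⁆ := h2

theorem comm_mul_right (hP : ∀ a ∈ P, ∀ b ∈ P, ⁅a, b⁆ ∈ centralizer (P : Set G)) {a b c : G}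
    (ha : a ∈ P) (hb : b ∈ P) (hc : c ∈ P) : ⁅a, b * c⁆ = ⁅a, b⁆ * ⁅a, c⁆ := by
  have h1 := mem_centralizer_iff.1 (hP a ha c hc) b hb
  calc ⁅a, b * c⁆ = ⁅a, b⁆ * (b * ⁅a, c⁆ * b⁻¹) := by simp only [commutatorElement_def]; group
    _ = ⁅a, b⁆ * ⁅a, c⁆ := by rw [h1, mul_inv_cancel_right]

theorem pow_conj_eq {u z e : G} (hz : Commute u z) (he : u * e * u⁻¹ = z * e) :
    ∀ n : ℕ, u ^ n * e * (u ^ n)⁻¹ = z ^ n * e := by
  intro n
  induction n with
  | zero => simp
  | succ n ih =>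
    calc u ^ (n + 1) * e * (u ^ (n + 1))⁻¹ = u ^ n * (u * e * u⁻¹) * (u ^ n)⁻¹ := by
          rw [pow_succ]; group
      _ = (u ^ n * z * (u ^ n)⁻¹) * (u ^ n * e * (u ^ n)⁻¹) := by rw [he]; group
      _ = z * (z ^ n * e) := by rw [ih, (hz.pow_left n).eq, mul_inv_cancel_right]
      _ = z ^ (n + 1) * e := by rw [pow_succ']; group

/-- An odd translation by a fixed 2-element is trivial. -/
theorem eq_one_of_translate {u z e : G} (ho : Odd (orderOf u)) (hz : Commute u z)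
    (hz2 : ∃ k : ℕ, z ^ 2 ^ k = 1) (he : u * e * u⁻¹ = z * e) : z = 1 := by
  have h := pow_conj_eq hz he (orderOf u)
  rw [pow_orderOf_eq_one, one_mul, inv_one, mul_one, right_eq_mul] at h
  obtain ⟨k, hk⟩ := hz2
  exact eq_one_of_two_odd (ho.of_dvd_nat (orderOf_dvd_of_pow_eq_one h)) hk

namespace Config

variable (c : Config P) (hP2 : IsPGroup 2 P)
  (hcl : ∀ a ∈ P, ∀ b ∈ P, ⁅a, b⁆ ∈ centralizer (P : Set G))

/-- The centre of `D`. -/
def ZD : Subgroup G := c.D ⊓ centralizer (c.D : Set G)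

theorem u_ZD : c.u ∈ normalizer (c.ZD : Set G) :=
  Coprime.le_normalizer_inf_of_le (A := normalizer (c.D : Set G)) le_rfl
    (normalizer_le_normalizer_centralizer c.D) c.uD

theorem x_ZD : c.x ∈ normalizer (c.ZD : Set G) :=
  Coprime.le_normalizer_inf_of_le (A := normalizer (c.D : Set G)) le_rfl
    (normalizer_le_normalizer_centralizer c.D) c.xnorm

theorem two_pow {z : G} (hP2 : IsPGroup 2 P) (hz : z ∈ P) : ∃ k : ℕ, z ^ 2 ^ k = 1 := by
  obtain ⟨k, hk⟩ := hP2 ⟨z, hz⟩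
  exact ⟨k, congrArg Subtype.val hk⟩

include hcl in
theorem comm_ZD {a b : G} (ha : a ∈ P) (hb : b ∈ P) : ⁅a, b⁆ ∈ c.ZD :=
  ⟨c.central _ (comm_mem hcl ha hb).1 (hcl a ha b hb), centralizer_le c.le (hcl a ha b hb)⟩

theorem conj_xux {s : G} (hs : s ∈ c.ZD) :
    c.x * c.u * c.x⁻¹ * s * (c.x * c.u * c.x⁻¹)⁻¹ = c.u⁻¹ * s * c.u := by
  obtain ⟨d, hd, e, he, heq⟩ := c.inverts
  have hs' : c.u⁻¹ * s * c.u ∈ c.ZD := by
    simpa using (mem_normalizer_iff.1 (inv_mem c.u_ZD) s).1 hs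
  set t := c.u⁻¹ * s * c.u with ht
  calc c.x * c.u * c.x⁻¹ * s * (c.x * c.u * c.x⁻¹)⁻¹ = d * (e * t * e⁻¹) * d⁻¹ := by
        rw [heq, ht]; group
    _ = d * t * d⁻¹ := by rw [← mem_centralizer_iff.1 he t hs'.1, mul_inv_cancel_right]
    _ = t := by rw [mem_centralizer_iff.1 hs'.2 d hd, mul_inv_cancel_right]

theorem fix {s : G} (hs : s ∈ c.ZD) (h1 : Commute c.x s) (h2 : Commute c.x (c.u * s * c.u⁻¹)) :
    Commute c.u s := by
  have h := c.conj_xux hs
  have e1 : c.x⁻¹ * s * c.x = s := by rw [mul_assoc, ← h1.eq, inv_mul_cancel_left]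
  have h' : c.u * s * c.u⁻¹ = c.u⁻¹ * s * c.u := by
    rw [← h]
    calc c.u * s * c.u⁻¹ = c.x * (c.u * s * c.u⁻¹) * c.x⁻¹ := by rw [h2.eq, mul_inv_cancel_right]
      _ = c.x * c.u * (c.x⁻¹ * s * c.x) * c.u⁻¹ * c.x⁻¹ := by rw [e1]; group
      _ = _ := by group
  have h2' : c.u ^ 2 * s = s * c.u ^ 2 := by
    calc c.u ^ 2 * s = c.u * (c.u * s * c.u⁻¹) * c.u := by rw [pow_two]; group
      _ = c.u * (c.u⁻¹ * s * c.u) * c.u := by rw [h']
      _ = s * c.u ^ 2 := by rw [pow_two]; group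
  have h3 : c.u ∈ centralizer ({s} : Set G) :=
    mem_of_two_pow_mem c.odd (k := 1) (mem_centralizer_singleton_iff.2 (by rw [pow_one]; exact h2'))
  exact mem_centralizer_singleton_iff.1 h3

include hcl in
theorem sq_comm {s : G} (hs : s ∈ c.ZD) : ⁅c.x, s⁆ * ⁅c.x, s⁆ = 1 := by
  rw [← comm_mul_left hcl c.xP c.xP (c.le hs.1), commutatorElement_eq_one_iff_mul_comm]
  exact mem_centralizer_iff.1 hs.2 _ c.sq

include hcl in
theorem sqfix {s : G} (hs : s ∈ c.ZD) : Commute c.u (s * s) := by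
  have key : ∀ {t : G}, t ∈ c.ZD → Commute c.x (t * t) := fun {t} ht => by
    show c.x * (t * t) = t * t * c.x
    rw [← commutatorElement_eq_one_iff_mul_comm, comm_mul_right hcl c.xP (c.le ht.1) (c.le ht.1)]
    exact c.sq_comm hcl ht
  refine c.fix (mul_mem hs hs) (key hs) ?_
  rw [show c.u * (s * s) * c.u⁻¹ = (c.u * s * c.u⁻¹) * (c.u * s * c.u⁻¹) by group]
  exact key ((mem_normalizer_iff.1 c.u_ZD s).1 hs)

include hcl in
theorem commfix {a b : G} (ha : a ∈ c.D) (hb : b ∈ c.D) : Commute c.u ⁅a, b⁆ := by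
  refine c.fix (c.comm_ZD hcl (c.le ha) (c.le hb))
    (mem_centralizer_iff.1 (hcl a (c.le ha) b (c.le hb)) c.x c.xP) ?_
  rw [show c.u * ⁅a, b⁆ * c.u⁻¹ = ⁅c.u * a * c.u⁻¹, c.u * b * c.u⁻¹⁆ by
    simp only [commutatorElement_def]; group]
  exact mem_centralizer_iff.1 (hcl _ (c.le ((mem_normalizer_iff.1 c.uD a).1 ha)) _
    (c.le ((mem_normalizer_iff.1 c.uD b).1 hb))) c.x c.xP

include hcl in
theorem triv : c.u ∈ trivOn c.D c.ZD := by
  refine mem_of_two_pow_mem c.odd (k := 1) ?_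
  rw [pow_one]
  refine ⟨pow_mem c.uD 2, pow_mem c.u_ZD 2, fun d hd => ?_⟩
  -- conjugation by `x u x⁻¹` agrees with conjugation by `u` and by `u⁻¹` modulo the centre
  obtain ⟨d0, hd0, e, he, heq⟩ := c.inverts
  have hw : c.u * d * c.u⁻¹ ∈ c.D := (mem_normalizer_iff.1 c.uD d).1 hd
  set w := c.u * d * c.u⁻¹ with hwdef
  have he' : c.u⁻¹ * d * c.u ∈ c.D := by simpa using (mem_normalizer_iff.1 (inv_mem c.uD) d).1 hd
  set r := c.u⁻¹ * d * c.u with hr
  have hζ : c.x * (c.u * ⁅c.x⁻¹, d⁆ * c.u⁻¹) * c.x⁻¹ ∈ c.ZD :=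
    (mem_normalizer_iff.1 c.x_ZD _).1
      ((mem_normalizer_iff.1 c.u_ZD _).1 (c.comm_ZD hcl (inv_mem c.xP) (c.le hd)))
  set ζ := c.x * (c.u * ⁅c.x⁻¹, d⁆ * c.u⁻¹) * c.x⁻¹ * ⁅c.x, w⁆ with hζdef
  have hζZ : ζ ∈ c.ZD := mul_mem hζ (c.comm_ZD hcl c.xP (c.le hw))
  have ha : c.x * c.u * c.x⁻¹ * d * (c.x * c.u * c.x⁻¹)⁻¹ = ζ * w := by
    rw [hζdef, hwdef]; simp only [commutatorElement_def]; group
  have hb : c.x * c.u * c.x⁻¹ * d * (c.x * c.u * c.x⁻¹)⁻¹ = ⁅d0, r⁆ * r := by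
    calc c.x * c.u * c.x⁻¹ * d * (c.x * c.u * c.x⁻¹)⁻¹ = d0 * (e * r * e⁻¹) * d0⁻¹ := by
          rw [heq, hr]; group
      _ = d0 * r * d0⁻¹ := by rw [← mem_centralizer_iff.1 he r he', mul_inv_cancel_right]
      _ = ⁅d0, r⁆ * r := by simp only [commutatorElement_def]; group
  have hη : ζ⁻¹ * ⁅d0, r⁆ ∈ c.ZD := mul_mem (inv_mem hζZ) (c.comm_ZD hcl (c.le hd0) (c.le he'))
  have hwr : w = ζ⁻¹ * ⁅d0, r⁆ * r := by
    rw [mul_assoc, ← hb, ha, inv_mul_cancel_left]
  have h := (mem_normalizer_iff.1 c.u_ZD _).1 hη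
  convert h using 1
  rw [show c.u ^ 2 * d * (c.u ^ 2)⁻¹ = c.u * w * c.u⁻¹ by rw [pow_two, hwdef]; group, hwr, hr]
  group

/-- The translation part of `u`. -/
def f (d : G) : G := c.u * d * c.u⁻¹ * d⁻¹

include hcl in
theorem f_mem {d : G} (hd : d ∈ c.D) : c.f d ∈ c.ZD := (c.triv hcl).2.2 d hd

theorem f_conj (d : G) : c.f (c.u * d * c.u⁻¹) = c.u * c.f d * c.u⁻¹ := by
  simp only [f]; group

theorem eq_f_mul (d : G) : c.u * d * c.u⁻¹ = c.f d * d := by simp only [f]; group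

include hcl hP2 in
theorem f_sq {d : G} (hd : d ∈ c.D) : c.f d * c.f d = 1 := by
  have hv := c.f_mem hcl hd
  refine eq_one_of_translate c.odd (c.sqfix hcl hv) (two_pow hP2 (mul_mem (c.le hv.1) (c.le hv.1)))
    (e := d * d) ?_
  have h1 : d * c.f d = c.f d * d := mem_centralizer_iff.1 hv.2 d hd
  calc c.u * (d * d) * c.u⁻¹ = c.f d * (d * c.f d) * d := by simp only [f]; group
    _ = c.f d * (c.f d * d) * d := by rw [h1]
    _ = c.f d * c.f d * (d * d) := by group

include hcl hP2 in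
theorem f_eq_one {d : G} (hd : d ∈ c.D) (h : Commute c.u (c.f d)) : c.f d = 1 :=
  eq_one_of_translate c.odd h (two_pow hP2 (c.le (c.f_mem hcl hd).1)) (c.eq_f_mul d)

include hcl hP2 in
theorem not_all_trivial (h : ∀ d ∈ c.D, Commute c.u (c.f d)) : False :=
  c.uC (mem_centralizer_iff.2 fun d hd => by
    have e := c.eq_f_mul d
    rw [c.f_eq_one hP2 hcl hd (h d hd), one_mul] at e
    calc d * c.u = (c.u * d * c.u⁻¹) * c.u := by rw [e]
      _ = c.u * d := by group)

include hcl hP2 in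
theorem exists_moved : ∃ d ∈ c.D, ¬ Commute c.x (c.f d) := by
  by_contra h
  simp only [not_exists, not_and, not_not] at h
  refine c.not_all_trivial hP2 hcl fun d hd => c.fix (c.f_mem hcl hd) (h d hd) ?_
  rw [← f_conj]
  exact h _ ((mem_normalizer_iff.1 c.uD d).1 hd)

theorem mem_iff_commute {v : G} (hv : v ∈ c.ZD) (hx : ¬ Commute c.x v) {y : G} (hy : y ∈ P) :
    Commute y v ↔ y ∈ c.D := by
  refine ⟨fun h => ?_, fun h => mem_centralizer_iff.1 hv.2 y h⟩
  by_contra hyD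
  refine hx ?_
  have h1 : Commute (c.x⁻¹ * y) v := mem_centralizer_iff.1 hv.2 _ (c.index y hy hyD)
  simpa using h.mul_left (h1.inv_left)

include hcl in
theorem comm_cases {v : G} (hv : v ∈ c.ZD) {y : G} (hy : y ∈ P) :
    ⁅y, v⁆ = 1 ∨ ⁅y, v⁆ = ⁅c.x, v⁆ := by
  by_cases hyD : y ∈ c.D
  · exact Or.inl (commutatorElement_eq_one_iff_mul_comm.2 (mem_centralizer_iff.1 hv.2 y hyD))
  · refine Or.inr ?_
    have hd := c.index y hy hyD
    calc ⁅y, v⁆ = ⁅c.x * (c.x⁻¹ * y), v⁆ := by rw [mul_inv_cancel_left]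
      _ = ⁅c.x, v⁆ * ⁅c.x⁻¹ * y, v⁆ := comm_mul_left hcl c.xP (c.le hd) (c.le hv.1)
      _ = ⁅c.x, v⁆ := by
        rw [commutatorElement_eq_one_iff_mul_comm.2 (mem_centralizer_iff.1 hv.2 _ hd), mul_one]

include hcl hP2 in
/-- The commutator value is not fixed by `u`. -/
theorem not_commute_value {t : G} (ht : t ∈ P) (ht2 : t * t = 1)
    (h : ∀ d ∈ c.D, ⁅c.x, c.f d⁆ = 1 ∨ ⁅c.x, c.f d⁆ = t) : ¬ Commute c.u t := by
  intro hut
  refine c.not_all_trivial hP2 hcl fun d hd => ?_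
  have hu2 : Odd (orderOf (c.u ^ 2)) := c.odd.of_dvd_nat (orderOf_pow_dvd 2)
  set v := c.f d with hv
  have hvZ := c.f_mem hcl hd
  set w := c.u * v * c.u⁻¹ with hw
  have hwd := (mem_normalizer_iff.1 c.uD d).1 hd
  -- commutators with `x` take values in `{1, t}`, all fixed by `u`
  have hfix : ∀ e ∈ c.D, Commute c.u ⁅c.x, c.f e⁆ := fun e he => by
    rcases h e he with h' | h' <;> rw [h']
    · exact Commute.one_right _
    · exact hut
  set τ := ⁅c.x, v⁆ with hτ
  set τ' := ⁅c.x, w⁆ with hτ'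
  have hτfix : Commute c.u τ := hfix d hd
  have hτ'fix : Commute c.u τ' := by
    have := hfix _ hwd
    rwa [f_conj] at this
  have hτc := (comm_mem hcl c.xP (c.le hvZ.1))
  have hx1 : c.x⁻¹ * v * c.x = τ * v := by
    have hτ2 : τ⁻¹ = τ := inv_eq_of_mul_eq_one_right (c.sq_comm hcl hvZ)
    have h1 := mem_centralizer_iff.1 hτc.2 c.x c.xP
    have e : c.x⁻¹ * v * c.x = c.x⁻¹ * τ⁻¹ * c.x * v := by
      simp only [hτ, commutatorElement_def]; group
    rw [e, hτ2, mul_assoc c.x⁻¹, ← h1, inv_mul_cancel_left]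
  have hx2 : c.x * w * c.x⁻¹ = τ' * w := by simp only [hτ', commutatorElement_def]; group
  have hmain : c.u⁻¹ * v * c.u = τ * τ' * w := by
    rw [← c.conj_xux hvZ]
    calc c.x * c.u * c.x⁻¹ * v * (c.x * c.u * c.x⁻¹)⁻¹
        = c.x * c.u * (c.x⁻¹ * v * c.x) * c.u⁻¹ * c.x⁻¹ := by group
      _ = c.x * (c.u * τ * c.u⁻¹) * w * c.x⁻¹ := by rw [hx1, hw]; group
      _ = c.x * τ * (w * c.x⁻¹) := by rw [hτfix.eq, mul_inv_cancel_right]; group
      _ = τ * (c.x * w * c.x⁻¹) := by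
        rw [show c.x * τ = τ * c.x from mem_centralizer_iff.1 hτc.2 c.x c.xP]; group
      _ = τ * τ' * w := by rw [hx2]; group
  set σ := (τ * τ')⁻¹ with hσ
  have hσfix : Commute c.u σ := (hτfix.mul_right hτ'fix).inv_right
  have h2 : c.u ^ 2 * v * (c.u ^ 2)⁻¹ = σ * v := by
    have hw' : w = σ * (c.u⁻¹ * v * c.u) := by rw [hmain, hσ]; group
    calc c.u ^ 2 * v * (c.u ^ 2)⁻¹ = c.u * w * c.u⁻¹ := by rw [pow_two, hw]; group
      _ = c.u * (σ * (c.u⁻¹ * v * c.u)) * c.u⁻¹ := by rw [hw']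
      _ = (c.u * σ * c.u⁻¹) * v := by group
      _ = σ * v := by rw [hσfix.eq, mul_inv_cancel_right]
  have hwP : w ∈ P := c.le ((mem_normalizer_iff.1 c.uD v).1 hvZ.1)
  have hσP : σ ∈ P := inv_mem (mul_mem hτc.1 (comm_mem hcl c.xP hwP).1)
  have hσ1 := eq_one_of_translate hu2 (hσfix.pow_left 2) (two_pow hP2 hσP) h2
  rw [hσ1, one_mul] at h2
  have h3 : c.u ∈ centralizer ({v} : Set G) :=
    mem_of_two_pow_mem c.odd (k := 1) (mem_centralizer_singleton_iff.2 (by
      rw [pow_one]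
      calc c.u ^ 2 * v = (c.u ^ 2 * v * (c.u ^ 2)⁻¹) * c.u ^ 2 := by group
        _ = v * c.u ^ 2 := by rw [h2]))
  exact mem_centralizer_singleton_iff.1 h3

section Action

variable {A : Type v} [Group A] [Finite A] (φ : A →* MulAut G)
  (hA : Odd (Nat.card A)) (hinv : ∀ a, ∀ z ∈ P, φ a z ∈ P)

include hinv in
theorem apply_mem_iff (a : A) {z : G} : φ a z ∈ P ↔ z ∈ P := by
  refine ⟨fun h => ?_, hinv a z⟩
  have := hinv a⁻¹ _ h
  rwa [map_inv, MulAut.inv_apply_self] at this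

include hA hinv hcl hP2 in
theorem translate_mem (a : A) {d : G} (hd : d ∈ c.D) : φ a (c.f d) ∈ c.D := by
  set v := c.f d with hvdef
  have hvZ := c.f_mem hcl hd
  have hvP : v ∈ P := c.le hvZ.1
  set w := φ a v with hwdef
  have hwP : w ∈ P := hinv a v hvP
  by_contra hwD
  -- `v` is not central in `P`
  have hxv : ¬ Commute c.x v := fun h => hwD (c.central w hwP (mem_centralizer_iff.2 fun y hy => by
    have hy' : φ a⁻¹ y ∈ P := hinv _ y hy
    have hc : Commute (φ a⁻¹ y) v := by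
      by_cases hyD : φ a⁻¹ y ∈ c.D
      · exact mem_centralizer_iff.1 hvZ.2 _ hyD
      · have hh : Commute (c.x⁻¹ * φ a⁻¹ y) v :=
          mem_centralizer_iff.1 hvZ.2 _ (c.index _ hy' hyD)
        simpa using h.mul_left hh
    have := hc.map (φ a)
    rw [map_inv, MulAut.apply_inv_self] at this
    exact this))
  set t := ⁅c.x, v⁆ with htdef
  have htP := comm_mem hcl c.xP hvP
  have ht2 : t * t = 1 := c.sq_comm hcl hvZ
  have hwv : ⁅w, v⁆ = t := by
    rcases c.comm_cases hcl hvZ hwP with h | h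
    · exact absurd ((c.mem_iff_commute hvZ hxv hwP).1 (commutatorElement_eq_one_iff_mul_comm.1 h))
        hwD
    · exact h
  have hvw : ⁅v, w⁆ = t := by
    rw [← commutatorElement_inv, hwv]; exact inv_eq_of_mul_eq_one_right ht2
  have hat : φ a t = t := by
    have h2 : ⁅φ a⁻¹ v, v⁆ = ⁅c.x, v⁆ := by
      rcases c.comm_cases hcl hvZ (hinv a⁻¹ v hvP) with h | h
      · exfalso
        have hh := congrArg (φ a) h
        rw [map_commutatorElement, map_inv, MulAut.apply_inv_self, map_one] at hh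
        rw [show φ a v = w from rfl, hvw] at hh
        exact hxv (commutatorElement_eq_one_iff_mul_comm.1 hh)
      · exact h
    have hh := congrArg (φ a) h2
    rw [map_commutatorElement, map_inv, MulAut.apply_inv_self, show φ a v = w from rfl, hvw] at hh
    exact hh.symm
  -- commutators with `w` take values in `{1, t}`
  have hcase_w : ∀ y ∈ P, ⁅y, w⁆ = 1 ∨ ⁅y, w⁆ = t := by
    intro y hy
    have hy' := hinv a⁻¹ y hy
    rcases c.comm_cases hcl hvZ hy' with h | h <;>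
      have hh := congrArg (φ a) h <;>
      rw [map_commutatorElement, map_inv, MulAut.apply_inv_self] at hh
    · rw [map_one] at hh; exact Or.inl hh
    · rw [hat] at hh; exact Or.inr hh
  have hut : ¬ Commute c.u t := by
    refine c.not_commute_value hP2 hcl htP.1 ht2 fun e he => ?_
    have heZ := c.f_mem hcl he
    rcases c.comm_cases hcl heZ hwP with h | h
    · left
      have hwe : Commute w (c.f e) := commutatorElement_eq_one_iff_mul_comm.1 h
      by_contra hne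
      exact hwD ((c.mem_iff_commute heZ (fun hc => hne (commutatorElement_eq_one_iff_mul_comm.2 hc))
        hwP).1 hwe)
    · rw [← h]
      rcases hcase_w _ (c.le heZ.1) with h' | h'
      · left; rw [← commutatorElement_inv, h', inv_one]
      · right; rw [← commutatorElement_inv, h', inv_eq_of_mul_eq_one_right ht2]
  set g := φ a w with hgdef
  have hgP : g ∈ P := hinv a w hwP
  have hgw : ⁅g, w⁆ = t := by
    have hh := congrArg (φ a) hwv
    rwa [map_commutatorElement, hat] at hh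
  have hcase_g : ∀ y ∈ P, ⁅y, g⁆ = 1 ∨ ⁅y, g⁆ = t := by
    intro y hy
    rcases hcase_w _ (hinv a⁻¹ y hy) with h | h <;>
      have hh := congrArg (φ a) h <;>
      rw [map_commutatorElement, map_inv, MulAut.apply_inv_self] at hh
    · rw [map_one] at hh; exact Or.inl hh
    · rw [hat] at hh; exact Or.inr hh
  have hcase_v : ∀ y ∈ P, ⁅y, v⁆ = 1 ∨ ⁅y, v⁆ = t := fun y hy => c.comm_cases hcl hvZ hy
  have hvv : v * v = 1 := c.f_sq hP2 hcl hd
  have hww : w * w = 1 := by rw [hwdef, ← map_mul, hvv, map_one]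
  have hgg : g * g = 1 := by rw [hgdef, ← map_mul, hww, map_one]
  -- adjust an element by `v`, `w` to commute with both
  have adjust : ∀ y ∈ P, ∃ p, (p = 1 ∨ p = v ∨ p = w ∨ p = v * w) ∧ p ∈ P ∧
      ⁅y * p, v⁆ = 1 ∧ ⁅y * p, w⁆ = 1 := by
    intro y hy
    have hcv : ∀ p ∈ P, ⁅y * p, v⁆ = ⁅y, v⁆ * ⁅p, v⁆ := fun p hp => comm_mul_left hcl hy hp hvP
    have hcw : ∀ p ∈ P, ⁅y * p, w⁆ = ⁅y, w⁆ * ⁅p, w⁆ := fun p hp => comm_mul_left hcl hy hp hwP
    rcases hcase_v y hy with h1 | h1 <;> rcases hcase_w y hy with h2 | h2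
    · exact ⟨1, Or.inl rfl, one_mem _, by rw [mul_one, h1], by rw [mul_one, h2]⟩
    · exact ⟨v, Or.inr (Or.inl rfl), hvP, by rw [hcv v hvP, h1, commutatorElement_self, mul_one],
        by rw [hcw v hvP, h2, hvw, ht2]⟩
    · exact ⟨w, Or.inr (Or.inr (Or.inl rfl)), hwP, by rw [hcv w hwP, h1, hwv, ht2],
        by rw [hcw w hwP, h2, commutatorElement_self, mul_one]⟩
    · refine ⟨v * w, Or.inr (Or.inr (Or.inr rfl)), mul_mem hvP hwP, ?_, ?_⟩
      · rw [hcv _ (mul_mem hvP hwP), h1, comm_mul_left hcl hvP hwP hvP, commutatorElement_self,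
          one_mul, hwv, ht2]
      · rw [hcw _ (mul_mem hvP hwP), h2, comm_mul_left hcl hvP hwP hwP, commutatorElement_self,
          mul_one, hvw, ht2]
  have hin : ∀ {y : G}, y ∈ P → ⁅y, v⁆ = 1 → y ∈ c.D := fun {y} hy h =>
    (c.mem_iff_commute hvZ hxv hy).1 (commutatorElement_eq_one_iff_mul_comm.1 h)
  obtain ⟨p, hp, hpP, hhv, hhw⟩ := adjust g hgP
  set h := g * p with hhdef
  have hhP : h ∈ P := mul_mem hgP hpP
  have hhD : h ∈ c.D := hin hhP hhv
  have hmul : ∀ {s r : G}, (s = 1 ∨ s = t) → (r = 1 ∨ r = t) → (s * r = 1 ∨ s * r = t) := by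
    rintro s r (rfl | rfl) (rfl | rfl)
    · exact Or.inl (one_mul _)
    · exact Or.inr (one_mul _)
    · exact Or.inr (mul_one _)
    · exact Or.inl ht2
  have hh1 : ∀ y ∈ P, ⁅y, h⁆ = 1 := by
    intro y hy
    have hyp : ⁅y, p⁆ = 1 ∨ ⁅y, p⁆ = t := by
      rcases hp with hp | hp | hp | hp <;> rw [hp]
      · exact Or.inl (commutatorElement_one_right _)
      · exact hcase_v y hy
      · exact hcase_w y hy
      · rw [comm_mul_right hcl hy hvP hwP]
        exact hmul (hcase_v y hy) (hcase_w y hy)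
    have hyh : ⁅y, h⁆ = 1 ∨ ⁅y, h⁆ = t := by
      rw [hhdef, comm_mul_right hcl hy hgP hpP]
      exact hmul (hcase_g y hy) hyp
    refine hyh.resolve_right fun hyt => hut ?_
    obtain ⟨q, hq, hqP, hqv, -⟩ := adjust y hy
    have hqh : ⁅q, h⁆ = 1 := by
      have hvh : ⁅v, h⁆ = 1 := by rw [← commutatorElement_inv, hhv, inv_one]
      have hwh : ⁅w, h⁆ = 1 := by rw [← commutatorElement_inv, hhw, inv_one]
      rcases hq with hq | hq | hq | hq <;> rw [hq]
      · exact commutatorElement_one_left _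
      · exact hvh
      · exact hwh
      · rw [comm_mul_left hcl hvP hwP hhP, hvh, hwh, mul_one]
    have he := comm_mul_left hcl hy hqP hhP
    rw [hyt, hqh, mul_one] at he
    exact he ▸ c.commfix hcl (hin (mul_mem hy hqP) hqv) hhD
  have hhC : h ∈ centralizer (P : Set G) :=
    mem_centralizer_iff.2 fun y hy => commutatorElement_eq_one_iff_mul_comm.1 (hh1 y hy)
  rcases hp with rfl | rfl | rfl | rfl
  · -- `g` would commute with `w`
    rw [mul_one] at hhdef
    rw [hhdef] at hhw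
    rw [hhw] at hgw
    exact hxv (commutatorElement_eq_one_iff_mul_comm.1 hgw.symm)
  · -- `a²`, hence `a`, would stabilise `D`
    have hgv : ∀ y ∈ P, (Commute y g ↔ Commute y v) := by
      intro y hy
      have e := comm_mul_right hcl hy hgP hvP
      rw [← hhdef, hh1 y hy] at e
      rw [commute_iff_eq, commute_iff_eq, ← commutatorElement_eq_one_iff_mul_comm,
        ← commutatorElement_eq_one_iff_mul_comm]
      constructor <;> intro hc
      · rwa [hc, one_mul, eq_comm] at e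
      · rwa [hc, mul_one, eq_comm] at e
    have hmap : ∀ (b : A) (y r : G), Commute y (φ b r) ↔ Commute (φ b⁻¹ y) r := by
      intro b y r
      constructor <;> intro hc
      · have := hc.map (φ b⁻¹)
        rwa [map_inv, MulAut.inv_apply_self, ← map_inv] at this
      · have := hc.map (φ b)
        rwa [map_inv, MulAut.apply_inv_self] at this
    let S : Subgroup A :=
      { carrier := {b | ∀ y ∈ P, φ b y ∈ c.D ↔ y ∈ c.D}
        one_mem' := fun y _ => by rw [map_one]; rfl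
        mul_mem' := fun {b b'} hb hb' y hy => by
          rw [map_mul, MulAut.mul_apply, hb _ (hinv b' y hy), hb' y hy]
        inv_mem' := fun {b} hb y hy => by
          have h := hb _ (hinv b⁻¹ y hy)
          rw [map_inv, MulAut.apply_inv_self] at h
          rw [map_inv]
          exact h.symm }
    have ha2 : (a ^ 2)⁻¹ ∈ S := by
      intro y hy
      have hy2 : φ (a ^ 2)⁻¹ y ∈ P := hinv _ y hy
      rw [← c.mem_iff_commute hvZ hxv hy2, ← c.mem_iff_commute hvZ hxv hy, ← hgv y hy, hgdef,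
        hwdef, hmap a y, hmap a (φ a⁻¹ y), pow_two, mul_inv_rev, map_mul, MulAut.mul_apply]
    have hsq : a ^ 2 ∈ S := inv_mem_iff.1 ha2
    have haS : a ∈ S := mem_of_two_pow_mem (hA.of_dvd_nat (orderOf_dvd_natCard a)) (k := 1)
      (by rw [pow_one]; exact hsq)
    exact hwD ((haS v hvP).2 hvZ.1)
  · -- `g w` would commute with `w`
    have h1 : ⁅g * w, w⁆ = t := by
      rw [comm_mul_left hcl hgP hwP hwP, hgw, commutatorElement_self, mul_one]
    rw [hhdef, h1] at hhw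
    exact hxv (commutatorElement_eq_one_iff_mul_comm.1 hhw)
  · -- `t` would be a square of a central element
    refine hut ?_
    have hhZ : h ∈ c.ZD := ⟨hhD, centralizer_le c.le hhC⟩
    have hvw2 : (v * w) * (v * w) = t := by
      calc (v * w) * (v * w) = ⁅v, w⁆ * (w * (v * v) * w) := by
            simp only [commutatorElement_def]; group
        _ = t := by rw [hvv, mul_one, hww, mul_one, hvw]
    have hhh : h * h = t := by
      calc h * h = g * ((v * w) * h) := by rw [hhdef]; group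
        _ = g * (h * (v * w)) := by rw [mem_centralizer_iff.1 hhC _ (mul_mem hvP hwP)]
        _ = (g * g) * ((v * w) * (v * w)) := by rw [hhdef]; group
        _ = t := by rw [hgg, one_mul, hvw2]
    exact hhh ▸ c.sqfix hcl hhZ

end Action

end Config

/-- The key step for S4038. -/
theorem hasNormalPComplement_of_class_two {A : Type v} [Group A] [Finite A] (φ : A →* MulAut G)
    (hA : Odd (Nat.card A)) (S : Sylow 2 G)
    (hinv : ∀ a, ∀ z ∈ (S : Subgroup G), φ a z ∈ (S : Subgroup G))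
    (hcl : ∀ a ∈ (S : Subgroup G), ∀ b ∈ (S : Subgroup G),
      ⁅a, b⁆ ∈ centralizer ((S : Subgroup G) : Set G))
    (hN : ∀ W : Subgroup G, W ≤ (S : Subgroup G) → W ≠ ⊥ → (∀ a, ∀ z ∈ W, φ a z ∈ W) →
      (S : Subgroup G) ≤ normalizer (W : Set G) →
      ∀ n ∈ normalizer (W : Set G), Odd (orderOf n) → n ∈ centralizer ((S : Subgroup G) : Set G)) :
    Cfsg.HasNormalPComplement 2 G := by
  haveI : Fact (Nat.Prime 2) := ⟨Nat.prime_two⟩
  by_cases hbot : (S : Subgroup G) = ⊥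
  · exact Transfer.hasNormalPComplement_of_not_dvd fun h2 => S.ne_bot_of_dvd_card h2 hbot
  by_contra hno
  obtain ⟨c⟩ := nonempty_config S hcl
    (hN S le_rfl hbot hinv le_normalizer) hno
  let T : Set G := {z | z ∈ (S : Subgroup G) ∧ z ∈ centralizer ((S : Subgroup G) : Set G)} ∪
    {z | ∃ a, ∃ d ∈ c.D, z = φ a (c.f d)}
  have hTD : ∀ z ∈ T, z ∈ c.D := by
    rintro z (⟨hz, hzc⟩ | ⟨a, d, hd, rfl⟩)
    · exact c.central z hz hzc
    · exact c.translate_mem S.2 hcl φ hA hinv a hd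
  set W := closure T with hW
  have hWD : W ≤ c.D := (closure_le _).2 hTD
  have hWi : ∀ a, ∀ z ∈ W, φ a z ∈ W := by
    intro a
    have hle : W ≤ W.comap (φ a).toMonoidHom := (closure_le _).2 (by
      rintro z (⟨hz, hzc⟩ | ⟨b, d, hd, rfl⟩)
      · refine subset_closure (Or.inl ⟨hinv a z hz, mem_centralizer_iff.2 fun y hy => ?_⟩)
        have h1 : Commute (φ a⁻¹ y) z := mem_centralizer_iff.1 hzc _ (hinv a⁻¹ y hy)
        have h2 := h1.map (φ a)
        rw [map_inv, MulAut.apply_inv_self] at h2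
        exact h2
      · exact subset_closure (Or.inr ⟨a * b, d, hd, by rw [map_mul]; rfl⟩))
    exact fun z hz => hle hz
  have hSW : (S : Subgroup G) ≤ normalizer (W : Set G) := by
    intro y hy
    refine Coprime.mem_normalizer_of_conj_smul_eq
      (eq_of_le_of_card_ge ?_ (Coprime.card_conj_smul y W).ge)
    refine map_le_iff_le_comap.2 ((closure_le _).2 fun z hz => ?_)
    show y * z * y⁻¹ ∈ W
    have hzS := c.le (hTD z hz)
    rw [show y * z * y⁻¹ = ⁅y, z⁆ * z by rw [commutatorElement_def]; group]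
    exact mul_mem (subset_closure (Or.inl ⟨(comm_mem hcl hy hzS).1, (comm_mem hcl hy hzS).2⟩))
      (subset_closure hz)
  have huW : c.u ∈ normalizer (W : Set G) := by
    refine Coprime.mem_normalizer_of_conj_smul_eq
      (eq_of_le_of_card_ge ?_ (Coprime.card_conj_smul c.u W).ge)
    refine map_le_iff_le_comap.2 ((closure_le _).2 fun z hz => ?_)
    show c.u * z * c.u⁻¹ ∈ W
    rw [c.eq_f_mul]
    exact mul_mem (subset_closure (Or.inr ⟨1, z, hTD z hz, by rw [map_one]; rfl⟩))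
      (subset_closure hz)
  have hW1 : W ≠ ⊥ := by
    obtain ⟨d, hd, hmv⟩ := c.exists_moved S.2 hcl
    intro e
    have hm : c.f d ∈ W := subset_closure (Or.inr ⟨1, d, hd, by rw [map_one]; rfl⟩)
    rw [e, mem_bot] at hm
    exact hmv (hm ▸ Commute.one_right _)
  exact c.uC (centralizer_le c.le (hN W (hWD.trans c.le) hW1 hWi hSW c.u huW c.odd))

end Cfsg.Agent.FTConsumers.ClassTwo
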