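import Cfsg.Agent.Lib.FTConsumers.Hyp
import Cfsg.Agent.Lib.Balance.LBalanceTwo
import Cfsg.Agent.Lib.Components.Layer

/-!
# Components of involution centralisers when `L_{2'}(G) = E(G)`

Given the odd order theorem, a component of the centraliser of an involution `t` is either a component
`D`, a proper subgroup of some `D = [D, t]`, or the layer of `C(t)` in some `D D^t`.
-/

set_option autoImplicit false
set_option linter.style.haveILetI false

namespace Cfsg.Agent.FTConsumers.ComponentOfInvolution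

open Subgroup Cfsg Cfsg.Agent.Components
open scoped commutatorElement

universe u

variable {G : Type u} [Group G] [Finite G]

/-- A quasisimple subgroup is a PQT subgroup for the prime 2. -/
theorem isPQT_of_isQuasisimple (hFT : OddOrder.{u}) {L : Subgroup G} (hL : IsQuasisimple L) :
    Balance.IsPQT 2 L := by
  haveI : Fact (Nat.Prime 2) := ⟨Nat.prime_two⟩
  refine ⟨IsQuasisimple.commutator_self hL, ?_, IsQuasisimple.ne_bot hL, fun M hML hM => ?_⟩
  · have hn : ((Balance.pGen 2 L).subgroupOf L).Normal := normal_subgroupOf_of_le_normalizer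
      (le_normalizer.trans (Balance.normalizer_le_normalizer_pGen L))
    rcases IsQuasisimple.normal_eq_top_or_le_center hL ((Balance.pGen 2 L).subgroupOf L) with h | h
    · exact subgroupOf_eq_top.1 h
    · exfalso
      have hodd : Odd (Nat.card (↥L ⧸ center ↥L)) := by
        rw [← Nat.not_even_iff_odd, even_iff_two_dvd]
        intro h2
        obtain ⟨q, hq⟩ := exists_prime_orderOf_dvd_card' (G := ↥L ⧸ center ↥L) 2 h2
        obtain ⟨x, rfl⟩ := QuotientGroup.mk'_surjective (center ↥L) q
        obtain ⟨k, m, hm, hx⟩ := Nat.exists_eq_pow_mul_and_not_dvd (orderOf_pos x).ne' 2 (by norm_num)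
        have h1 : x ^ m ∈ center ↥L := h (Balance.mem_pGen (k := k) (x ^ m).2 (by
          show ((x ^ m : ↥L) : G) ^ 2 ^ k = 1
          rw [← SubmonoidClass.coe_pow, ← pow_mul, mul_comm, ← hx, pow_orderOf_eq_one, coe_one]))
        have h2' : orderOf (QuotientGroup.mk' (center ↥L) x) ∣ m := orderOf_dvd_of_pow_eq_one (by
          rw [← map_pow]; exact (QuotientGroup.eq_one_iff _).2 h1)
        exact hm (hq ▸ h2')
      haveI : Group.IsSolvable (↥L ⧸ center ↥L) := hFT _ hodd
      haveI : Group.IsSolvable ↥(center ↥L) := Group.isSolvable_of_comm fun a b =>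
        Subtype.ext ((mem_center_iff.1 b.2) a)
      exact IsQuasisimple.not_isSolvable hL
        (Group.isSolvable_of_ker_le_range (center ↥L).subtype (QuotientGroup.mk' (center ↥L)) (by simp))
  · rcases IsQuasisimple.eq_or_commutator_eq_bot hL hML hM with h | h
    · exact Or.inl h
    · exact Or.inr (by rw [commutator_eq_bot_symm h, Subgroup.card_bot]; exact Nat.coprime_one_left 2)

section Orbit

variable {t : G}

/-- Membership in the centraliser of `t`. -/
theorem mem_centralizer_t {g : G} : g ∈ centralizer ({t} : Set G) ↔ t * g * t⁻¹ = g := by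
  rw [mem_centralizer_singleton_iff, mul_inv_eq_iff_eq_mul, eq_comm]

/-- The `t`-orbit of a component generates a subgroup. -/
def orbitSup (t : G) (D : Subgroup G) : Subgroup G := D ⊔ D.map (MulAut.conj t).toMonoidHom

theorem map_orbitSup (ht : t * t = 1) (D : Subgroup G) :
    (orbitSup t D).map (MulAut.conj t).toMonoidHom = orbitSup t D := by
  rw [orbitSup, Subgroup.map_sup, sup_comm]
  congr 1
  ext x
  simp [Subgroup.mem_map, inv_eq_of_mul_eq_one_right ht, mul_assoc, ← mul_assoc t t, ht]

theorem orbitSup_le_layer {D : Subgroup G} (hD : IsComponent D) : orbitSup t D ≤ layer G :=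
  sup_le (IsComponent.le_layer hD) (IsComponent.le_layer (IsComponent.conj hD t))

theorem isSubnormal_orbitSup {D : Subgroup G} (hD : IsComponent D) :
    (orbitSup t D).IsSubnormal := by
  have hlay : (layer G).Normal := by
    refine ⟨fun n hn g => ?_⟩
    have := map_layer (MulAut.conj g : G ≃* G)
    exact this ▸ ⟨n, hn, rfl⟩
  have h1 : layer G ≤ normalizer (orbitSup t D : Set G) := sSup_le fun K hK =>
    (le_inf (IsComponent.le_normalizer hK hD) (IsComponent.le_normalizer hK (IsComponent.conj hD t))).trans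
      (fun g hg => by
        rw [mem_normalizer_iff_map_conj_eq]
        show (orbitSup t D).map (MulAut.conj g).toMonoidHom = orbitSup t D
        have e1 : D.map (MulAut.conj g).toMonoidHom = D := mem_normalizer_iff_map_conj_eq.1 hg.1
        have e2 : (D.map (MulAut.conj t).toMonoidHom).map (MulAut.conj g).toMonoidHom =
            D.map (MulAut.conj t).toMonoidHom := mem_normalizer_iff_map_conj_eq.1 hg.2
        rw [orbitSup, Subgroup.map_sup, e1, e2])
  exact (isSubnormal_subgroupOf_iff_of_normal hlay h1 (orbitSup_le_layer hD))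
where
  isSubnormal_subgroupOf_iff_of_normal {X E : Subgroup G} (hE : E.Normal)
      (h1 : E ≤ normalizer (X : Set G)) (hle : X ≤ E) : X.IsSubnormal := by
    haveI := hE
    have h := isSubnormal_map_subtype (N := E) hE.isSubnormal
      (normal_subgroupOf_of_le_normalizer h1 : (X.subgroupOf E).Normal).isSubnormal
    rwa [map_subgroupOf_eq_of_le hle] at h

/-- Commutators of elements fixed modulo central elements lie in the fixed points of the orbits. -/
theorem commutator_mem (ht : t * t = 1) (S : Finset (Subgroup G))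
    (hS : ∀ D ∈ S, IsComponent D) :
    ∀ l ∈ ⨆ D ∈ S, orbitSup t D, ∀ m ∈ ⨆ D ∈ S, orbitSup t D,
      l⁻¹ * (t * l * t⁻¹) ∈ centralizer (layer G : Set G) →
      m⁻¹ * (t * m * t⁻¹) ∈ centralizer (layer G : Set G) →
      ⁅l, m⁆ ∈ ⨆ (D : Subgroup G) (_ : IsComponent D), orbitSup t D ⊓ centralizer ({t} : Set G) := by
  classical
  induction S using Finset.strongInduction with
  | _ S IH =>
    intro l hl m hm hlt hmt
    rcases S.eq_empty_or_nonempty with rfl | ⟨D, hDS⟩
    · simp only [Finset.notMem_empty, iSup_false, iSup_bot, mem_bot] at hl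
      simp [hl]
    set D' := D.map (MulAut.conj t).toMonoidHom with hD'
    set S' := S.filter (fun E => E ≠ D ∧ E ≠ D') with hS'
    set X := orbitSup t D with hX
    set Y := ⨆ E ∈ S', orbitSup t E with hY
    have hDD : D'.map (MulAut.conj t).toMonoidHom = D := by
      ext x
      simp [hD', Subgroup.mem_map, inv_eq_of_mul_eq_one_right ht, mul_assoc, ← mul_assoc t t, ht]
    have hlt' : S' ⊂ S := Finset.ssubset_iff_of_subset (Finset.filter_subset _ _) |>.2
      ⟨D, hDS, by simp [hS']⟩
    have hcomp : ∀ E ∈ S', IsComponent E := fun E hE => hS E (Finset.mem_filter.1 hE).1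
    have hXY : X ≤ centralizer (Y : Set G) := by
      rw [hX, orbitSup, sup_le_iff]
      have key : ∀ E ∈ S', ∀ K : Subgroup G, IsComponent K → (K = D ∨ K = D') →
          ∀ L : Subgroup G, (L = E ∨ L = E.map (MulAut.conj t).toMonoidHom) → ⁅L, K⁆ = ⊥ := by
        intro E hE K hK hKD L hL
        obtain ⟨-, hED, hED'⟩ := Finset.mem_filter.1 hE
        have hLc : IsComponent L := by
          rcases hL with rfl | rfl
          · exact hcomp _ hE
          · exact IsComponent.conj (hcomp _ hE) t
        refine IsComponent.commutator_eq_bot hLc hK fun he => ?_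
        rcases hL with rfl | rfl <;> rcases hKD with rfl | rfl
        · exact hED he
        · exact hED' he
        · refine hED' ?_
          rw [hD', ← he]
          ext x
          simp [Subgroup.mem_map, inv_eq_of_mul_eq_one_right ht, mul_assoc, ← mul_assoc t t, ht]
        · exact hED (Subgroup.map_injective (MulAut.conj t).injective he)
      constructor <;>
      · rw [le_centralizer_iff]
        refine iSup₂_le fun E hE => sup_le ?_ ?_ <;>
        · refine le_centralizer_of_commutator_eq_bot (key E hE _ ?_ ?_ _ ?_)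
          all_goals first
            | exact hS D hDS
            | exact IsComponent.conj (hS D hDS) t
            | exact Or.inl rfl
            | exact Or.inr rfl
    have hsplit : ⨆ E ∈ S, orbitSup t E ≤ X ⊔ Y := iSup₂_le fun E hE => by
      by_cases h1 : E = D
      · subst h1; exact le_sup_left
      by_cases h2 : E = D'
      · subst h2
        rw [orbitSup, hDD, sup_comm]
        exact le_sup_left
      exact le_trans (le_iSup₂_of_le E (Finset.mem_filter.2 ⟨hE, h1, h2⟩) le_rfl) le_sup_right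
    have hXn : Y ≤ normalizer (X : Set G) :=
      (le_centralizer_iff.1 hXY).trans (centralizer_le_normalizer _)
    have hmul : ∀ g ∈ ⨆ E ∈ S, orbitSup t E, ∃ x ∈ X, ∃ y ∈ Y, x * y = g := by
      intro g hg
      have h := hsplit hg
      rw [← SetLike.mem_coe, coe_mul_of_right_le_normalizer_left X Y hXn] at h
      exact Set.mem_mul.1 h
    have hcXY : ∀ x ∈ X, ∀ y ∈ Y, Commute x y := fun x hx y hy =>
      (mem_centralizer_iff.1 (hXY hx) y hy).symm
    -- each factor is fixed modulo the centraliser of the layer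
    have hfix : ∀ g, g ∈ ⨆ E ∈ S, orbitSup t E → g⁻¹ * (t * g * t⁻¹) ∈ centralizer (layer G : Set G) →
        ∀ x ∈ X, ∀ y ∈ Y, x * y = g →
          x⁻¹ * (t * x * t⁻¹) ∈ centralizer (layer G : Set G) ∧
          y⁻¹ * (t * y * t⁻¹) ∈ centralizer (layer G : Set G) := by
      intro g _ hg x hx y hy hxy
      have hXt : ∀ a ∈ X, t * a * t⁻¹ ∈ X := fun a ha => by
        rw [hX, ← map_orbitSup ht D]; exact ⟨a, ha, rfl⟩
      have hYt : t * y * t⁻¹ ∈ Y := by
        have : Y.map (MulAut.conj t).toMonoidHom = Y := by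
          simp only [hY, Subgroup.map_iSup, map_orbitSup ht]
        rw [← this]; exact ⟨y, hy, rfl⟩
      set a := x⁻¹ * (t * x * t⁻¹) with ha
      set b := y⁻¹ * (t * y * t⁻¹) with hb
      have haX : a ∈ X := mul_mem (inv_mem hx) (hXt x hx)
      have hbY : b ∈ Y := mul_mem (inv_mem hy) hYt
      have hab : a * b = g⁻¹ * (t * g * t⁻¹) := by
        rw [← hxy, ha, hb]
        have hc := (hcXY a haX _ (inv_mem hy)).eq
        rw [ha] at hc
        calc x⁻¹ * (t * x * t⁻¹) * (y⁻¹ * (t * y * t⁻¹)) =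
              y⁻¹ * (x⁻¹ * (t * x * t⁻¹)) * (t * y * t⁻¹) := by rw [← hc]; group
          _ = (x * y)⁻¹ * (t * (x * y) * t⁻¹) := by group
      -- `a` commutes with `Y` and `b` with `X`, and `layer G` is generated by components
      have haC : a ∈ centralizer (layer G : Set G) := by
        have hK : ∀ K : Subgroup G, IsComponent K → K ≤ centralizer ({a} : Set G) := by
          intro K hK k hk
          rw [mem_centralizer_singleton_iff]
          by_cases hKX : K ≤ X
          · have h1 : Commute (a * b) k :=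
              ((mem_centralizer_iff.1 (hab ▸ hg) k (IsComponent.le_layer hK hk))).symm
            have h2 : Commute b k := (hcXY k (hKX hk) b hbY).symm
            have h3 := h1.mul_left h2.inv_left
            rw [mul_inv_cancel_right] at h3
            exact h3.symm.eq
          · have hne : ∀ L, IsComponent L → L ≤ X → ⁅L, K⁆ = ⊥ := fun L hL hLX =>
              IsComponent.commutator_eq_bot hL hK fun he => hKX (he ▸ hLX)
            have hXK : X ≤ centralizer (K : Set G) := sup_le
              (le_centralizer_of_commutator_eq_bot (hne D (hS D hDS) le_sup_left))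
              (le_centralizer_of_commutator_eq_bot (hne D' (IsComponent.conj (hS D hDS) t) le_sup_right))
            exact mem_centralizer_iff.1 (hXK haX) k hk
        refine mem_centralizer_iff.2 fun k hk => ?_
        exact mem_centralizer_singleton_iff.1 ((sSup_le hK : layer G ≤ centralizer ({a} : Set G)) hk)
      refine ⟨haC, ?_⟩
      rw [show b = a⁻¹ * (g⁻¹ * (t * g * t⁻¹)) by rw [← hab]; group]
      exact mul_mem (inv_mem haC) hg
    obtain ⟨x, hx, y, hy, hxy⟩ := hmul l hl
    obtain ⟨x', hx', y', hy', hxy'⟩ := hmul m hm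
    obtain ⟨hxf, hyf⟩ := hfix l hl hlt x hx y hy hxy
    obtain ⟨hxf', hyf'⟩ := hfix m hm hmt x' hx' y' hy' hxy'
    have e : ⁅l, m⁆ = ⁅x, x'⁆ * ⁅y, y'⁆ := by
      subst hxy; subst hxy'
      simp only [commutatorElement_def, mul_inv_rev]
      have c1 := (hcXY x' hx' y hy).eq
      have c2 := (hcXY x⁻¹ (inv_mem hx) y' hy').eq
      have c3 := (hcXY x⁻¹ (inv_mem hx) y⁻¹ (inv_mem hy)).eq
      have c4 := (hcXY (x'⁻¹) (inv_mem hx') (y * y' * y⁻¹) (mul_mem (mul_mem hy hy') (inv_mem hy))).eq
      calc x * y * (x' * y') * (y⁻¹ * x⁻¹) * (y'⁻¹ * x'⁻¹)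
          = x * (y * x') * y' * (y⁻¹ * x⁻¹) * (y'⁻¹ * x'⁻¹) := by group
        _ = x * x' * ((y * y' * y⁻¹) * x⁻¹) * y'⁻¹ * x'⁻¹ := by rw [← c1]; group
        _ = x * x' * (x⁻¹ * (y * y' * y⁻¹)) * y'⁻¹ * x'⁻¹ := by
            rw [(hcXY x⁻¹ (inv_mem hx) (y * y' * y⁻¹) (mul_mem (mul_mem hy hy') (inv_mem hy))).eq]
        _ = x * x' * x⁻¹ * ((y * y' * y⁻¹ * y'⁻¹) * x'⁻¹) := by group
        _ = x * x' * x⁻¹ * (x'⁻¹ * (y * y' * y⁻¹ * y'⁻¹)) := by
            rw [(hcXY x'⁻¹ (inv_mem hx') (y * y' * y⁻¹ * y'⁻¹)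
              (mul_mem (mul_mem (mul_mem hy hy') (inv_mem hy)) (inv_mem hy'))).eq]
        _ = x * x' * x⁻¹ * x'⁻¹ * (y * y' * y⁻¹ * y'⁻¹) := by group
    rw [e]
    refine mul_mem ?_ (IH S' hlt' hcomp y hy y' hy' hyf hyf')
    refine mem_iSup_of_mem D (mem_iSup_of_mem (hS D hDS) ⟨?_, ?_⟩)
    · show x * x' * x⁻¹ * x'⁻¹ ∈ orbitSup t D
      exact mul_mem (mul_mem (mul_mem hx hx') (inv_mem hx)) (inv_mem hx')
    · refine mem_centralizer_t.2 ?_
      obtain ⟨a, ha, ea⟩ : ∃ a ∈ centralizer (layer G : Set G), t * x * t⁻¹ = x * a :=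
        ⟨_, hxf, by group⟩
      obtain ⟨a', ha', ea'⟩ : ∃ a ∈ centralizer (layer G : Set G), t * x' * t⁻¹ = x' * a :=
        ⟨_, hxf', by group⟩
      have hxL : x ∈ layer G := orbitSup_le_layer (hS D hDS) hx
      have hxL' : x' ∈ layer G := orbitSup_le_layer (hS D hDS) hx'
      have haL : a ∈ layer G := by
        rw [show a = x⁻¹ * (t * x * t⁻¹) by rw [ea]; group]
        exact mul_mem (inv_mem hxL) (orbitSup_le_layer (hS D hDS) (by
          rw [← map_orbitSup ht D]; exact ⟨x, hx, rfl⟩))
      have k1 : a * x' = x' * a := ((mem_centralizer_iff.1 ha) x' hxL').symm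
      have k2 : a' * x⁻¹ = x⁻¹ * a' := ((mem_centralizer_iff.1 ha') x⁻¹ (inv_mem hxL)).symm
      have k3 : a' * a⁻¹ = a⁻¹ * a' := ((mem_centralizer_iff.1 ha') a⁻¹ (inv_mem haL)).symm
      simp only [commutatorElement_def]
      calc t * (x * x' * x⁻¹ * x'⁻¹) * t⁻¹ =
            t * x * t⁻¹ * (t * x' * t⁻¹) * (t * x * t⁻¹)⁻¹ * (t * x' * t⁻¹)⁻¹ := by group
        _ = x * (a * x') * (a' * a⁻¹) * x⁻¹ * a'⁻¹ * x'⁻¹ := by rw [ea, ea']; group
        _ = x * x' * (a' * x⁻¹) * a'⁻¹ * x'⁻¹ := by rw [k1, k3]; group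
        _ = x * x' * x⁻¹ * x'⁻¹ := by rw [k2]; group

end Orbit

/-- A component of `C(t)` in the layer lies in one orbit. -/
theorem exists_orbit {t : G} (ht : t * t = 1) {L : Subgroup G}
    (hLt : L ≤ centralizer ({t} : Set G))
    (hL : IsComponent (L.subgroupOf (centralizer ({t} : Set G)))) (hLE : L ≤ layer G) :
    ∃ D : Subgroup G, IsComponent D ∧ L ≤ orbitSup t D := by
  classical
  by_contra hc
  set C := centralizer ({t} : Set G) with hC
  have hbot : ∀ D : Subgroup G, IsComponent D → ⁅L, orbitSup t D ⊓ C⁆ = ⊥ := by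
    intro D hD
    rcases IsComponent.le_or_commutator_eq_bot hL ((isSubnormal_orbitSup (t := t) hD).subgroupOf (K := C))
      with h | h
    · exfalso
      refine hc ⟨D, hD, fun x hx => ?_⟩
      exact mem_subgroupOf.1 (h (show (⟨x, hLt hx⟩ : ↥C) ∈ L.subgroupOf C from hx))
    · have h' := congrArg (map C.subtype) h
      rwa [map_commutator, Subgroup.map_bot, map_subgroupOf_eq_of_le hLt, subgroupOf_map_subtype] at h'
  set W := ⨆ (D : Subgroup G) (_ : IsComponent D), orbitSup t D ⊓ C with hW
  have hLW : W ≤ centralizer (L : Set G) := iSup₂_le fun D hD =>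
    le_centralizer_iff.1 (le_centralizer_of_commutator_eq_bot (hbot D hD))
  set S : Finset (Subgroup G) := (Set.toFinite {D : Subgroup G | IsComponent D}).toFinset with hS
  have hS' : ∀ D ∈ S, IsComponent D := fun D hD => by rw [hS, Set.Finite.mem_toFinset] at hD; exact hD
  have hle : layer G ≤ ⨆ D ∈ S, orbitSup t D := sSup_le fun D hD =>
    le_iSup₂_of_le D (by rw [hS, Set.Finite.mem_toFinset]; exact hD) le_sup_left
  have hfix : ∀ l ∈ L, l⁻¹ * (t * l * t⁻¹) ∈ centralizer (layer G : Set G) := fun l hl => by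
    rw [mem_centralizer_t.1 (hLt hl), inv_mul_cancel]; exact one_mem _
  have hLeq : ⁅L, L⁆ = L := by
    have h := congrArg (map C.subtype) (IsComponent.commutator_self hL)
    rwa [map_commutator, map_subgroupOf_eq_of_le hLt] at h
  have hLW' : L ≤ W := by
    rw [← hLeq]
    exact commutator_le.2 fun l hl m hm =>
      commutator_mem ht S hS' l (hle (hLE hl)) m (hle (hLE hm)) (hfix l hl) (hfix m hm)
  refine IsComponent.ne_bot hL ?_
  have hLb : L = ⊥ := by
    rw [← hLeq]
    exact commutator_eq_bot_iff_le_centralizer.2 (hLW'.trans hLW)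
  rw [hLb, bot_subgroupOf]

/-- **Components of involution centralisers** when `L_{2'}(G) = E(G)`. -/
theorem exists_component (hFT : OddOrder.{u}) (hL2 : pLayer 2 G = layer G) (t : G)
    (ht : orderOf t = 2) (L : Subgroup G) (hLt : L ≤ centralizer ({t} : Set G))
    (hL : IsComponent (L.subgroupOf (centralizer ({t} : Set G)))) :
    ∃ D : Subgroup G, IsComponent D ∧ (L = D ∨ (L < D ∧ D = ⁅D, zpowers t⁆) ∨
      (D.map (MulAut.conj t).toMonoidHom ≠ D ∧
        L = (layer ↥((D ⊔ D.map (MulAut.conj t).toMonoidHom) ⊓ centralizer ({t} : Set G))).map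
          ((D ⊔ D.map (MulAut.conj t).toMonoidHom) ⊓ centralizer ({t} : Set G)).subtype)) := by
  haveI : Fact (Nat.Prime 2) := ⟨Nat.prime_two⟩
  set C := centralizer ({t} : Set G) with hC
  have ht2 : t * t = 1 := by have := pow_orderOf_eq_one t; rwa [ht, pow_two] at this
  have hLq : IsQuasisimple L :=
    (isQuasisimple_congr (subgroupOfEquivOfLe hLt)).1 hL.2
  have hCz : C = centralizer (zpowers t : Set G) := by
    rw [hC, zpowers_eq_closure, centralizer_closure]
  have hLE : L ≤ layer G := by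
    rw [← hL2]
    refine Balance.IsPQT.le_pLayer_two (R := zpowers t) (IsPGroup.of_card_dvd_pow (n := 1) (by
      rw [Nat.card_zpowers, ht, pow_one])) (isPQT_of_isQuasisimple hFT hLq)
      (hLt.trans (hCz ▸ centralizer_le_normalizer _)) ?_
    refine Balance.isSubnormal_subgroupOf_trans hLt (hCz ▸ centralizer_le_normalizer _) hL.1 ?_
    rw [hCz]
    exact (normal_subgroupOf_of_le_normalizer (Balance.normalizer_le_normalizer_centralizer _)).isSubnormal
  obtain ⟨D, hD, hLD⟩ := exists_orbit ht2 hLt hL hLE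
  refine ⟨D, hD, ?_⟩
  have hLnab : ¬ ⁅L, L⁆ = ⊥ := by
    rw [IsQuasisimple.commutator_self hLq]; exact IsQuasisimple.ne_bot hLq
  set D' := D.map (MulAut.conj t).toMonoidHom with hD'
  by_cases hDt : D' = D
  · rw [orbitSup, ← hD', hDt, sup_idem] at hLD
    rcases eq_or_lt_of_le hLD with he | hlt
    · exact Or.inl he
    refine Or.inr (Or.inl ⟨hlt, ?_⟩)
    have hle : ⁅D, zpowers t⁆ ≤ D := le_normalizer_iff_commutator_le_left.1 (zpowers_le.2 (by
      rw [mem_normalizer_iff_map_conj_eq]; exact hDt))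
    rcases IsQuasisimple.eq_or_commutator_eq_bot hD.2 hle (normalizer_commutator_ge_left _ _) with h | h
    · exact h.symm
    exfalso
    have h1 : ⁅⁅zpowers t, D⁆, D⁆ = ⊥ := by
      rw [commutator_comm (zpowers t) D]; exact commutator_eq_bot_symm h
    have h2 : ⁅⁅D, zpowers t⁆, D⁆ = ⊥ := commutator_eq_bot_symm h
    have h3 := commutator_commutator_eq_bot_of_rotate h2 h1
    rw [IsComponent.commutator_self hD] at h3
    have hDC : D ≤ C := hCz ▸ commutator_eq_bot_iff_le_centralizer.1 h3
    rcases IsQuasisimple.eq_or_commutator_eq_bot_of_subnormal hD.2 hLD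
      (isSubnormal_subgroupOf_mono hL.1 hDC hLD) with h4 | h4
    · exact hlt.ne h4
    · exact hLnab (eq_bot_iff.2 (h4 ▸ commutator_mono hLD le_rfl))
  · refine Or.inr (Or.inr ⟨hDt, ?_⟩)
    set X := D ⊔ D' with hX
    set Y := X ⊓ C with hY
    have hD'c : IsComponent D' := IsComponent.conj hD t
    have hDD : ⁅D, D'⁆ = ⊥ := IsComponent.commutator_eq_bot hD hD'c (Ne.symm hDt)
    have hcomm : ∀ x ∈ D, ∀ y ∈ D', Commute x y := fun x hx y hy =>
      (mem_centralizer_iff.1 (le_centralizer_of_commutator_eq_bot hDD hx) y hy).symm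
    have hconj : ∀ x ∈ D, t * x * t⁻¹ ∈ D' := fun x hx => ⟨x, hx, rfl⟩
    have hti : t⁻¹ = t := inv_eq_of_mul_eq_one_right ht2
    let φ : ↥D →* G := MonoidHom.mk' (fun x => (x : G) * (t * x * t⁻¹)) (fun x y => by
      have := (hcomm y y.2 _ (hconj x x.2)).eq
      calc ((x * y : ↥D) : G) * (t * ((x * y : ↥D) : G) * t⁻¹)
          = (x : G) * ((y : G) * (t * x * t⁻¹)) * (t * y * t⁻¹) := by
            rw [coe_mul]; group
        _ = (x : G) * (t * x * t⁻¹) * ((y : G) * (t * y * t⁻¹)) := by rw [this]; group)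
    have hφY : φ.range ≤ Y := by
      rintro _ ⟨x, rfl⟩
      refine ⟨mul_mem (mem_sup_left x.2) (mem_sup_right (hconj x x.2)), mem_centralizer_t.2 ?_⟩
      show t * ((x : G) * (t * x * t⁻¹)) * t⁻¹ = (x : G) * (t * x * t⁻¹)
      rw [show t * ((x : G) * (t * x * t⁻¹)) * t⁻¹ = (t * x * t⁻¹) * (t * t * x * (t * t)⁻¹) by group,
        ht2, one_mul, inv_one, mul_one]
      exact (hcomm x x.2 _ (hconj x x.2)).eq.symm
    -- elements of `Y` are `φ x` times a central element
    have hdec : ∀ c ∈ Y, ∃ x : ↥D, ∃ z ∈ D ⊓ D', c = φ x * z := by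
      intro c hc
      have hc' : c ∈ X := hc.1
      have hn : D' ≤ normalizer (D : Set G) := IsComponent.le_normalizer hD'c hD
      rw [hX, ← SetLike.mem_coe, coe_mul_of_right_le_normalizer_left D D' hn] at hc'
      obtain ⟨x, hx, _, ⟨y, hy, rfl⟩, hxy⟩ := Set.mem_mul.1 hc'
      simp only [MulEquiv.coe_toMonoidHom, MulAut.conj_apply] at hxy
      have hfix := mem_centralizer_t.1 hc.2
      rw [← hxy] at hfix
      have e1 : y⁻¹ * x = t * x * t⁻¹ * (t * y * t⁻¹)⁻¹ := by
        have h5 : (t * x * t⁻¹) * (t * (t * y * t⁻¹) * t⁻¹) = x * (t * y * t⁻¹) := by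
          rw [← hfix]; group
        rw [show t * (t * y * t⁻¹) * t⁻¹ = t * t * y * (t * t)⁻¹ by group, ht2, one_mul, inv_one,
          mul_one, ← (hcomm y hy _ (hconj x hx)).eq] at h5
        calc y⁻¹ * x = y⁻¹ * (x * (t * y * t⁻¹)) * (t * y * t⁻¹)⁻¹ := by group
          _ = _ := by rw [← h5]; group
      refine ⟨⟨y, hy⟩, y⁻¹ * x, mem_inf.2 ⟨mul_mem (inv_mem hy) hx, e1 ▸ mul_mem (hconj x hx) (inv_mem (hconj y hy))⟩, ?_⟩
      show c = y * (t * y * t⁻¹) * (y⁻¹ * x)
      rw [mul_assoc y, ← (hcomm _ (mul_mem (inv_mem hy) hx) _ (hconj y hy)).eq, ← hxy]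
      group
    have hcz : ∀ z ∈ D ⊓ D', ∀ w ∈ X, Commute z w := by
      intro z hz w hw
      have h6 : X ≤ centralizer ({z} : Set G) := sup_le
        (fun d hd => mem_centralizer_singleton_iff.2 (hcomm d hd z hz.2).eq)
        (fun d hd => mem_centralizer_singleton_iff.2 (hcomm z hz.1 d hd).eq.symm)
      exact (mem_centralizer_singleton_iff.1 (h6 hw)).symm
    have hYc : ⁅Y, Y⁆ ≤ φ.range := commutator_le.2 fun c hc c' hc' => by
      obtain ⟨x, z, hz, rfl⟩ := hdec c hc
      obtain ⟨x', z', hz', rfl⟩ := hdec c' hc'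
      refine ⟨⁅x, x'⁆, ?_⟩
      rw [map_commutatorElement]
      have a1 := (hcz z hz _ (hφY ⟨x', rfl⟩).1).eq
      have a2 := (hcz z' hz' _ (inv_mem (hφY ⟨x, rfl⟩).1)).eq
      have a3 := (hcz z hz _ (mem_sup_left hz'.1)).eq
      simp only [commutatorElement_def, mul_inv_rev]
      calc φ x * φ x' * (φ x)⁻¹ * (φ x')⁻¹
          = φ x * φ x' * ((φ x)⁻¹ * z') * z'⁻¹ * (φ x')⁻¹ := by group
        _ = φ x * φ x' * z' * (z * z⁻¹) * (φ x)⁻¹ * z'⁻¹ * (φ x')⁻¹ := by rw [← a2]; group
        _ = φ x * (φ x' * z) * z' * z⁻¹ * (φ x)⁻¹ * z'⁻¹ * (φ x')⁻¹ := by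
            rw [show φ x * (φ x' * z) * z' = φ x * φ x' * (z * z') by group, a3]; group
        _ = _ := by rw [← a1]; group
    have hrne : φ.range ≠ ⊥ := by
      intro he
      refine IsComponent.ne_bot hD (eq_bot_iff.2 ?_)
      have hDc : D ≤ centralizer (D : Set G) := by
        intro x hx
        have h7 : φ ⟨x, hx⟩ ∈ (⊥ : Subgroup G) := he ▸ ⟨_, rfl⟩
        rw [mem_bot] at h7
        have hxD : x ∈ D' := by
          rw [show x = (t * x * t⁻¹)⁻¹ from eq_inv_of_mul_eq_one_left h7]
          exact inv_mem (hconj x hx)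
        exact mem_centralizer_iff.2 fun y hy => (hcomm y hy x hxD).eq
      rw [← IsComponent.commutator_self hD]
      exact (commutator_eq_bot_iff_le_centralizer.2 hDc).le
    have hrq : IsQuasisimple φ.range := by
      haveI := (nontrivial_iff_ne_bot _).2 hrne
      exact IsQuasisimple.of_surjective hD.2 φ.rangeRestrict φ.rangeRestrict_surjective
    have hΔ : IsComponent (φ.range.subgroupOf Y) := by
      refine ⟨Normal.isSubnormal ?_, IsQuasisimple.subgroupOf_of_le hrq hφY⟩
      exact normal_subgroupOf_of_le_normalizer (le_normalizer_iff_commutator_le_left.2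
        ((commutator_mono hφY le_rfl).trans hYc))
    have hall : ∀ K : Subgroup ↥Y, IsComponent K → K = φ.range.subgroupOf Y := by
      intro K hK
      refine IsComponent.eq_of_le hK hΔ fun k hk => mem_subgroupOf.2 (hYc ?_)
      have h8 : (k : G) ∈ K.map Y.subtype := mem_map_of_mem _ hk
      rw [← IsComponent.commutator_self hK, map_commutator] at h8
      exact commutator_mono (map_subtype_le K) (map_subtype_le K) h8
    have hlay : layer ↥Y = φ.range.subgroupOf Y :=
      le_antisymm (sSup_le fun K hK => (hall K hK).le) (IsComponent.le_layer hΔ)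
    have hLY : L ≤ Y := le_inf hLD hLt
    have hLc : IsComponent (L.subgroupOf Y) :=
      ⟨isSubnormal_subgroupOf_mono hL.1 inf_le_right hLY, IsQuasisimple.subgroupOf_of_le hLq hLY⟩
    rw [hlay, ← hall _ hLc, map_subgroupOf_eq_of_le hLY]
where
  isSubnormal_subgroupOf_mono {L K C : Subgroup G} (h : (L.subgroupOf C).IsSubnormal)
      (hKC : K ≤ C) (hLK : L ≤ K) : (L.subgroupOf K).IsSubnormal := by
    have := h.comap (Subgroup.inclusion hKC)
    exact this

end Cfsg.Agent.FTConsumers.ComponentOfInvolution
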