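import Cfsg.Agent.Lib.FTConsumers.Hyp
import Cfsg.Agent.Lib.Components.Layer

/-!
# Groups whose cyclic 2-subgroups of equal order are conjugate: at most one component
-/

set_option autoImplicit false
set_option linter.style.haveILetI false

namespace Cfsg.Agent.FTConsumers

open Subgroup
open Cfsg Cfsg.Agent.Components

universe u

theorem false_of_two_classes {G : Type u} [Group G] [Finite G]
    (hP : ∀ A B : Subgroup G, IsCyclic A → IsCyclic B → IsPGroup 2 A →
      Nat.card A = Nat.card B → ∃ g : G, B = A.map (MulAut.conj g).toMonoidHom)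
    (R : Subgroup G) [hR : R.Normal] (U : Set G) (hUc : ∀ g : G, ∀ x ∈ U, g * x * g⁻¹ ∈ U)
    (hUp : ∀ x ∈ U, ∀ n : ℕ, x ^ n ∈ U) {x y : G} (hx : ∃ k : ℕ, x ^ (2 ^ k) = 1)
    (hxU : x ∈ U) (hxR : x ∉ R) (hy : ∃ k : ℕ, y ^ (2 ^ k) = 1) (hyU : y ∉ U)
    (hy2 : y ^ 2 ∈ R) : False := by
  have key : ∀ u v : G, (∃ k : ℕ, u ^ (2 ^ k) = 1) → orderOf u = orderOf v →
      ∃ g : G, ∃ n : ℕ, v = g * u ^ n * g⁻¹ := by
    intro u v ⟨k, hk⟩ he
    have hpg : IsPGroup 2 (zpowers u) := by
      rintro ⟨w, hw⟩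
      obtain ⟨n, rfl⟩ := mem_zpowers_iff.1 hw
      refine ⟨k, Subtype.ext ?_⟩
      rw [SubmonoidClass.coe_pow, ← zpow_natCast, zpow_comm, zpow_natCast, hk, one_zpow]
      rfl
    obtain ⟨g, hg⟩ := hP (zpowers u) (zpowers v) inferInstance inferInstance hpg
      (by rw [Nat.card_zpowers, Nat.card_zpowers, he])
    have hv : v ∈ (zpowers u).map (MulAut.conj g).toMonoidHom := hg ▸ mem_zpowers v
    obtain ⟨w, hw, rfl⟩ := hv
    obtain ⟨n, rfl⟩ := mem_powers_iff_mem_zpowers.2 hw
    exact ⟨g, n, rfl⟩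
  haveI : Fact (Nat.Prime 2) := ⟨Nat.prime_two⟩
  obtain ⟨k, hk⟩ := hx
  obtain ⟨l, hl⟩ := hy
  obtain ⟨a, -, ha⟩ := (Nat.dvd_prime_pow Nat.prime_two).1 (orderOf_dvd_of_pow_eq_one hk)
  obtain ⟨b, -, hb⟩ := (Nat.dvd_prime_pow Nat.prime_two).1 (orderOf_dvd_of_pow_eq_one hl)
  rcases le_or_gt b a with h | h
  · have ho : orderOf (x ^ (2 ^ (a - b))) = orderOf y := by
      rw [orderOf_pow' _ (pow_ne_zero _ two_ne_zero), ha,
        Nat.gcd_eq_right (pow_dvd_pow 2 (Nat.sub_le a b)), Nat.pow_div (Nat.sub_le a b) two_pos,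
        Nat.sub_sub_self h, hb]
    obtain ⟨g, n, rfl⟩ := key _ _ ⟨k, by rw [← pow_mul, mul_comm, pow_mul, hk, one_pow]⟩ ho
    exact hyU (hUc g _ (hUp _ (hUp x hxU _) n))
  · have ho : orderOf (y ^ (2 ^ (b - a))) = orderOf x := by
      rw [orderOf_pow' _ (pow_ne_zero _ two_ne_zero), hb,
        Nat.gcd_eq_right (pow_dvd_pow 2 (Nat.sub_le b a)), Nat.pow_div (Nat.sub_le b a) two_pos,
        Nat.sub_sub_self h.le, ha]
    obtain ⟨g, n, rfl⟩ := key _ _ ⟨l, by rw [← pow_mul, mul_comm, pow_mul, hl, one_pow]⟩ ho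
    refine hxR (hR.conj_mem _ (pow_mem ?_ n) g)
    obtain ⟨c, hc⟩ := Nat.exists_eq_succ_of_ne_zero (Nat.sub_ne_zero_of_lt h)
    rw [hc, pow_succ', pow_mul]
    exact pow_mem hy2 _

variable (hFT : OddOrder.{u})

include hFT

theorem exists_two_element_of_isQuasisimple {K : Type u} [Group K] [Finite K]
    (hK : IsQuasisimple K) :
    ∃ x : K, (∃ k : ℕ, x ^ (2 ^ k) = 1) ∧ x ∉ center K ∧ x ^ 2 ∈ center K := by
  haveI : Fact (Nat.Prime 2) := ⟨Nat.prime_two⟩
  obtain ⟨P⟩ := (inferInstance : Nonempty (Sylow 2 K))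
  have hex : ∃ x : K, x ∈ (P : Subgroup K) ∧ x ∉ center K := by
    by_contra hcon
    simp only [not_exists, not_and, not_not] at hcon
    have hodd : Odd (Nat.card (K ⧸ center K)) := by
      rw [← index_eq_card]
      refine Nat.not_even_iff_odd.1 fun he => P.not_dvd_index ?_
      exact he.two_dvd.trans (index_dvd_of_le fun x hx => hcon x hx)
    haveI := hFT _ hodd
    haveI : Group.IsSolvable (center K) :=
      Group.isSolvable_of_comm fun a b => Subtype.ext (mem_center_iff.1 b.2 a)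
    exact Components.IsQuasisimple.not_isSolvable hK
      (Group.isSolvable_of_ker_le_range (center K).subtype (QuotientGroup.mk' (center K))
        (by rw [QuotientGroup.ker_mk', range_subtype]))
  obtain ⟨x, ⟨hxP, hxZ⟩, hmin⟩ :=
    exists_minimalFor_of_wellFoundedLT (fun x : K => x ∈ (P : Subgroup K) ∧ x ∉ center K)
      orderOf hex
  obtain ⟨k, hk⟩ := P.2 ⟨x, hxP⟩
  have hk' : x ^ (2 ^ k) = 1 := congrArg Subtype.val hk
  refine ⟨x, ⟨k, hk'⟩, hxZ, ?_⟩
  by_contra h2
  obtain ⟨a, -, ha⟩ := (Nat.dvd_prime_pow Nat.prime_two).1 (orderOf_dvd_of_pow_eq_one hk')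
  obtain ⟨c, rfl⟩ : ∃ c, a = c + 1 := Nat.exists_eq_succ_of_ne_zero fun h0 => hxZ (by
    rw [h0, pow_zero, orderOf_eq_one_iff] at ha
    rw [ha]; exact one_mem _)
  have h3 : orderOf (x ^ 2) = 2 ^ c := by
    rw [orderOf_pow' _ two_ne_zero, ha, pow_succ, Nat.gcd_eq_right (dvd_mul_left 2 _),
      Nat.mul_div_cancel _ two_pos]
  have h4 : orderOf (x ^ 2) ≤ orderOf x := by
    rw [h3, ha]; exact Nat.pow_le_pow_right two_pos (Nat.le_succ c)
  have h5 := hmin ⟨pow_mem hxP 2, h2⟩ h4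
  rw [h3, ha, Nat.pow_le_pow_iff_right (le_refl 2)] at h5
  omega

/-- S3915 given the odd order theorem; only the prime 2 is needed. -/
theorem isSimple_layer_quotient {G : Type u} [Group G] [Finite G]
    (hP : ∀ A B : Subgroup G, IsCyclic A → IsCyclic B → IsPGroup 2 A →
      Nat.card A = Nat.card B → ∃ g : G, B = A.map (MulAut.conj g).toMonoidHom)
    (hE : layer G ≠ ⊥) :
    IsSimpleGroup (layer G ⧸ center (layer G)) ∧
      ¬ IsMulCommutative (layer G ⧸ center (layer G)) := by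
  obtain ⟨K, hK⟩ : ∃ K : Subgroup G, IsComponent K := by
    by_contra h
    refine hE (le_bot_iff.1 (sSup_le fun K hK => absurd ⟨K, hK⟩ h))
  by_cases huniq : ∀ L : Subgroup G, IsComponent L → L = K
  · have he : layer G = K :=
      le_antisymm (sSup_le fun L hL => (huniq L hL).le) (IsComponent.le_layer hK)
    rw [he]
    refine ⟨(IsComponent.isQuasisimple hK).2, fun hcomm => (IsComponent.not_isSolvable hK) ?_⟩
    haveI := hcomm
    haveI : Group.IsSolvable (center K) :=
      Group.isSolvable_of_comm fun a b => Subtype.ext (mem_center_iff.1 b.2 a)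
    haveI : Group.IsSolvable (K ⧸ center K) := Group.isSolvable_of_comm fun a b => mul_comm' a b
    exact Group.isSolvable_of_ker_le_range (center K).subtype (QuotientGroup.mk' (center K))
      (by rw [QuotientGroup.ker_mk', range_subtype])
  exfalso
  simp only [not_forall] at huniq
  obtain ⟨L, hL, hne⟩ := huniq
  -- components commute elementwise
  have hcomm : ∀ C D : Subgroup G, IsComponent C → IsComponent D → C ≠ D →
      C ≤ centralizer (D : Set G) := fun C D hC hD h =>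
    commutator_eq_bot_iff_le_centralizer.1 ((IsComponent.commutator_eq_bot hC) hD h)
  -- the centre of a component centralises the layer
  have hcent : ∀ C : Subgroup G, IsComponent C → ∀ c ∈ C, c ∈ centralizer (C : Set G) →
      c ∈ layer G ⊓ centralizer (layer G : Set G) := by
    intro C hC c hc hcc
    refine ⟨(IsComponent.le_layer hC) hc, ?_⟩
    suffices h : layer G ≤ centralizer ({c} : Set G) by
      exact mem_centralizer_iff.2 fun e he => mem_centralizer_singleton_iff.1 (h he)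
    refine sSup_le fun D hD d hd => mem_centralizer_singleton_iff.2 ?_
    by_cases h : D = C
    · subst h
      exact mem_centralizer_iff.1 hcc d hd
    · exact (mem_centralizer_iff.1 (hcomm C D hC hD (Ne.symm h) hc) d hd)
  set R := layer G ⊓ centralizer (layer G : Set G) with hR
  obtain ⟨x₁, ⟨k₁, hk₁⟩, hx₁, hx₁2⟩ := exists_two_element_of_isQuasisimple hFT (IsComponent.isQuasisimple hL)
  obtain ⟨x₂, ⟨k₂, hk₂⟩, hx₂, hx₂2⟩ := exists_two_element_of_isQuasisimple hFT (IsComponent.isQuasisimple hK)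
  have hsq : ∀ {C : Subgroup G} (hC : IsComponent C) {x : C}, x ^ 2 ∈ center C →
      ((x : G)) ^ 2 ∈ R := fun {C} hC {x} hx => hcent C hC _ (pow_mem x.2 2)
    (mem_centralizer_iff.2 fun e he => by
      simpa using congrArg Subtype.val (mem_center_iff.1 hx ⟨e, he⟩))
  have hnc : ∀ {C : Subgroup G} {x : C}, x ∉ center C → (x : G) ∉ centralizer (C : Set G) :=
    fun {C} {x} hx h => hx (mem_center_iff.2 fun e =>
      Subtype.ext (mem_centralizer_iff.1 h e e.2))
  have hc12 : Commute (x₁ : G) (x₂ : G) :=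
    (mem_centralizer_iff.1 (hcomm L K hL hK hne x₁.2) _ x₂.2).symm
  let U : Set G := {g | ∃ C : Subgroup G, IsComponent C ∧ g ∈ C ⊔ R}
  refine false_of_two_classes hP R U ?_ ?_ (x := (x₁ : G)) (y := (x₁ : G) * x₂)
    ⟨k₁, by simpa using congrArg Subtype.val hk₁⟩ ⟨L, hL, mem_sup_left x₁.2⟩ ?_ ?_ ?_ ?_
  · rintro g x ⟨C, hC, hx⟩
    refine ⟨C.map (MulAut.conj g).toMonoidHom, IsComponent.conj hC g, ?_⟩
    have h := mem_map_of_mem (MulAut.conj g).toMonoidHom hx
    have hmR : R.map (MulAut.conj g).toMonoidHom ≤ R := map_le_iff_le_comap.2 fun r hr =>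
      (inferInstance : R.Normal).conj_mem r hr g
    rw [Subgroup.map_sup] at h
    exact sup_le_sup_left hmR _ h
  · rintro x ⟨C, hC, hx⟩ n
    exact ⟨C, hC, pow_mem hx n⟩
  · intro h
    exact hnc hx₁ (centralizer_le ((IsComponent.le_layer hL)) h.2)
  · refine ⟨max k₁ k₂, ?_⟩
    rw [hc12.mul_pow]
    obtain ⟨i, hi⟩ := pow_dvd_pow 2 (le_max_left k₁ k₂)
    obtain ⟨j, hj⟩ := pow_dvd_pow 2 (le_max_right k₁ k₂)
    have e1 : (x₁ : G) ^ (2 ^ k₁) = 1 := by simpa using congrArg Subtype.val hk₁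
    have e2 : (x₂ : G) ^ (2 ^ k₂) = 1 := by simpa using congrArg Subtype.val hk₂
    conv_lhs => arg 1; rw [hi, pow_mul, e1, one_pow]
    rw [hj, pow_mul, e2, one_pow, one_mul]
  · rintro ⟨C, hC, hy⟩
    -- a component other than `C` is centralised by the product
    by_cases hCL : C = L
    · subst hCL
      have hle : C ⊔ R ≤ centralizer (K : Set G) :=
        sup_le (hcomm C K hC hK hne) (inf_le_right.trans (centralizer_le (IsComponent.le_layer hK)))
      refine hnc hx₂ ?_
      have h1 : (x₁ : G) ∈ centralizer (K : Set G) := hcomm C K hC hK hne x₁.2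
      exact ((centralizer (K : Set G)).mul_mem_cancel_left h1).1 (hle hy)
    · have hle : C ⊔ R ≤ centralizer (L : Set G) :=
        sup_le (hcomm C L hC hL hCL) (inf_le_right.trans (centralizer_le (IsComponent.le_layer hL)))
      refine hnc hx₁ ?_
      have h2 : (x₂ : G) ∈ centralizer (L : Set G) := hcomm K L hK hL (Ne.symm hne) x₂.2
      exact ((centralizer (L : Set G)).mul_mem_cancel_right h2).1 (hle hy)
  · rw [hc12.mul_pow]
    exact mul_mem (hsq hL hx₁2) (hsq hK hx₂2)

end Cfsg.Agent.FTConsumers
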