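import Cfsg.Agent.Lib.FTConsumers.Hyp
import Cfsg.Agent.Lib.Signalizer.Equivariant

/-!
# The span of the cores of involution centralisers

If every 2-local subgroup is 2-constrained and `SCN₃(2)` is non-empty then, given the odd order theorem and
the solvable signalizer functor theorem, one subgroup of odd order is the span of the `O(C(b))` over every
subgroup of rank two of a fixed Sylow 2-subgroup.
-/

set_option autoImplicit false
set_option linter.style.haveILetI false

namespace Cfsg.Agent.FTConsumers.CoreSpan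

open Subgroup Cfsg Cfsg.Agent.Signalizer

universe u

section Elementary

variable {G : Type*} [Group G] [Finite G]

theorem isMulCommutative_comm {B : Subgroup G} (hB : IsElementaryAbelian 2 B) {x y : G}
    (hx : x ∈ B) (hy : y ∈ B) : x * y = y * x :=
  congrArg Subtype.val (hB.1.is_comm.comm (⟨x, hx⟩ : B) ⟨y, hy⟩)

theorem isPGroup_elementary {B : Subgroup G} (hB : IsElementaryAbelian 2 B) : IsPGroup 2 B :=
  fun e => ⟨1, Subtype.ext (by simpa using hB.2 e e.2)⟩

theorem not_isCyclic_of_two_lt {B : Subgroup G} (hB : IsElementaryAbelian 2 B)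
    (h : 2 < Nat.card B) : ¬ IsCyclic B := by
  intro hc
  obtain ⟨g, hg⟩ := hc.exists_generator
  have : Nat.card B ≤ 2 := by
    rw [← Nat.card_congr (Equiv.subtypeUnivEquiv hg), Nat.card_zpowers]
    exact Nat.le_of_dvd two_pos (orderOf_dvd_of_pow_eq_one (Subtype.ext (by simpa using hB.2 g g.2)))
  omega

/-- An elementary abelian subgroup of order more than two inside a subgroup of rank above one. -/
theorem exists_rank_two {B : Subgroup G} (h : ¬ PRankLE 2 1 ↥B) :
    ∃ E : Subgroup G, E ≤ B ∧ IsElementaryAbelian 2 E ∧ 2 < Nat.card E := by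
  simp only [PRankLE, not_forall, not_le, pow_one] at h
  obtain ⟨A, hA, hA1, hlt⟩ := h
  refine ⟨A.map B.subtype, map_subtype_le _, ⟨⟨⟨?_⟩⟩, ?_⟩, ?_⟩
  · rintro ⟨_, x, hx, rfl⟩ ⟨_, y, hy, rfl⟩
    exact Subtype.ext (by
      simpa using congrArg (fun z : A => ((z : B) : G)) (hA.is_comm.comm (⟨x, hx⟩ : A) ⟨y, hy⟩))
  · rintro _ ⟨x, hx, rfl⟩
    show ((x ^ 2 : ↥B) : G) = 1
    rw [hA1 x hx, OneMemClass.coe_one]
  · rwa [card_map_of_injective B.subtype_injective]

/-- The fixed points of an involution on an elementary abelian 2-group of order at least eight have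
order more than two. -/
theorem two_lt_card_inf_centralizer {V : Subgroup G} (hV : IsElementaryAbelian 2 V)
    (hV8 : 8 ≤ Nat.card V) {e : G} (he : e ^ 2 = 1) (hn : ∀ v ∈ V, e * v * e⁻¹ ∈ V) :
    2 < Nat.card ↥(V ⊓ centralizer {e}) := by
  have hinv : ∀ v ∈ V, v⁻¹ = v := fun v hv => inv_eq_of_mul_eq_one_right (by
    rw [← sq, hV.2 v hv])
  let f : V →* V :=
    { toFun := fun v => ⟨(v : G) * (e * v * e⁻¹), mul_mem v.2 (hn v v.2)⟩
      map_one' := Subtype.ext (by simp)
      map_mul' := fun a b => Subtype.ext (by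
        show (a : G) * b * (e * ((a : G) * b) * e⁻¹)
          = (a : G) * (e * a * e⁻¹) * ((b : G) * (e * b * e⁻¹))
        calc (a : G) * b * (e * ((a : G) * b) * e⁻¹)
            = (a : G) * (b * (e * a * e⁻¹)) * (e * b * e⁻¹) := by group
          _ = (a : G) * ((e * a * e⁻¹) * b) * (e * b * e⁻¹) := by
              rw [isMulCommutative_comm hV b.2 (hn a a.2)]
          _ = _ := by group) }
  set C := V ⊓ centralizer ({e} : Set G)
  have he' : e⁻¹ = e := inv_eq_of_mul_eq_one_right (by rw [← sq, he])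
  have hrange : f.range.map V.subtype ≤ C := by
    rintro _ ⟨_, ⟨v, rfl⟩, rfl⟩
    refine ⟨(f v).2, mem_centralizer_iff.mpr fun y hy => ?_⟩
    rw [Set.mem_singleton_iff.mp hy]
    show e * ((v : G) * (e * v * e⁻¹)) = (v : G) * (e * v * e⁻¹) * e
    refine mul_inv_eq_iff_eq_mul.mp ?_
    have hw : e * (e * v * e⁻¹) * e⁻¹ = v := by
      rw [show e * (e * (v : G) * e⁻¹) * e⁻¹ = e ^ 2 * v * (e ^ 2)⁻¹ by simp [pow_two, mul_assoc],
        he]
      group
    calc e * ((v : G) * (e * v * e⁻¹)) * e⁻¹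
        = (e * v * e⁻¹) * (e * (e * v * e⁻¹) * e⁻¹) := by group
      _ = (v : G) * (e * v * e⁻¹) := by rw [hw, isMulCommutative_comm hV (hn v v.2) v.2]
  have hker : f.ker.map V.subtype ≤ C := by
    rintro _ ⟨v, hv, rfl⟩
    refine ⟨v.2, mem_centralizer_iff.mpr fun y hy => ?_⟩
    rw [Set.mem_singleton_iff.mp hy]
    have h : (v : G) * (e * v * e⁻¹) = 1 := congrArg Subtype.val hv
    have h2 : e * (v : G) * e⁻¹ = v := by
      rw [← inv_eq_of_mul_eq_one_right h, hinv v v.2]
    show e * (v : G) = v * e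
    exact mul_inv_eq_iff_eq_mul.mp h2
  have h1 := card_dvd_of_le hrange
  have h2 := card_dvd_of_le hker
  rw [card_map_of_injective V.subtype_injective] at h1 h2
  have h3 := Subgroup.card_mul_index f.ker
  rw [Subgroup.index_ker] at h3
  have h4 := Nat.le_of_dvd Nat.card_pos h1
  have h5 := Nat.le_of_dvd Nat.card_pos h2
  generalize Nat.card ↥f.range = r at h3 h4
  generalize Nat.card ↥f.ker = k at h3 h5
  generalize Nat.card ↥V = n at h3 hV8
  generalize Nat.card ↥C = c at h4 h5 ⊢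
  rw [← h3] at hV8
  by_contra hc
  have : k * r ≤ 2 * 2 := Nat.mul_le_mul (by omega) (by omega)
  omega

end Elementary

variable {G : Type u} [Group G] [Finite G]

/-- `θ(x) = O(C(x))`. -/
local notation "θ" => fun x => centralizerPPrimeCore 2 (G := G) x

theorem conj_mem_core {a g x : G} (hx : x ∈ centralizerPPrimeCore 2 a) :
    g * x * g⁻¹ ∈ centralizerPPrimeCore 2 (g * a * g⁻¹) :=
  map_centralizerPPrimeCore a g ⟨x, hx, rfl⟩

theorem conj_mem_span {E : Subgroup G} {n : G} (hn : n ∈ normalizer (E : Set G)) {x : G}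
    (hx : x ∈ span θ E) : n * x * n⁻¹ ∈ span θ E := by
  have hle : span θ E ≤ (span θ E).comap (MulAut.conj n).toMonoidHom :=
    iSup_le fun a y hy => by
      let z : {c : G // c ∈ E ∧ c ≠ 1} :=
        ⟨n * a.1 * n⁻¹, (mem_normalizer_iff.mp hn _).mp a.2.1, fun h => a.2.2 (conj_eq_one_iff.mp h)⟩
      have hz : n * y * n⁻¹ ∈ centralizerPPrimeCore 2 (z : G) := conj_mem_core hy
      exact mem_iSup_of_mem (S := fun c : {c : G // c ∈ E ∧ c ≠ 1} => centralizerPPrimeCore 2 (c : G))
        z hz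
  exact hle hx

variable (hFT : FTConsumers.OddOrder.{u}) (hS : HasSFT 2 G)
  (h2c : ∀ T : Subgroup G, IsPGroup 2 T → T ≠ ⊥ → IsPConstrained 2 ↥(normalizer (T : Set G)))

include h2c in
theorem isPConstrained_centralizer_involution {b : G} (hb : orderOf b = 2) :
    IsPConstrained 2 ↥(centralizer ({b} : Set G)) := by
  have hb2 : b ^ 2 = 1 := by rw [← hb, pow_orderOf_eq_one]
  have hp : IsPGroup 2 (zpowers b) :=
    IsPGroup.of_card (n := 1) (by rw [Nat.card_zpowers, hb, pow_one])
  have hne : zpowers b ≠ ⊥ := by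
    rw [Ne, zpowers_eq_bot]; rintro rfl; simp at hb
  have he : normalizer ((zpowers b : Subgroup G) : Set G) = centralizer ({b} : Set G) := by
    refine le_antisymm (fun g hg => ?_) ?_
    · refine mem_centralizer_iff.mpr fun y hy => ?_
      rw [Set.mem_singleton_iff.mp hy]
      obtain ⟨k, hk⟩ := (mem_normalizer_iff.mp hg b).mp (mem_zpowers b)
      have hk' : b ^ k = g * b * g⁻¹ := hk
      rcases Int.even_or_odd' k with ⟨i, rfl | rfl⟩
      · rw [zpow_mul, zpow_two, ← sq, hb2, one_zpow, eq_comm, conj_eq_one_iff] at hk'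
        simp [hk'] at hb
      · rw [zpow_add, zpow_mul, zpow_two, ← sq, hb2, one_zpow, one_mul, zpow_one] at hk'
        conv_lhs => rw [hk']
        group
    · rw [← centralizer_closure, ← zpowers_eq_closure]
      exact centralizer_le_normalizer _
  exact he ▸ h2c _ hp hne

include hFT hS h2c in
theorem span_of_elementary {B : Subgroup G} (hB : IsElementaryAbelian 2 B) (hB8 : 8 ≤ Nat.card B) :
    ¬ 2 ∣ Nat.card (span θ B) ∧
      (∀ x ∈ B, x ≠ 1 → span θ B ⊓ centralizer {x} = centralizerPPrimeCore 2 x) ∧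
      ∀ E ≤ B, 2 < Nat.card E → span θ E = span θ B := by
  haveI : Fact (Nat.Prime 2) := ⟨Nat.prime_two⟩
  have hcore : ∀ x : G, ¬ 2 ∣ Nat.card ↥(centralizerPPrimeCore 2 x) := fun x => by
    unfold centralizerPPrimeCore
    rw [card_map_of_injective (subtype_injective _)]
    exact Nat.prime_two.coprime_iff_not_dvd.mp
      (Nat.coprime_comm.mp PCore.coprime_card_pPrimeCore)
  have hcomm : ∀ x ∈ B, ∀ y ∈ B, x * y = y * x := fun x hx y hy => isMulCommutative_comm hB hx hy
  obtain ⟨h1, h2⟩ := hS B hcomm hB.2 (by norm_num; omega) θ (fun x _ _ => map_subtype_le _)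
    (fun x _ _ => hcore x)
    (fun x hx _ b hb y hy => by
      have := conj_mem_core (g := b) hy
      rwa [hcomm b hb x hx, mul_inv_cancel_right] at this)
    (fun x _ _ => hFT _ (Nat.odd_iff.mpr (Nat.two_dvd_ne_zero.mp (hcore x))))
    (fun x hx hx1 y hy hy1 => balance_centralizerPPrimeCore (hB.2 x hx) (hcomm x hx y hy)
      (isPConstrained_centralizer_involution h2c (orderOf_eq_prime (hB.2 y hy) hy1)))
  refine ⟨h1, h2, fun E hEB hE => ?_⟩
  have hEel : IsElementaryAbelian 2 E :=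
    ⟨⟨⟨fun x y => Subtype.ext (hcomm x (hEB x.2) y (hEB y.2))⟩⟩, fun x hx => hB.2 x (hEB hx)⟩
  haveI := hEel.1
  refine Coprime.eq_of_forall_centralizer_le (not_isCyclic_of_two_lt hEel hE)
    (fun e he => ?_) ?_ (iSup_le fun x =>
      le_iSup (fun z : {a : G // a ∈ B ∧ a ≠ 1} => θ z) ⟨x.1, hEB x.2.1, x.2.2⟩) fun x hx hx1 => ?_
  · refine mem_normalizer_iff.mpr fun y => ⟨fun hy => conj_mem_span ?_ hy, fun hy => ?_⟩
    · exact le_normalizer (hEB he)
    · have := conj_mem_span (le_normalizer (inv_mem (hEB he))) hy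
      simpa [mul_assoc] using this
  · obtain ⟨n, hn⟩ := IsPGroup.iff_card.mp (isPGroup_elementary hEel)
    rw [hn]
    exact Nat.Coprime.pow_left n (Nat.prime_two.coprime_iff_not_dvd.mpr h1)
  · exact (h2 x (hEB hx) hx1).le.trans
      (le_iSup (fun z : {a : G // a ∈ E ∧ a ≠ 1} => θ z) ⟨x, hx, hx1⟩)

include hFT hS h2c in
/-- The common span. -/
theorem exists_span (S : Sylow 2 G) (A : Subgroup ↥(S : Subgroup G)) (hAn : A.Normal)
    (hAab : IsMulCommutative ↥A) (hA3 : ¬ PRankLE 2 2 ↥A) (S' : Sylow 2 G) :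
    ∃ W : Subgroup G, Odd (Nat.card ↥W) ∧
      ∀ B : Subgroup G, B ≤ (S' : Subgroup G) → ¬ PRankLE 2 1 ↥B →
        W = (⨆ b : {b : G // b ∈ B ∧ b ≠ 1}, centralizerPPrimeCore 2 (b : G)) ∧
        normalizer (B : Set G) ≤ normalizer (W : Set G) := by
  haveI : Fact (Nat.Prime 2) := ⟨Nat.prime_two⟩
  obtain ⟨g, rfl⟩ := MulAction.exists_smul_eq G S S'
  -- an elementary abelian subgroup of order at least eight normalised by `S'`
  obtain ⟨A₀, hA₀A, hA₀, hA₀8⟩ := exists_rank_three hA3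
  let Ω : Subgroup ↥(S : Subgroup G) :=
    { carrier := {a | a ∈ A ∧ a ^ 2 = 1}
      one_mem' := ⟨one_mem _, one_pow 2⟩
      mul_mem' := fun {a b} ha hb => ⟨mul_mem ha.1 hb.1, by
        rw [(show Commute a b from congrArg Subtype.val
          (hAab.is_comm.comm (⟨a, ha.1⟩ : A) ⟨b, hb.1⟩)).mul_pow, ha.2, hb.2, one_mul]⟩
      inv_mem' := fun {a} ha => ⟨inv_mem ha.1, by rw [inv_pow, ha.2, inv_one]⟩ }
  let φ : ↥(S : Subgroup G) →* G := (MulAut.conj g).toMonoidHom.comp (S : Subgroup G).subtype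
  have hφ : Function.Injective φ := (MulAut.conj g).injective.comp (subtype_injective _)
  set V := Ω.map φ with hVdef
  have hV : IsElementaryAbelian 2 V := by
    refine ⟨⟨⟨?_⟩⟩, ?_⟩
    · rintro ⟨_, x, hx, rfl⟩ ⟨_, y, hy, rfl⟩
      refine Subtype.ext ?_
      show φ x * φ y = φ y * φ x
      rw [← map_mul, ← map_mul]
      exact congrArg φ (congrArg Subtype.val (hAab.is_comm.comm (⟨x, hx.1⟩ : A) ⟨y, hy.1⟩))
    · rintro _ ⟨x, hx, rfl⟩
      rw [← map_pow, hx.2, map_one]
  have hV8 : 8 ≤ Nat.card V := by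
    rw [card_map_of_injective hφ]
    refine le_trans (by norm_num at hA₀8 ⊢; exact hA₀8) (Nat.le_of_dvd Nat.card_pos (card_dvd_of_le ?_))
    exact fun a ha => ⟨hA₀A ha, hA₀.2 a ha⟩
  have hVn : ∀ s ∈ ((g • S : Sylow 2 G) : Subgroup G), ∀ v ∈ V, s * v * s⁻¹ ∈ V := by
    intro s hs v hv
    rw [Sylow.coe_subgroup_smul, Subgroup.mem_pointwise_smul_iff_inv_smul_mem] at hs
    obtain ⟨x, hx, rfl⟩ := hv
    refine ⟨⟨_, hs⟩ * x * ⟨_, hs⟩⁻¹, ⟨hAn.conj_mem x hx.1 _, ?_⟩, ?_⟩
    · rw [conj_pow, hx.2, mul_one, mul_inv_cancel]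
    · simp [φ, mul_assoc]
  set W := span θ V with hWdef
  obtain ⟨hW1, hW2, -⟩ := span_of_elementary hFT hS h2c hV hV8
  -- involutions of `S'`
  have key : ∀ e ∈ ((g • S : Sylow 2 G) : Subgroup G), orderOf e = 2 →
      centralizerPPrimeCore 2 e ≤ W ∧ W ⊓ centralizer {e} ≤ centralizerPPrimeCore 2 e ∧
        e ∈ normalizer (W : Set G) := by
    intro e he he2
    have he1 : e ≠ 1 := by rintro rfl; simp at he2
    have hesq : e ^ 2 = 1 := by rw [← he2, pow_orderOf_eq_one]
    obtain ⟨B, hB, hB8, heB, hWB⟩ : ∃ B : Subgroup G, IsElementaryAbelian 2 B ∧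
        8 ≤ Nat.card B ∧ e ∈ B ∧ span θ B = W := by
      by_cases heV : e ∈ V
      · exact ⟨V, hV, hV8, heV, rfl⟩
      set V₁ := V ⊓ centralizer ({e} : Set G)
      have hc3 : 2 < Nat.card V₁ := two_lt_card_inf_centralizer hV hV8 hesq (hVn e he)
      have hV₁ : IsElementaryAbelian 2 V₁ :=
        ⟨⟨⟨fun x y => Subtype.ext (isMulCommutative_comm hV x.2.1 y.2.1)⟩⟩, fun x hx => hV.2 x hx.1⟩
      have hz : IsElementaryAbelian 2 (zpowers e) := by
        refine ⟨inferInstance, ?_⟩
        rintro _ ⟨k, rfl⟩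
        show (e ^ k) ^ 2 = 1
        rw [← zpow_natCast, ← zpow_mul, mul_comm, zpow_mul, zpow_natCast, hesq, one_zpow]
      have hB : IsElementaryAbelian 2 (zpowers e ⊔ V₁) := by
        refine Signalizer.sup_elementary hz hV₁ ?_
        rintro _ ⟨k, rfl⟩ y hy
        exact ((show Commute e y from mem_centralizer_iff.mp hy.2 e rfl).zpow_left k).eq
      have h8 : 8 ≤ Nat.card ↥(zpowers e ⊔ V₁) := by
        obtain ⟨n, hn⟩ := IsPGroup.iff_card.mp (isPGroup_elementary hB)
        obtain ⟨m, hm⟩ := IsPGroup.iff_card.mp (isPGroup_elementary hV₁)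
        have hlt : Nat.card V₁ < Nat.card ↥(zpowers e ⊔ V₁) :=
          lt_of_not_ge fun h => heV (inf_le_left (a := V) (b := centralizer ({e} : Set G))
            ((eq_of_le_of_card_ge le_sup_right h).ge (mem_sup_left (mem_zpowers e))))
        rw [hn, hm] at hlt
        rw [hm] at hc3
        rw [hn]
        have hm2 : 1 < m := by
          by_contra hh
          interval_cases m <;> simp_all
        have hnm := (Nat.pow_lt_pow_iff_right (by norm_num)).mp hlt
        calc 8 = 2 ^ 3 := rfl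
          _ ≤ 2 ^ n := Nat.pow_le_pow_right two_pos (by omega)
      refine ⟨_, hB, h8, mem_sup_left (mem_zpowers e), ?_⟩
      exact ((span_of_elementary hFT hS h2c hB h8).2.2 V₁ le_sup_right hc3).symm.trans
        ((span_of_elementary hFT hS h2c hV hV8).2.2 V₁ inf_le_left hc3)
    obtain ⟨-, h2, -⟩ := span_of_elementary hFT hS h2c hB hB8
    rw [← hWB, h2 e heB he1]
    refine ⟨le_iSup (fun z : {a : G // a ∈ B ∧ a ≠ 1} => θ z) ⟨e, heB, he1⟩, le_rfl,
      mem_normalizer_iff.mpr fun y => ⟨fun hy => conj_mem_span (le_normalizer heB) hy, fun hy => ?_⟩⟩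
    have := conj_mem_span (le_normalizer (inv_mem heB)) hy
    simpa [mul_assoc] using this
  refine ⟨W, Nat.odd_iff.mpr (Nat.two_dvd_ne_zero.mp hW1), fun B hBS hB => ?_⟩
  -- powers down to involutions
  have hle : ∀ b ∈ B, b ≠ 1 → centralizerPPrimeCore 2 b ≤ W := by
    intro b hb hb1
    obtain ⟨k, hk⟩ := IsPGroup.iff_orderOf.mp (g • S).isPGroup' ⟨b, hBS hb⟩
    rw [Subgroup.orderOf_mk] at hk
    have hk1 : k ≠ 0 := by
      rintro rfl
      exact hb1 (orderOf_eq_one_iff.mp (by simpa using hk))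
    obtain ⟨j, rfl⟩ := Nat.exists_eq_succ_of_ne_zero hk1
    set b' := b ^ 2 ^ j with hb'def
    have hb' : orderOf b' = 2 := by
      rw [hb'def, orderOf_pow_of_dvd (by simp) (by rw [hk]; exact Nat.pow_dvd_pow 2 j.le_succ), hk,
        Nat.pow_div j.le_succ two_pos]
      simp
    have hcb : b * b' = b' * b := ((Commute.refl b).pow_right _).eq
    refine le_trans ?_ (key b' (hBS (pow_mem hb _)) hb').1
    intro x hx
    refine balance_centralizerPPrimeCore' (n := j + 1) (by rw [← hk, pow_orderOf_eq_one]) hcb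
      (isPConstrained_centralizer_involution h2c hb') ⟨hx, mem_centralizer_iff.mpr fun y hy => ?_⟩
    rw [Set.mem_singleton_iff.mp hy, hb'def]
    exact ((show Commute b x from
      mem_centralizer_iff.mp (map_subtype_le _ hx) b rfl).pow_left _).eq
  have hspan : W = span θ B := by
    refine le_antisymm ?_ (iSup_le fun b => hle b b.2.1 b.2.2)
    obtain ⟨E, hEB, hE, hE2⟩ := exists_rank_two hB
    haveI := hE.1
    have hord : ∀ x ∈ E, x ≠ 1 → orderOf x = 2 := fun x hx hx1 =>
      orderOf_eq_prime (hE.2 x hx) hx1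
    have hEW : span θ E = W := by
      refine Coprime.eq_of_forall_centralizer_le (not_isCyclic_of_two_lt hE hE2) (fun e he => ?_) ?_
        (iSup_le fun x => hle x (hEB x.2.1) x.2.2) fun x hx hx1 => ?_
      · rcases eq_or_ne e 1 with rfl | he1
        · exact one_mem _
        · exact (key e (hBS (hEB he)) (hord e he he1)).2.2
      · obtain ⟨n, hn⟩ := IsPGroup.iff_card.mp (isPGroup_elementary hE)
        rw [hn]
        exact Nat.Coprime.pow_left n (Nat.prime_two.coprime_iff_not_dvd.mpr hW1)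
      · exact ((key x (hBS (hEB hx)) (hord x hx hx1)).2.1).trans
          (le_iSup (fun z : {a : G // a ∈ E ∧ a ≠ 1} => θ z) ⟨x, hx, hx1⟩)
    rw [← hEW]
    exact iSup_le fun x => le_iSup (fun z : {a : G // a ∈ B ∧ a ≠ 1} => θ z) ⟨x.1, hEB x.2.1, x.2.2⟩
  refine ⟨hspan, fun n hn => ?_⟩
  rw [hspan]
  refine mem_normalizer_iff.mpr fun y => ⟨fun hy => conj_mem_span hn hy, fun hy => ?_⟩
  have := conj_mem_span (inv_mem hn) hy
  simpa [mul_assoc] using this

end Cfsg.Agent.FTConsumers.CoreSpan
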