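import Cfsg.Agent.Lib.FTConsumers.Hyp
import Cfsg.Agent.Lib.ZStar.Main
import Cfsg.Agent.Lib.PCore.Basic
import Cfsg.Agent.Lib.PCore.HallHigman
import Cfsg.Agent.Lib.PCore.PSolvable
import Cfsg.Agent.Lib.Solvable.Hall
import Cfsg.Agent.Lib.PGroup.UniqueOrderP
import Mathlib.GroupTheory.Transfer
import Mathlib.GroupTheory.SpecificGroups.Quaternion

/-!
# Cyclic intersections of Sylow 2-subgroups

If any two Sylow 2-subgroups of a nonsolvable group meet in a cyclic group and the odd core is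
trivial, then, given the odd order theorem, `O₂` is cyclic and central
(`pCore_isCyclic`, `pCore_le_center`).

The proof works in `G ⧸ F`, `F = O₂(G)`, with `C = C(F) ≠ ⊤`: the involutions of `C` outside `F`
lie in one Sylow subgroup each; any two in different Sylow subgroups are conjugate modulo `F`, so
in a fixed `S` they form one `S`-orbit modulo `F`, hence one class, which is then isolated.
-/

set_option autoImplicit false
set_option linter.style.haveILetI false

namespace Cfsg.Agent.FTConsumers.CyclicInter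

open Subgroup
open scoped Pointwise commutatorElement

universe u

variable {G : Type u} [Group G] [Finite G]

/-- Distinct Sylow 2-subgroups meet in a cyclic group. -/
def Hypo (G : Type u) [Group G] : Prop :=
  ∀ S T : Sylow 2 G, S ≠ T → IsCyclic ↥((S : Subgroup G) ⊓ (T : Subgroup G))

theorem exists_two_sylow (hFT : OddOrder.{u}) (hns : ¬ Group.IsSolvable G) (S : Sylow 2 G) :
    ∃ g : G, g • S ≠ S := by
  haveI : Fact (Nat.Prime 2) := ⟨Nat.prime_two⟩
  by_contra hall
  push Not at hall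
  haveI hn : (S : Subgroup G).Normal := normalizer_eq_top_iff.1 (eq_top_iff.2 fun g _ =>
    Sylow.smul_eq_iff_mem_normalizer.1 (hall g))
  haveI : Group.IsSolvable (G ⧸ (S : Subgroup G)) := hFT _ (by
    rw [← index_eq_card, ← Nat.not_even_iff_odd, even_iff_two_dvd]
    exact S.not_dvd_index)
  haveI := S.2.isNilpotent
  exact hns (Group.isSolvable_of_ker_le_range (S : Subgroup G).subtype
    (QuotientGroup.mk' (S : Subgroup G)) (by simp))

theorem isCyclic_of_le {H K : Subgroup G} (hle : H ≤ K) (hc : IsCyclic K) : IsCyclic H :=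
  isCyclic_of_injective (inclusion hle) (inclusion_injective hle)

theorem pCore_isCyclic (hFT : OddOrder.{u}) (hns : ¬ Group.IsSolvable G) (hI : Hypo G) :
    IsCyclic ↥(Cfsg.pCore 2 G) := by
  haveI : Fact (Nat.Prime 2) := ⟨Nat.prime_two⟩
  let S : Sylow 2 G := default
  obtain ⟨g, hg⟩ := exists_two_sylow hFT hns S
  exact isCyclic_of_le (le_inf (PCore.pCore_le_sylow _) (PCore.pCore_le_sylow _)) (hI _ _ hg)

/-- In a cyclic group two involutions coincide. -/
theorem involution_eq {H : Subgroup G} (hc : IsCyclic H) {x y : G} (hx : x ∈ H) (hy : y ∈ H)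
    (hx2 : orderOf x = 2) (hy2 : orderOf y = 2) : x = y := by
  classical
  haveI := Fintype.ofFinite H
  by_contra hne
  have h1 : ({1, ⟨x, hx⟩, ⟨y, hy⟩} : Finset H) ⊆ Finset.univ.filter (fun a : H => a ^ 2 = 1) := by
    intro a ha
    simp only [Finset.mem_insert, Finset.mem_singleton] at ha
    simp only [Finset.mem_filter, Finset.mem_univ, true_and]
    rcases ha with rfl | rfl | rfl
    · simp
    · exact Subtype.ext (by simpa [hx2] using pow_orderOf_eq_one x)
    · exact Subtype.ext (by simpa [hy2] using pow_orderOf_eq_one y)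
  have h2 := (Finset.card_le_card h1).trans (IsCyclic.card_pow_eq_one_le two_pos)
  have hx1 : x ≠ 1 := fun h => by simp [h] at hx2
  have hy1 : y ≠ 1 := fun h => by simp [h] at hy2
  rw [Finset.card_insert_of_notMem, Finset.card_insert_of_notMem, Finset.card_singleton] at h2
  · omega
  · simp [hne]
  · simp only [Finset.mem_insert, Finset.mem_singleton, not_or]
    exact ⟨fun h => hx1 (congrArg Subtype.val h).symm, fun h => hy1 (congrArg Subtype.val h).symm⟩

/-- `F = O₂(G)` is cyclic, and `C = C(F)` is proper. -/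
structure Setting (G : Type u) [Group G] [Finite G] : Prop where
  ft : OddOrder.{u}
  odd : Cfsg.oddCore G = ⊥
  ns : ¬ Group.IsSolvable G
  inter : Hypo G
  noncentral : centralizer (Cfsg.pCore 2 G : Set G) ≠ ⊤

section

variable (h : Setting G)

include h

theorem Setting.cyclic : IsCyclic ↥(Cfsg.pCore 2 G) := pCore_isCyclic h.ft h.ns h.inter

omit h in
theorem pCore_le_sylow' (S : Sylow 2 G) : Cfsg.pCore 2 G ≤ S :=
  haveI : Fact (Nat.Prime 2) := ⟨Nat.prime_two⟩
  PCore.pCore_le_sylow S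

theorem Setting.isPGroup_mulAut : IsPGroup 2 (MulAut ↥(Cfsg.pCore 2 G)) := by
  haveI : Fact (Nat.Prime 2) := ⟨Nat.prime_two⟩
  haveI := h.cyclic
  obtain ⟨k, hk⟩ := PCore.exists_card_pCore (p := 2) (G := G)
  refine IsPGroup.of_card (n := k - 1) ?_
  rw [IsCyclic.card_mulAut, hk]
  rcases k with _ | k
  · simp
  · rw [Nat.totient_prime_pow_succ Nat.prime_two]
    simp

omit h in
theorem ker_conjNormal_eq :
    (MulAut.conjNormal (H := Cfsg.pCore 2 G)).ker = centralizer (Cfsg.pCore 2 G : Set G) := by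
  ext g
  rw [MonoidHom.mem_ker, mem_centralizer_iff]
  constructor
  · intro hg f hf
    have h1 := congrArg (fun φ : MulAut ↥(Cfsg.pCore 2 G) => (φ ⟨f, hf⟩ : G)) hg
    simp only [MulAut.conjNormal_apply, MulAut.one_apply] at h1
    exact (mul_inv_eq_iff_eq_mul.1 h1).symm
  · intro hg
    ext ⟨f, hf⟩
    simp only [MulAut.conjNormal_apply, MulAut.one_apply]
    rw [← hg f hf, mul_inv_cancel_right]

theorem Setting.mem_C_of_pow {g : G} {m : ℕ} (hm : Odd m)
    (hg : g ^ m ∈ centralizer (Cfsg.pCore 2 G : Set G)) :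
    g ∈ centralizer (Cfsg.pCore 2 G : Set G) := by
  rw [← ker_conjNormal_eq, MonoidHom.mem_ker] at hg ⊢
  rw [map_pow] at hg
  obtain ⟨k, hk⟩ := h.isPGroup_mulAut (MulAut.conjNormal g)
  refine orderOf_eq_one_iff.1 (Nat.eq_one_of_dvd_coprimes ?_
    (orderOf_dvd_of_pow_eq_one hk) (orderOf_dvd_of_pow_eq_one hg))
  exact (Nat.coprime_two_left.2 hm).pow_left _

theorem Setting.mem_C_of_odd {g : G} (hg : Odd (orderOf g)) :
    g ∈ centralizer (Cfsg.pCore 2 G : Set G) :=
  h.mem_C_of_pow hg (by rw [pow_orderOf_eq_one]; exact one_mem _)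

theorem Setting.four_le_card : 4 ≤ Nat.card ↥(Cfsg.pCore 2 G) := by
  haveI : Fact (Nat.Prime 2) := ⟨Nat.prime_two⟩
  haveI := h.cyclic
  obtain ⟨k, hk⟩ := PCore.exists_card_pCore (p := 2) (G := G)
  by_contra hlt
  apply h.noncentral
  rw [← ker_conjNormal_eq, MonoidHom.ker_eq_top_iff]
  have hk2 : k < 2 := by
    by_contra h2
    exact hlt (hk ▸ le_trans (by norm_num) (Nat.pow_le_pow_right two_pos (not_lt.1 h2)))
  have hcard : Nat.card (MulAut ↥(Cfsg.pCore 2 G)) = 1 := by
    rw [IsCyclic.card_mulAut, hk]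
    interval_cases k <;> rfl
  haveI : Subsingleton (MulAut ↥(Cfsg.pCore 2 G)) := (Nat.card_eq_one_iff_unique.1 hcard).1
  exact MonoidHom.ext fun g => Subsingleton.elim _ _

theorem Setting.exists_involution : ∃ z ∈ Cfsg.pCore 2 G, orderOf z = 2 := by
  haveI : Fact (Nat.Prime 2) := ⟨Nat.prime_two⟩
  obtain ⟨k, hk⟩ := PCore.exists_card_pCore (p := 2) (G := G)
  have hk0 : k ≠ 0 := fun h0 => by
    have := h.four_le_card
    rw [hk, h0] at this
    norm_num at this
  obtain ⟨⟨z, hz⟩, ho⟩ := exists_prime_orderOf_dvd_card' 2 (hk ▸ dvd_pow_self 2 hk0 :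
    2 ∣ Nat.card ↥(Cfsg.pCore 2 G))
  exact ⟨z, hz, by rwa [Subgroup.orderOf_mk] at ho⟩

theorem Setting.not_le_zpowers {w : G} (hw : w ^ 2 = 1) : ¬ Cfsg.pCore 2 G ≤ zpowers w := fun hle => by
  have h1 := (card_le_of_le hle).trans (le_of_eq (Nat.card_zpowers w))
  have h2 := Nat.le_of_dvd two_pos (orderOf_dvd_of_pow_eq_one hw)
  have := h.four_le_card
  omega

/-- An involution outside `F` lies in one Sylow subgroup only. -/
theorem Setting.sylow_eq_of_involution {x : G} (hx : x ∉ Cfsg.pCore 2 G) (hx2 : orderOf x = 2)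
    {S T : Sylow 2 G} (hS : x ∈ (S : Subgroup G)) (hT : x ∈ (T : Subgroup G)) : S = T := by
  by_contra hne
  obtain ⟨z, hz, hz2⟩ := h.exists_involution
  exact hx (involution_eq (h.inter S T hne) ⟨hS, hT⟩
    ⟨pCore_le_sylow' S hz, pCore_le_sylow' T hz⟩ hx2 hz2 ▸ hz)

/-- An element not centralising `F` lies in one Sylow subgroup only. -/
theorem Setting.sylow_eq_of_not_mem {x : G} (hx : x ∉ centralizer (Cfsg.pCore 2 G : Set G))
    {S T : Sylow 2 G} (hS : x ∈ (S : Subgroup G)) (hT : x ∈ (T : Subgroup G)) : S = T := by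
  by_contra hne
  haveI := h.inter S T hne
  apply hx
  rw [mem_centralizer_iff]
  intro f hf
  let := IsCyclic.commGroup (α := ↥((S : Subgroup G) ⊓ (T : Subgroup G)))
  have := mul_comm (⟨f, pCore_le_sylow' S hf, pCore_le_sylow' T hf⟩ :
    ↥((S : Subgroup G) ⊓ (T : Subgroup G))) ⟨x, hS, hT⟩
  exact congrArg Subtype.val this

/-- A 2-element normalising `x F`, `x` in a unique Sylow subgroup `S`, lies in `S`. -/
theorem Setting.mem_of_conj {S : Sylow 2 G} {x a : G} (hxS : x ∈ (S : Subgroup G))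
    (huniq : ∀ T : Sylow 2 G, x ∈ (T : Subgroup G) → T = S) {j : ℕ} (ha : a ^ 2 ^ j = 1)
    (hax : x⁻¹ * (a * x * a⁻¹) ∈ Cfsg.pCore 2 G) : a ∈ (S : Subgroup G) := by
  haveI : Fact (Nat.Prime 2) := ⟨Nat.prime_two⟩
  have h1 : a * x * a⁻¹ ∈ ((a • S : Sylow 2 G) : Subgroup G) := ⟨x, hxS, rfl⟩
  have h2 : x ∈ ((a • S : Sylow 2 G) : Subgroup G) := by
    have := mul_mem h1 (inv_mem (pCore_le_sylow' (a • S) hax))
    simpa [mul_assoc] using this
  have h3 : a ∈ normalizer (S : Set G) := Sylow.smul_eq_iff_mem_normalizer.1 (huniq _ h2)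
  have hp : IsPGroup 2 (zpowers a) := by
    obtain ⟨i, -, hi⟩ := (Nat.dvd_prime_pow Nat.prime_two).1 (orderOf_dvd_of_pow_eq_one ha)
    exact IsPGroup.of_card (n := i) (by rw [Nat.card_zpowers, hi])
  have h4 := hp.inf_normalizer_sylow S
  exact ((le_of_eq h4) ⟨mem_zpowers a, h3⟩).2

/-- `C(F)` has, in each Sylow subgroup, an involution outside `F`. -/
theorem Setting.exists_involution_C (S : Sylow 2 G) :
    ∃ i ∈ (S : Subgroup G) ⊓ centralizer (Cfsg.pCore 2 G : Set G),
      i ∉ Cfsg.pCore 2 G ∧ orderOf i = 2 := by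
  haveI : Fact (Nat.Prime 2) := ⟨Nat.prime_two⟩
  by_contra hno
  push Not at hno
  set F := Cfsg.pCore 2 G with hF
  set C := centralizer (F : Set G) with hC
  haveI hCn : C.Normal := by rw [hC, ← ker_conjNormal_eq]; infer_instance
  haveI := h.cyclic
  have hFC : F ≤ C := by
    intro f hf
    rw [hC, mem_centralizer_iff]
    intro g hg
    let := IsCyclic.commGroup (α := ↥F)
    exact congrArg Subtype.val (mul_comm (⟨g, hg⟩ : ↥F) ⟨f, hf⟩)
  -- a Sylow subgroup of `C`
  obtain ⟨P, hP⟩ : ∃ P : Sylow 2 C, (P : Subgroup C) = (S : Subgroup G).subgroupOf C := by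
    refine ⟨(S.2.comap_of_injective C.subtype C.subtype_injective).toSylow ?_, rfl⟩
    intro hd
    have h1 : (S : Subgroup G).relIndex C = (S : Subgroup G).relIndex ((S : Subgroup G) ⊔ C) := by
      have e1 := relIndex_mul_relIndex ((S : Subgroup G) ⊓ C) C ((S : Subgroup G) ⊔ C) inf_le_right
        le_sup_right
      have e2 := relIndex_mul_relIndex ((S : Subgroup G) ⊓ C) (S : Subgroup G)
        ((S : Subgroup G) ⊔ C) inf_le_left le_sup_left
      rw [inf_relIndex_right, relIndex_sup_right] at e1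
      rw [inf_relIndex_left, ← e1, mul_comm] at e2
      exact (Nat.eq_of_mul_eq_mul_right (Nat.pos_of_ne_zero index_ne_zero_of_finite) e2).symm
    have h2 : (S : Subgroup G).relIndex C ∣ (S : Subgroup G).index :=
      h1 ▸ relIndex_dvd_index_of_le le_sup_left
    exact S.not_dvd_index (hd.trans h2)
  have hmem : ∀ x : P, ((x : C) : G) ∈ (S : Subgroup G) ⊓ C := fun x =>
    ⟨(le_of_eq hP) x.2, (x : C).2⟩
  have hone : ∀ x : P, orderOf x = 2 → ((x : C) : G) ∈ F := by
    intro x hx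
    by_contra hxF
    exact hno _ (hmem x) hxF (by simpa using hx)
  have hsub : ∀ H K : Subgroup P, Nat.card H = 2 → Nat.card K = 2 → H = K := by
    intro H K hH hK
    obtain ⟨⟨x, hx⟩, hxo⟩ := exists_prime_orderOf_dvd_card' 2 (dvd_of_eq hH.symm)
    obtain ⟨⟨y, hy⟩, hyo⟩ := exists_prime_orderOf_dvd_card' 2 (dvd_of_eq hK.symm)
    rw [Subgroup.orderOf_mk] at hxo hyo
    have hxy : x = y := Subtype.ext (Subtype.ext (involution_eq h.cyclic (hone x hxo) (hone y hyo)
      (by simpa using hxo) (by simpa using hyo)))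
    have h1 : ∀ (L : Subgroup P) (w : P), Nat.card L = 2 → w ∈ L → orderOf w = 2 →
        L = zpowers w := fun L w hL hw ho =>
      (eq_of_le_of_card_ge (zpowers_le.2 hw) (le_of_eq (by rw [Nat.card_zpowers, ho]; exact hL))).symm
    rw [h1 H x hH hx hxo, h1 K y hK hy hyo, hxy]
  have hcyc : IsCyclic P := by
    rcases PGroup.cyclic_or_quaternion_of_unique P.2 hsub with hc | ⟨-, n, hn, -, ⟨e⟩⟩
    · exact hc
    exfalso
    -- `F` is central of order at least four in `P`
    let ι : ↥F →* ↥(P : Subgroup C) :=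
      { toFun := fun f => ⟨⟨f, hFC f.2⟩, by rw [hP]; exact pCore_le_sylow' S f.2⟩
        map_one' := rfl
        map_mul' := fun _ _ => rfl }
    obtain ⟨f0, hf0⟩ := IsCyclic.exists_generator (α := ↥F)
    have hcent : ∀ x : P, ι f0 * x = x * ι f0 := fun x =>
      Subtype.ext (Subtype.ext (mem_centralizer_iff.1 (x : C).2 _ f0.2))
    have hinj : Function.Injective ι := fun a b hab =>
      Subtype.ext (congrArg (fun w : P => ((w : C) : G)) hab)
    have hord : 4 ≤ orderOf (e (ι f0)) := by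
      rw [MulEquiv.orderOf_eq, orderOf_injective ι hinj, orderOf_eq_card_of_forall_mem_zpowers hf0]
      exact h.four_le_card
    have hn2 : 2 ≤ 2 ^ n := le_trans (by norm_num) (Nat.pow_le_pow_right two_pos hn)
    have key : ∀ q : QuaternionGroup (2 ^ n), (∀ w, q * w = w * q) → q ^ 2 = 1 := by
      intro q hq
      rcases q with i | i
      · have h1 := hq (QuaternionGroup.xa 0)
        simp at h1
        rw [pow_two, QuaternionGroup.a_mul_a]
        have h2 : i + i = 0 := by linear_combination -h1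
        rw [h2]
        rfl
      · exfalso
        have h1 := hq (QuaternionGroup.a 1)
        simp at h1
        have h2 : ((2 : ℕ) : ZMod (2 * 2 ^ n)) = 0 := by push_cast; linear_combination h1
        rw [ZMod.natCast_eq_zero_iff] at h2
        have := Nat.le_of_dvd two_pos h2
        omega
    have h2 : e (ι f0) ^ 2 = 1 := key _ fun w => by
      have := congrArg e (hcent (e.symm w))
      simpa using this
    have := Nat.le_of_dvd two_pos (orderOf_dvd_of_pow_eq_one h2)
    omega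
  -- `C` has a normal 2-complement
  have h2C : 2 ∣ Nat.card C := by
    obtain ⟨z, hz, hz2⟩ := h.exists_involution
    have := orderOf_dvd_natCard (⟨z, hFC hz⟩ : C)
    rwa [Subgroup.orderOf_mk, hz2] at this
  haveI := hcyc
  haveI : Group.IsSolvable C := by
    have hmin : (Nat.card C).minFac = 2 := (Nat.minFac_eq_two_iff _).2 h2C
    have hc := MonoidHom.ker_transferSylow_isComplement' P
      (IsCyclic.normalizer_le_centralizer hmin hcyc)
    set K := (MonoidHom.transferSylow P (IsCyclic.normalizer_le_centralizer hmin hcyc)).ker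
    haveI : Group.IsSolvable K := h.ft K (by
      rw [← hc.index_eq_card, ← Nat.not_even_iff_odd, even_iff_two_dvd]
      exact P.not_dvd_index)
    letI := IsCyclic.commGroup (α := ↥(P : Subgroup C))
    exact Group.isSolvable_of_ker_le_range K.subtype
      (MonoidHom.transferSylow P (IsCyclic.normalizer_le_centralizer hmin hcyc)) (by simp [K])
  haveI : Group.IsSolvable (G ⧸ C) := by
    have hp : IsPGroup 2 (G ⧸ C) := by
      intro q
      obtain ⟨g, rfl⟩ := QuotientGroup.mk'_surjective C q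
      obtain ⟨k, hk⟩ := h.isPGroup_mulAut (MulAut.conjNormal g)
      refine ⟨k, ?_⟩
      rw [← map_pow]
      refine (QuotientGroup.eq_one_iff _).2 ?_
      rw [hC, hF, ← ker_conjNormal_eq, MonoidHom.mem_ker, map_pow, hk]
    haveI := hp.isNilpotent
    infer_instance
  exact h.ns (Group.isSolvable_of_ker_le_range C.subtype (QuotientGroup.mk' C) (by simp))

end

/-- In a dihedral group of order twice an odd number the two generators are conjugate; otherwise a
central involution appears. Stated for a quotient. -/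
theorem conj_or_central {X : Type*} [Group X] [Finite X] {a b : X} (ha : a * a = 1) (hb : b * b = 1)
    (hne : a * b ≠ 1) :
    (Odd (orderOf (a * b)) ∧ ∃ k : ℕ, ((a * b) ^ k)⁻¹ * a * (a * b) ^ k = b) ∨
      ∃ k : ℕ, (a * b) ^ k ≠ 1 ∧ (a * b) ^ k * (a * b) ^ k = 1 ∧
        Commute a ((a * b) ^ k) ∧ Commute b ((a * b) ^ k) := by
  set c := a * b with hc
  have hai : a⁻¹ = a := inv_eq_of_mul_eq_one_right ha
  have hbi : b⁻¹ = b := inv_eq_of_mul_eq_one_right hb
  have hac : ∀ n : ℕ, a * c ^ n * a⁻¹ = (c ^ n)⁻¹ := fun n => by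
    rw [← conj_pow, ← inv_pow, hc, mul_inv_rev a b, hbi, hai, ← mul_assoc a a b, ha, one_mul]
  have hbc : ∀ n : ℕ, b * c ^ n * b⁻¹ = (c ^ n)⁻¹ := fun n => by
    rw [← conj_pow, ← inv_pow, hc, mul_inv_rev a b, hbi, hai, mul_assoc b (a * b) b,
      mul_assoc a b b, hb, mul_one]
  rcases Nat.even_or_odd (orderOf c) with ⟨k, hk⟩ | ho
  · refine Or.inr ⟨k, ?_, ?_, ?_, ?_⟩
    · intro h1
      have h2 := orderOf_dvd_of_pow_eq_one h1
      have h3 := orderOf_pos c
      have := Nat.le_of_dvd (by omega) h2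
      omega
    all_goals have hkk : c ^ k * c ^ k = 1 := by rw [← pow_add, ← hk, pow_orderOf_eq_one]
    · exact hkk
    · have := hac k
      rw [inv_eq_of_mul_eq_one_right hkk, mul_inv_eq_iff_eq_mul] at this
      exact this
    · have := hbc k
      rw [inv_eq_of_mul_eq_one_right hkk, mul_inv_eq_iff_eq_mul] at this
      exact this
  · obtain ⟨n, hn⟩ := ho
    refine Or.inl ⟨⟨n, hn⟩, n + 1, ?_⟩
    have h1 : (c ^ (n + 1))⁻¹ * a = a * c ^ (n + 1) := by
      have := hac (n + 1)
      rw [mul_inv_eq_iff_eq_mul] at this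
      exact this.symm
    rw [h1, mul_assoc, ← pow_add, show n + 1 + (n + 1) = orderOf c + 1 by omega, pow_succ,
      pow_orderOf_eq_one, one_mul, hc, ← mul_assoc, ha, one_mul]

section

variable (h : Setting G)

include h

omit h in
theorem two_pow_of_sq_mem {b : G} (hb : b * b ∈ Cfsg.pCore 2 G) : ∃ j : ℕ, b ^ 2 ^ j = 1 := by
  haveI : Fact (Nat.Prime 2) := ⟨Nat.prime_two⟩
  obtain ⟨k, hk⟩ := PCore.isPGroup_pCore ⟨b * b, hb⟩
  exact ⟨k + 1, by rw [pow_succ', pow_mul, pow_two]; exact congrArg Subtype.val hk⟩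

/-- Basic dichotomy for two elements of order two modulo `F`, one an involution of `C`,
lying in different Sylow subgroups. -/
theorem Setting.linked {a b : G} (haC : a ∈ centralizer (Cfsg.pCore 2 G : Set G))
    (haF : a ∉ Cfsg.pCore 2 G) (ha : orderOf a = 2)
    (hb : b * b ∈ Cfsg.pCore 2 G) {S T : Sylow 2 G} (haS : a ∈ (S : Subgroup G))
    (hbT : b ∈ (T : Subgroup G)) (hbuniq : ∀ U : Sylow 2 G, b ∈ (U : Subgroup G) → U = T)
    (hST : S ≠ T) :
    b ∈ centralizer (Cfsg.pCore 2 G : Set G) ∧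
      (b * b = 1 → ∃ g : G, (g * a * g⁻¹)⁻¹ * b ∈ Cfsg.pCore 2 G) := by
  haveI : Fact (Nat.Prime 2) := ⟨Nat.prime_two⟩
  set F := Cfsg.pCore 2 G with hF
  set π := QuotientGroup.mk' F with hπ
  have hπ1 : ∀ x : G, π x = 1 ↔ x ∈ F := fun x => QuotientGroup.eq_one_iff x
  have hπeq : ∀ x y : G, π x = π y → x⁻¹ * y ∈ F := fun x y hxy => by
    rw [← hπ1, map_mul, map_inv, hxy, inv_mul_cancel]
  have haa : a * a = 1 := by rw [← pow_two, ← ha]; exact pow_orderOf_eq_one a
  have ha2 : π a * π a = 1 := by rw [← map_mul, haa, map_one]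
  have hb2 : π b * π b = 1 := by rw [← map_mul]; exact (hπ1 _).2 hb
  have hne : π a * π b ≠ 1 := by
    rw [← map_mul, ne_eq, hπ1]
    intro hab
    refine hST ((hbuniq S ?_))
    have := mul_mem (inv_mem haS) (pCore_le_sylow' S hab)
    rwa [inv_mul_cancel_left] at this
  set c := a * b with hc
  rw [← map_mul] at hne
  have hbc : b = a * c := by rw [hc, ← mul_assoc, haa, one_mul]
  rcases conj_or_central ha2 hb2 (by rw [← map_mul]; exact hne) with ⟨ho, k, hk⟩ | ⟨k, hk1, hk2, hka, hkb⟩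
  · refine ⟨?_, fun _ => ⟨(c ^ k)⁻¹, ?_⟩⟩
    · have hm : c ^ orderOf (π c) ∈ F := by
        rw [← hπ1, map_pow, pow_orderOf_eq_one]
      have hcC : c ∈ centralizer (F : Set G) := by
        refine h.mem_C_of_pow (m := orderOf (π c)) (by rwa [hc, map_mul]) ?_
        rw [mem_centralizer_iff]
        intro f hf
        haveI := h.cyclic
        let := IsCyclic.commGroup (α := ↥F)
        exact congrArg Subtype.val (mul_comm (⟨f, hf⟩ : ↥F) ⟨_, hm⟩)
      rw [hbc]
      exact mul_mem haC hcC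
    · apply hπeq
      rw [map_mul, map_mul, map_inv, map_inv, map_inv, inv_inv, map_pow, hc, map_mul]
      exact hk
  · set y := c ^ k with hy
    rw [← map_mul, ← map_pow, ← hy] at hk1 hk2 hka hkb
    have hyy : y * y ∈ F := by rwa [← map_mul, hπ1] at hk2
    have hyF : y ∉ F := fun hyF => hk1 ((hπ1 y).2 hyF)
    have hconj : ∀ x : G, Commute (π x) (π y) → y⁻¹ * (x * y * x⁻¹) ∈ F := fun x hx => by
      refine hπeq _ _ ?_
      rw [map_mul, map_mul, map_inv, hx.eq, mul_inv_cancel_right]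
    obtain ⟨jb, hjb⟩ := two_pow_of_sq_mem hb
    obtain ⟨jy, hjy⟩ := two_pow_of_sq_mem hyy
    obtain ⟨U, hU⟩ := (IsPGroup.of_card (p := 2) (n := Nat.log 2 (orderOf y)) (by
      obtain ⟨i, -, hi⟩ := (Nat.dvd_prime_pow Nat.prime_two).1 (orderOf_dvd_of_pow_eq_one hjy)
      rw [Nat.card_zpowers, hi, Nat.log_pow one_lt_two]) : IsPGroup 2 (zpowers y)).exists_le_sylow
    have hyU : y ∈ (U : Subgroup G) := hU (mem_zpowers y)
    -- `y` does not lie in a unique Sylow subgroup
    have hnu : ¬ ∀ V : Sylow 2 G, y ∈ (V : Subgroup G) → V = U := by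
      intro hu
      have haU := h.mem_of_conj hyU hu (j := 1) (by rw [pow_one, pow_two, haa]) (hconj a hka)
      have hbU := h.mem_of_conj hyU hu hjb (hconj b hkb)
      exact hST ((h.sylow_eq_of_involution haF ha haS haU).trans (hbuniq U hbU))
    have hyC : y ∈ centralizer (F : Set G) := by
      by_contra hyC
      exact hnu fun V hV => h.sylow_eq_of_not_mem hyC hV hyU
    -- no involution in `y F`
    have hnoinv : ∀ f ∈ F, (y * f) ^ 2 ≠ 1 := by
      intro f hf h2
      refine hnu fun V hV => h.sylow_eq_of_involution (x := y * f) ?_ ?_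
        (mul_mem hV (pCore_le_sylow' V hf)) (mul_mem hyU (pCore_le_sylow' U hf))
      · intro hh
        exact hyF (by simpa using mul_mem hh (inv_mem hf))
      · refine orderOf_eq_prime h2 fun h1 => hyF ?_
        rw [mul_eq_one_iff_eq_inv.1 h1]
        exact inv_mem hf
    have hgen : F ≤ zpowers (y ^ 2) := by
      haveI := h.cyclic
      obtain ⟨f0, hf0⟩ := IsCyclic.exists_generator (α := ↥F)
      obtain ⟨t, ht⟩ := mem_zpowers_iff.1 (hf0 ⟨y * y, hyy⟩)
      have ht' : (f0 : G) ^ t = y * y := by simpa using congrArg Subtype.val ht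
      have hcomm : Commute y (f0 : G) := (mem_centralizer_iff.1 hyC _ f0.2).symm
      rcases Int.even_or_odd t with ⟨r, hr⟩ | htodd
      · refine absurd ?_ (hnoinv ((f0 : G) ^ (-r)) (zpow_mem f0.2 _))
        rw [(hcomm.zpow_right _).mul_pow, pow_two, ← ht', ← zpow_natCast, ← zpow_mul, ← zpow_add]
        rw [show t + -r * ((2 : ℕ) : ℤ) = 0 by push_cast; omega, zpow_zero]
      · intro f hf
        obtain ⟨i, hi⟩ := mem_zpowers_iff.1 (hf0 ⟨f, hf⟩)
        obtain ⟨e, he⟩ := PCore.exists_card_pCore (p := 2) (G := G)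
        have hord : orderOf (f0 : G) = 2 ^ e := by
          rw [Subgroup.orderOf_coe, orderOf_eq_card_of_forall_mem_zpowers hf0, he]
        -- `f0` is a power of `f0 ^ t`
        have hcop : IsCoprime t ((2 ^ e : ℕ) : ℤ) := by
          push_cast
          refine IsCoprime.pow_right ?_
          obtain ⟨r, rfl⟩ := htodd
          exact ⟨1, -r, by ring⟩
        obtain ⟨u, v, huv⟩ := hcop
        have hf0' : (f0 : G) = (y * y) ^ u := by
          conv_lhs => rw [← zpow_one (f0 : G), ← huv]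
          rw [zpow_add, mul_comm u t, zpow_mul, ht', mul_comm v, zpow_mul, ← hord, zpow_natCast,
            pow_orderOf_eq_one, one_zpow, mul_one]
        have hfi : f = (f0 : G) ^ i := by simpa using (congrArg Subtype.val hi).symm
        rw [hfi, hf0', pow_two]
        exact zpow_mem (zpow_mem (mem_zpowers _) u) i
    have hcy : Commute c y := Commute.self_pow c k
    have hcC : c ∈ centralizer (F : Set G) := by
      rw [mem_centralizer_iff]
      intro f hf
      obtain ⟨i, rfl⟩ := mem_zpowers_iff.1 (hgen hf)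
      exact ((hcy.pow_right 2).zpow_right i).eq.symm
    refine ⟨hbc ▸ mul_mem haC hcC, fun hbb => ?_⟩
    exfalso
    have hai : a⁻¹ = a := inv_eq_of_mul_eq_one_right haa
    have hbi : b⁻¹ = b := inv_eq_of_mul_eq_one_right hbb
    have h1 : a * y ^ 2 * a⁻¹ = (y ^ 2)⁻¹ := by
      rw [hy, ← pow_mul, ← conj_pow, ← inv_pow, hc, mul_inv_rev a b, hbi, hai, ← mul_assoc a a b,
        haa, one_mul]
    have h2 : a * y ^ 2 * a⁻¹ = y ^ 2 := by
      rw [← mem_centralizer_iff.1 haC (y ^ 2) (by rw [pow_two]; exact hyy), mul_inv_cancel_right]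
    refine h.not_le_zpowers (w := y ^ 2) ?_ hgen
    rw [pow_two (y ^ 2)]
    nth_rewrite 2 [← h2]
    rw [h1, mul_inv_cancel]

/-- An element of `S` outside `C(F)` commuting with a complement of `S` in its normaliser. -/
theorem Setting.exists_fixed (S : Sylow 2 G) :
    ∃ (H : Subgroup G) (s : G), Odd (Nat.card H) ∧ s ∈ (S : Subgroup G) ∧
      s ∉ centralizer (Cfsg.pCore 2 G : Set G) ∧ (∀ a ∈ H, Commute a s) ∧
      ∀ g ∈ normalizer (S : Set G), ∃ σ ∈ (S : Subgroup G), ∃ a ∈ H, g = σ * a := by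
  haveI : Fact (Nat.Prime 2) := ⟨Nat.prime_two⟩
  set C := centralizer (Cfsg.pCore 2 G : Set G) with hC
  set M := normalizer (S : Set G) with hM
  have hSM : (S : Subgroup G) ≤ M := le_normalizer
  haveI hCn : C.Normal := by rw [hC, ← ker_conjNormal_eq]; infer_instance
  haveI : ((S : Subgroup G).subgroupOf M).Normal := normal_in_normalizer
  have hcop : Nat.Coprime (Nat.card ((S : Subgroup G).subgroupOf M))
      ((S : Subgroup G).subgroupOf M).index := by
    rw [Nat.card_congr (subgroupOfEquivOfLe hSM).toEquiv]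
    obtain ⟨k, hk⟩ := S.2.exists_card_eq
    rw [hk]
    refine Nat.Coprime.pow_left _ ((Nat.prime_two.coprime_iff_not_dvd).2 fun hd => ?_)
    exact S.not_dvd_index (hd.trans (relIndex_dvd_index_of_le hSM))
  obtain ⟨K, hK⟩ := exists_right_complement'_of_coprime hcop
  set H := K.map M.subtype with hH
  have hHM : H ≤ M := map_subtype_le K
  have hHodd : Odd (Nat.card H) := by
    rw [hH, card_map_of_injective M.subtype_injective, ← hK.symm.index_eq_card,
      ← Nat.not_even_iff_odd, even_iff_two_dvd]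
    exact fun hd => S.not_dvd_index (hd.trans (relIndex_dvd_index_of_le hSM))
  have hHC : H ≤ C := fun a ha => h.mem_C_of_odd
    (hHodd.of_dvd_nat ((Subgroup.orderOf_mk a ha) ▸ orderOf_dvd_natCard (⟨a, ha⟩ : H)))
  obtain ⟨s0, hs0S, hs0C⟩ : ∃ s0 ∈ (S : Subgroup G), s0 ∉ C := by
    by_contra hall
    push Not at hall
    apply h.noncentral
    rw [eq_top_iff]
    intro g _
    have hg : g ^ C.index ∈ C := pow_index_mem C g
    have hodd : Odd C.index := by
      rw [← Nat.not_even_iff_odd, even_iff_two_dvd]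
      exact fun hd => S.not_dvd_index (hd.trans (index_dvd_of_le hall))
    exact h.mem_C_of_pow hodd hg
  set N := (S : Subgroup G) ⊓ C with hN
  have hHN : H ≤ normalizer (N : Set G) := by
    intro a ha
    have h1 : a ∈ normalizer (S : Set G) := hHM ha
    rw [mem_set_normalizer_iff] at h1 ⊢
    intro x
    simp only [hN, SetLike.mem_coe, mem_inf] at h1 ⊢
    refine and_congr (h1 x) ⟨fun hx => hCn.conj_mem x hx a, fun hx => ?_⟩
    simpa [mul_assoc] using hCn.conj_mem _ hx a⁻¹
  obtain ⟨n, hn, hns⟩ := Coprime.exists_mul_mem_centralizer (A := H) (N := N) (k := s0) hHN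
    (by
      obtain ⟨k, hk⟩ := (S.2.to_le (inf_le_left : N ≤ S)).exists_card_eq
      rw [hk]
      exact (Nat.coprime_two_right.2 hHodd).pow_right _)
    (Or.inl (h.ft H hHodd)) (fun a ha => by
      refine mem_inf.2 ⟨?_, ?_⟩
      · have h1 : a * s0 * a⁻¹ ∈ (S : Subgroup G) := (mem_set_normalizer_iff.1 (hHM ha) s0).1 hs0S
        rw [show s0⁻¹ * a * s0 * a⁻¹ = s0⁻¹ * (a * s0 * a⁻¹) by group]
        exact mul_mem (inv_mem hs0S) h1
      · refine mul_mem ?_ (inv_mem (hHC ha))
        simpa using hCn.conj_mem a (hHC ha) s0⁻¹)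
  refine ⟨H, s0 * n, hHodd, mul_mem hs0S hn.1, fun hh => hs0C ?_, fun a ha =>
    mem_centralizer_iff.1 hns a ha, ?_⟩
  · simpa using mul_mem hh (inv_mem hn.2)
  · intro g hg
    obtain ⟨⟨⟨σ, hσ⟩, ⟨a, ha⟩⟩, hga, -⟩ := isComplement_iff_existsUnique.1 hK ⟨g, hg⟩
    exact ⟨σ, hσ, a, mem_map_of_mem M.subtype ha, (congrArg Subtype.val hga).symm⟩

/-- The odd core of `G ⧸ F` is trivial. -/
theorem Setting.oddCore_quotient : Cfsg.oddCore (G ⧸ Cfsg.pCore 2 G) = ⊥ := by
  haveI : Fact (Nat.Prime 2) := ⟨Nat.prime_two⟩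
  set F := Cfsg.pCore 2 G with hF
  set π := QuotientGroup.mk' F with hπ
  set M := (Cfsg.oddCore (G ⧸ F)).comap π with hM
  haveI : M.Normal := inferInstance
  have hFM : F ≤ M := QuotientGroup.le_comap_mk' F _
  have hMC : M ≤ centralizer (F : Set G) := by
    intro m hm
    refine h.mem_C_of_pow (m := Nat.card (Cfsg.oddCore (G ⧸ F))) PCore.odd_card_oddCore ?_
    have h1 : m ^ Nat.card (Cfsg.oddCore (G ⧸ F)) ∈ F := by
      rw [← QuotientGroup.eq_one_iff]
      exact congrArg Subtype.val (pow_card_eq_one' (x := (⟨π m, hm⟩ : Cfsg.oddCore (G ⧸ F))))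
    rw [mem_centralizer_iff]
    intro f hf
    haveI := h.cyclic
    let := IsCyclic.commGroup (α := ↥F)
    exact congrArg Subtype.val (mul_comm (⟨f, hf⟩ : ↥F) ⟨_, h1⟩)
  have hidx : (F.subgroupOf M).index = Nat.card (Cfsg.oddCore (G ⧸ F)) := by
    refine Nat.eq_of_mul_eq_mul_left (Nat.card_pos (α := F.subgroupOf M)) ?_
    rw [card_mul_index, Coprime.card_subgroupOf hFM, hM, Solvable.card_comap_quotient]
  have hcop : Nat.Coprime (Nat.card (F.subgroupOf M)) (F.subgroupOf M).index := by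
    obtain ⟨k, hk⟩ := PCore.exists_card_pCore (p := 2) (G := G)
    rw [hidx, Coprime.card_subgroupOf hFM, show Nat.card F = 2 ^ k from hk]
    exact (Nat.coprime_two_left.2 PCore.odd_card_oddCore).pow_left _
  obtain ⟨W, hW⟩ := exists_right_complement'_of_coprime hcop
  have hWn : W.Normal := by
    refine ⟨fun w hw y => ?_⟩
    obtain ⟨f, hf, v, hv, rfl⟩ := mem_sup_of_normal_left.1
      (hW.sup_eq_top ▸ mem_top y : y ∈ F.subgroupOf M ⊔ W)
    have e : f * v * w * (f * v)⁻¹ = v * w * v⁻¹ := by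
      have hcm : Commute (v * w * v⁻¹) f := Subtype.ext
        ((mem_centralizer_iff.1 (hMC (v * w * v⁻¹).2) f hf).symm)
      rw [mul_inv_rev, show f * v * w * (v⁻¹ * f⁻¹) = f * (v * w * v⁻¹) * f⁻¹ by group,
        ← hcm.eq, mul_inv_cancel_right]
    rw [e]
    exact mul_mem (mul_mem hv hw) (inv_mem hv)
  haveI := hWn
  have hWodd : (Nat.card W).Coprime 2 := by
    rw [← hW.symm.index_eq_card, hidx]
    exact Nat.coprime_two_right.2 PCore.odd_card_oddCore
  have h1 : W.map M.subtype ≤ Cfsg.oddCore G :=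
    (map_mono (PCore.le_pPrimeCore hWodd)).trans
      (by rw [PCore.map_pPrimeCore_subtype_of_normal]; exact inf_le_left)
  rw [h.odd, le_bot_iff, Subgroup.map_eq_bot_iff_of_injective _ M.subtype_injective] at h1
  have h2 : F.subgroupOf M = ⊤ := by rw [← hW.sup_eq_top, h1, sup_bot_eq]
  have h3 : M ≤ F := subgroupOf_eq_top.1 h2
  rw [eq_bot_iff]
  intro q hq
  obtain ⟨m, rfl⟩ := QuotientGroup.mk'_surjective F q
  exact (QuotientGroup.eq_one_iff m).2 (h3 hq)

theorem Setting.false : False := by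
  haveI : Fact (Nat.Prime 2) := ⟨Nat.prime_two⟩
  set F := Cfsg.pCore 2 G with hF
  set C := centralizer (F : Set G) with hC
  set π := QuotientGroup.mk' F with hπ
  have hπ1 : ∀ x : G, π x = 1 ↔ x ∈ F := fun x => QuotientGroup.eq_one_iff x
  haveI hCn : C.Normal := by rw [hC, hF, ← ker_conjNormal_eq]; infer_instance
  let S : Sylow 2 G := default
  obtain ⟨g₁, hg₁⟩ := exists_two_sylow h.ft h.ns S
  obtain ⟨H, s, hHodd, hsS, hsC, hHs, hdec⟩ := h.exists_fixed S
  have hHC : H ≤ C := fun a ha => h.mem_C_of_odd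
    (hHodd.of_dvd_nat ((Subgroup.orderOf_mk a ha) ▸ orderOf_dvd_natCard (⟨a, ha⟩ : H)))
  have hFC : F ≤ C := by
    intro f hf
    rw [hC, mem_centralizer_iff]
    intro g hg
    haveI := h.cyclic
    let := IsCyclic.commGroup (α := ↥F)
    exact congrArg Subtype.val (mul_comm (⟨g, hg⟩ : ↥F) ⟨f, hf⟩)
  obtain ⟨i, hiSC, hiF, hi2⟩ := h.exists_involution_C S
  -- `v`, the last power of `s` outside `F`
  obtain ⟨v, hvS, hvF, hvv, hvs, hvH⟩ : ∃ v, v ∈ (S : Subgroup G) ∧ v ∉ F ∧ v * v ∈ F ∧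
      Commute v s ∧ ∀ a ∈ H, Commute a v := by
    classical
    have hex : ∃ j : ℕ, s ^ 2 ^ j ∈ F := by
      obtain ⟨k, hk⟩ := S.2 ⟨s, hsS⟩
      exact ⟨k, by
        have : s ^ 2 ^ k = 1 := congrArg Subtype.val hk
        rw [this]; exact one_mem _⟩
    have hj0 : Nat.find hex ≠ 0 := fun h0 => hsC (hFC (by simpa [h0] using Nat.find_spec hex))
    obtain ⟨j, hj⟩ := Nat.exists_eq_succ_of_ne_zero hj0
    refine ⟨s ^ 2 ^ j, pow_mem hsS _, Nat.find_min hex (by omega), ?_, Commute.pow_self s _,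
      fun a ha => (hHs a ha).pow_right _⟩
    rw [← pow_add, ← two_mul, ← pow_succ', ← Nat.succ_eq_add_one, ← hj]
    exact Nat.find_spec hex
  have hvC : v ∈ C := by
    by_contra hvC
    have hu : ∀ U : Sylow 2 G, v ∈ (U : Subgroup G) → U = S := fun U hU =>
      h.sylow_eq_of_not_mem hvC hU hvS
    refine hvC (h.linked (a := g₁ * i * g₁⁻¹) (S := g₁ • S) (T := S) (hCn.conj_mem i hiSC.2 g₁) ?_ ?_
      hvv ⟨i, hiSC.1, rfl⟩ hvS hu hg₁).1
    · intro hh
      have h1 := (PCore.pCore_normal (p := 2) (G := G)).conj_mem _ hh g₁⁻¹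
      exact hiF (by simpa [mul_assoc] using h1)
    · rw [← MulAut.conj_apply, MulEquiv.orderOf_eq, hi2]
  -- an involution `k` in `v F`, fixed by `H`
  obtain ⟨k, hkS, hkC, hkF, hk2, hkH⟩ : ∃ k, k ∈ (S : Subgroup G) ∧ k ∈ C ∧ k ∉ F ∧ orderOf k = 2 ∧
      ∀ a ∈ H, Commute a k := by
    haveI := h.cyclic
    obtain ⟨f0, hf0⟩ := IsCyclic.exists_generator (α := ↥F)
    obtain ⟨t, ht⟩ := mem_zpowers_iff.1 (hf0 ⟨v * v, hvv⟩)
    have ht' : (f0 : G) ^ t = v * v := by simpa using congrArg Subtype.val ht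
    rcases Int.even_or_odd t with ⟨r, hr⟩ | htodd
    · have hfr : (f0 : G) ^ (-r) ∈ F := zpow_mem f0.2 _
      refine ⟨v * (f0 : G) ^ (-r), mul_mem hvS (pCore_le_sylow' S hfr), mul_mem hvC (hFC hfr), ?_,
        orderOf_eq_prime ?_ ?_, fun a ha => (hvH a ha).mul_right ?_⟩
      · intro hh
        exact hvF (by simpa using mul_mem hh (inv_mem hfr))
      · have hcomm : Commute v ((f0 : G) ^ (-r)) := (mem_centralizer_iff.1 hvC _ hfr).symm
        rw [hcomm.mul_pow, pow_two, ← ht', ← zpow_natCast, ← zpow_mul, ← zpow_add]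
        rw [show t + -r * ((2 : ℕ) : ℤ) = 0 by push_cast; omega, zpow_zero]
      · intro h1
        exact hvF (by rw [mul_eq_one_iff_eq_inv.1 h1]; exact inv_mem hfr)
      · exact (mem_centralizer_iff.1 (hHC ha) _ hfr).symm
    · exfalso
      apply hsC
      rw [mem_centralizer_iff]
      intro f hf
      obtain ⟨j, hj⟩ := mem_zpowers_iff.1 (hf0 ⟨f, hf⟩)
      have hcop : IsCoprime t ((orderOf (f0 : G) : ℕ) : ℤ) := by
        obtain ⟨e, he⟩ := PCore.exists_card_pCore (p := 2) (G := G)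
        rw [Subgroup.orderOf_coe, orderOf_eq_card_of_forall_mem_zpowers hf0, he]
        push_cast
        refine IsCoprime.pow_right ?_
        obtain ⟨r, rfl⟩ := htodd
        exact ⟨1, -r, by ring⟩
      obtain ⟨a, b, hab⟩ := hcop
      have hf0' : (f0 : G) = (v * v) ^ a := by
        conv_lhs => rw [← zpow_one (f0 : G), ← hab]
        rw [zpow_add, mul_comm a t, zpow_mul, ht', mul_comm b, zpow_mul, zpow_natCast,
          pow_orderOf_eq_one, one_zpow, mul_one]
      have hfj : f = (f0 : G) ^ j := by simpa using (congrArg Subtype.val hj).symm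
      rw [hfj, hf0']
      exact ((((hvs.symm).mul_right hvs.symm).zpow_right a).zpow_right j).eq.symm
  have huniq : ∀ {x : G}, x ∉ F → orderOf x = 2 → ∀ {U V : Sylow 2 G}, x ∈ (U : Subgroup G) →
      x ∈ (V : Subgroup G) → U = V := fun hx hx2 _ _ hU hV => h.sylow_eq_of_involution hx hx2 hU hV
  have hconjF : ∀ {x : G}, x ∉ F → ∀ g : G, g * x * g⁻¹ ∉ F := fun hx g hh =>
    hx (by simpa [mul_assoc] using (PCore.pCore_normal (p := 2) (G := G)).conj_mem _ hh g⁻¹)
  have hoc : ∀ (x g : G), orderOf (g * x * g⁻¹) = orderOf x := fun x g => by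
    rw [← MulAut.conj_apply, MulEquiv.orderOf_eq]
  -- all such involutions of `S` are `S`-conjugate to `k` modulo `F`
  have horb : ∀ l, l ∈ (S : Subgroup G) → l ∈ C → l ∉ F → orderOf l = 2 →
      ∃ σ ∈ (S : Subgroup G), π l = π (σ * k * σ⁻¹) := by
    intro l hlS hlC hlF hl2
    obtain ⟨g, hg⟩ := (h.linked (a := g₁ * k * g₁⁻¹) (S := g₁ • S) (T := S) (hCn.conj_mem k hkC g₁)
      (hconjF hkF g₁) (by rw [hoc, hk2]) (by
        rw [← pow_two, ← hl2, pow_orderOf_eq_one]; exact one_mem _)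
      ⟨k, hkS, rfl⟩ hlS (fun U hU => huniq hlF hl2 hU hlS) hg₁).2
      (by rw [← pow_two, ← hl2, pow_orderOf_eq_one])
    set g₂ := g * g₁ with hg₂
    have hkl : (g₂ * k * g₂⁻¹)⁻¹ * l ∈ F := by
      rw [hg₂, show g * g₁ * k * (g * g₁)⁻¹ = g * (g₁ * k * g₁⁻¹) * g⁻¹ by group]
      exact hg
    have hk'S : g₂ * k * g₂⁻¹ ∈ (S : Subgroup G) := by
      have := mul_mem hlS (inv_mem (pCore_le_sylow' S hkl))
      rwa [mul_inv_rev, inv_inv, mul_inv_cancel_left] at this
    have hgM : g₂ ∈ normalizer (S : Set G) := Sylow.smul_eq_iff_mem_normalizer.1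
      (huniq (hconjF hkF g₂) (by rw [hoc, hk2]) (U := g₂ • S) (V := S) ⟨k, hkS, rfl⟩ hk'S)
    obtain ⟨σ, hσ, a, ha, hga⟩ := hdec g₂ hgM
    refine ⟨σ, hσ, ?_⟩
    have e : g₂ * k * g₂⁻¹ = σ * k * σ⁻¹ := by
      rw [hga, mul_inv_rev, show σ * a * k * (a⁻¹ * σ⁻¹) = σ * (a * k * a⁻¹) * σ⁻¹ by group,
        (hkH a ha).eq, mul_inv_cancel_right]
    rw [← e]
    symm
    rw [← inv_mul_eq_one, ← map_inv, ← map_mul]
    exact (hπ1 _).2 hkl
  -- modulo `F`, `k` is central in `S`
  set R := (S : Subgroup G).map π with hR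
  have hRp : IsPGroup 2 R := S.2.map π
  haveI := hRp.isNilpotent
  set κ : R := ⟨π k, mem_map_of_mem π hkS⟩ with hκ
  have hcentral : ∀ σ : R, σ * κ * σ⁻¹ = κ := by
    by_contra hne
    push Not at hne
    obtain ⟨σ0, hσ0⟩ := hne
    set Cκ := centralizer ({κ} : Set R) with hCκ
    have hlt : Cκ < ⊤ := lt_top_iff_ne_top.2 fun heq => hσ0 (by
      have h1 : σ0 ∈ Cκ := heq ▸ mem_top _
      rw [mem_centralizer_singleton_iff.1 h1, mul_inv_cancel_right])
    obtain ⟨σ, hσn, hσ⟩ := SetLike.exists_of_lt (Group.normalizerCondition_of_isNilpotent Cκ hlt)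
    have hκmem : κ ∈ Cκ := mem_centralizer_singleton_iff.2 rfl
    set κ' := σ * κ * σ⁻¹ with hκ'
    have hκ'ne : κ' ≠ κ := fun heq => hσ (mem_centralizer_singleton_iff.2 (mul_inv_eq_iff_eq_mul.1 heq))
    have hκ'comm : κ' * κ = κ * κ' :=
      mem_centralizer_singleton_iff.1 ((mem_set_normalizer_iff.1 hσn κ).1 hκmem)
    obtain ⟨t, htS, ht⟩ := σ.2
    set k' := t * k * t⁻¹ with hk'
    have hk'π : π k' = (κ' : G ⧸ F) := by
      simp only [hk', map_mul, map_inv, ht, hκ', hκ, Subgroup.coe_mul, Subgroup.coe_inv]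
    have hk'S : k' ∈ (S : Subgroup G) := mul_mem (mul_mem htS hkS) (inv_mem htS)
    have hk'2 : k' * k' = 1 := by
      rw [← pow_two, ← (show orderOf k' = 2 by rw [hk', hoc, hk2]), pow_orderOf_eq_one]
    have hkk : k * k = 1 := by rw [← pow_two, ← hk2, pow_orderOf_eq_one]
    set e := k' * k with he
    have hee : e * e ∈ F := by
      rw [← hπ1, he, map_mul, map_mul, hk'π]
      have h1 : (κ' : G ⧸ F) * π k = π k * (κ' : G ⧸ F) := congrArg Subtype.val hκ'comm
      have h2 : (κ' : G ⧸ F) * κ' = 1 := by rw [← hk'π, ← map_mul, hk'2, map_one]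
      have h3 : π k * π k = 1 := by rw [← map_mul, hkk, map_one]
      calc (κ' : G ⧸ F) * π k * (κ' * π k) = κ' * (π k * κ') * π k := by group
        _ = κ' * (κ' * π k) * π k := by rw [h1]
        _ = (κ' * κ') * (π k * π k) := by group
        _ = 1 := by rw [h2, h3, one_mul]
    have heS : e ∈ (S : Subgroup G) := mul_mem hk'S hkS
    have heC : e ∈ C := mul_mem (hCn.conj_mem k hkC t) hkC
    have heF : e ∉ F := by
      intro hh
      apply hκ'ne
      apply Subtype.ext
      rw [← hπ1, he, map_mul, hk'π] at hh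
      show (κ' : G ⧸ F) = π k
      rw [mul_eq_one_iff_eq_inv.1 hh, ← map_inv, inv_eq_of_mul_eq_one_right hkk]
    obtain ⟨l, hlS, hlC, hlF, hl2, hlπ⟩ : ∃ l, l ∈ (S : Subgroup G) ∧ l ∈ C ∧ l ∉ F ∧
        orderOf l = 2 ∧ π l = π e := by
      haveI := h.cyclic
      obtain ⟨f0, hf0⟩ := IsCyclic.exists_generator (α := ↥F)
      obtain ⟨r, hr⟩ := mem_zpowers_iff.1 (hf0 ⟨e * e, hee⟩)
      have hr' : (f0 : G) ^ r = e * e := by simpa using congrArg Subtype.val hr
      rcases Int.even_or_odd r with ⟨q, hq⟩ | hrodd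
      · have hfq : (f0 : G) ^ (-q) ∈ F := zpow_mem f0.2 _
        refine ⟨e * (f0 : G) ^ (-q), mul_mem heS (pCore_le_sylow' S hfq), mul_mem heC (hFC hfq), ?_,
          orderOf_eq_prime ?_ ?_, ?_⟩
        · intro hh
          exact heF (by simpa using mul_mem hh (inv_mem hfq))
        · have hcomm : Commute e ((f0 : G) ^ (-q)) := (mem_centralizer_iff.1 heC _ hfq).symm
          rw [hcomm.mul_pow, pow_two, ← hr', ← zpow_natCast, ← zpow_mul, ← zpow_add]
          rw [show r + -q * ((2 : ℕ) : ℤ) = 0 by push_cast; omega, zpow_zero]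
        · intro h1
          exact heF (by rw [mul_eq_one_iff_eq_inv.1 h1]; exact inv_mem hfq)
        · rw [map_mul, (hπ1 _).2 hfq, mul_one]
      · exfalso
        have h1 : k * (e * e) * k⁻¹ = (e * e)⁻¹ := by
          rw [he, inv_eq_of_mul_eq_one_right hkk, mul_inv_rev, mul_inv_rev,
            inv_eq_of_mul_eq_one_right hk'2, inv_eq_of_mul_eq_one_right hkk]
          calc k * (k' * k * (k' * k)) * k = k * k' * k * k' * (k * k) := by group
            _ = _ := by rw [hkk]; group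
        have h2 : k * (e * e) * k⁻¹ = e * e := by
          rw [← mem_centralizer_iff.1 hkC _ hee, mul_inv_cancel_right]
        have h4 : (f0 : G) ^ (r + r) = 1 := by
          rw [zpow_add, hr']
          nth_rewrite 2 [← h2]
          rw [h1, mul_inv_cancel]
        obtain ⟨ex, hex⟩ := PCore.exists_card_pCore (p := 2) (G := G)
        have hd : ((2 ^ ex : ℕ) : ℤ) ∣ r + r := by
          have := orderOf_dvd_iff_zpow_eq_one.2 h4
          rwa [Subgroup.orderOf_coe, orderOf_eq_card_of_forall_mem_zpowers hf0, hex] at this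
        have h5 := h.four_le_card
        rw [hex] at h5
        have hex2 : 2 ≤ ex := by
          by_contra hlt2
          interval_cases ex <;> norm_num at h5
        obtain ⟨q, rfl⟩ := hrodd
        have h6 : (4 : ℤ) ∣ 2 * q + 1 + (2 * q + 1) := dvd_trans (by
          have : 2 ^ 2 ∣ 2 ^ ex := pow_dvd_pow 2 hex2
          exact_mod_cast this) hd
        omega
    obtain ⟨τ, hτ, hτπ⟩ := horb l hlS hlC hlF hl2
    -- `κ` lies in every term of the lower central series
    have hall : ∀ n, κ ∈ (⊤ : Subgroup R).lowerCentralSeries n := by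
      intro n
      induction n with
      | zero => simp
      | succ n ihn =>
        have h1 : ⁅κ, σ⁆ ∈ (⊤ : Subgroup R).lowerCentralSeries (n + 1) :=
          commutator_mem_commutator ihn (mem_top _)
        set w : R := ⟨π τ, mem_map_of_mem π hτ⟩
        have h2 : ⁅κ, σ⁆⁻¹ = w * κ * w⁻¹ := by
          rw [commutatorElement_inv, commutatorElement_def, ← hκ']
          apply Subtype.ext
          show (κ' : G ⧸ F) * (π k)⁻¹ = π τ * π k * (π τ)⁻¹
          rw [← hk'π, ← map_inv, ← map_mul, inv_eq_of_mul_eq_one_right hkk, ← he, ← hlπ, hτπ,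
            map_mul, map_mul, map_inv]
        have h3 : w⁻¹ * ⁅κ, σ⁆⁻¹ * (w⁻¹)⁻¹ ∈ (⊤ : Subgroup R).lowerCentralSeries (n + 1) :=
          (inferInstance : ((⊤ : Subgroup R).lowerCentralSeries (n + 1)).Normal).conj_mem _
            (inv_mem h1) _
        rw [h2] at h3
        simpa [mul_assoc] using h3
    obtain ⟨n, hn⟩ := (isNilpotent_iff_lowerCentralSeries (⊤ : Subgroup R)).1 inferInstance
    have h7 := hall n
    rw [hn, mem_bot] at h7
    exact hκ'ne (by rw [hκ', h7]; group)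
  have hone : ∀ l, l ∈ (S : Subgroup G) → l ∈ C → l ∉ F → orderOf l = 2 → π l = π k := by
    intro l h1 h2 h3 h4
    obtain ⟨σ, hσ, hl⟩ := horb l h1 h2 h3 h4
    rw [hl, map_mul, map_mul, map_inv]
    exact congrArg Subtype.val (hcentral ⟨π σ, mem_map_of_mem π hσ⟩)
  -- `k` is isolated modulo `F`
  have hiso : Cfsg.IsIsolatedInvolution (π k) := by
    refine ⟨orderOf_eq_prime (by rw [← map_pow, show k ^ 2 = 1 from hk2 ▸ pow_orderOf_eq_one k, map_one])
      (fun h1 => hkF ((hπ1 k).1 h1)), fun q hq => ?_⟩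
    obtain ⟨g, rfl⟩ := QuotientGroup.mk'_surjective F q
    rw [← map_inv, ← map_mul, ← map_mul] at hq ⊢
    set k' := g * k * g⁻¹ with hk'
    have hk'S0 : k' ∈ ((g • S : Sylow 2 G) : Subgroup G) := ⟨k, hkS, rfl⟩
    have hkg : k ∈ ((g • S : Sylow 2 G) : Subgroup G) := by
      refine h.mem_of_conj hk'S0 (fun U hU => huniq (hconjF hkF g) (by rw [hoc, hk2]) hU hk'S0)
        (j := 1) (by rw [pow_one, ← hk2, pow_orderOf_eq_one]) ?_
      rw [← hπ1, map_mul, map_mul, map_mul, map_inv, map_inv, hq.eq, mul_inv_cancel_right,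
        inv_mul_cancel]
    have heq : g • S = S := huniq hkF hk2 hkg hkS
    rw [heq] at hk'S0
    exact hone k' hk'S0 (hCn.conj_mem k hkC g) (hconjF hkF g) (by rw [hk', hoc, hk2])
  have hZ := ZStar.inZStar hiso
  apply hg₁
  have h1 : π (g₁ * k * g₁⁻¹) = π k := by
    have := hZ (π g₁)
    rw [show Cfsg.pPrimeCore 2 (G ⧸ F) = ⊥ from h.oddCore_quotient, mem_bot, mul_inv_eq_one] at this
    rw [map_mul, map_mul, map_inv]
    exact this
  refine huniq (hconjF hkF g₁) (by rw [hoc, hk2]) (U := g₁ • S) (V := S) ⟨k, hkS, rfl⟩ ?_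
  have h2 : (g₁ * k * g₁⁻¹)⁻¹ * k ∈ F := by rw [← hπ1, map_mul, map_inv, h1, inv_mul_cancel]
  have := mul_mem hkS (inv_mem (pCore_le_sylow' S h2))
  rwa [mul_inv_rev, inv_inv, mul_inv_cancel_left] at this

end

theorem pCore_le_center (hFT : OddOrder.{u}) (hO : Cfsg.oddCore G = ⊥)
    (hns : ¬ Group.IsSolvable G) (hI : Hypo G) : Cfsg.pCore 2 G ≤ center G := by
  by_contra hne
  refine (Setting.mk hFT hO hns hI ?_).false
  intro h
  exact hne (centralizer_eq_top_iff_subset.1 h)

/-- The hypothesis passes to a quotient by a normal subgroup of odd order. -/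
theorem hypo_quotient (hI : Hypo G) (N : Subgroup G) [N.Normal] (hN : Odd (Nat.card N)) :
    Hypo (G ⧸ N) := by
  haveI : Fact (Nat.Prime 2) := ⟨Nat.prime_two⟩
  intro S T hST
  set π := QuotientGroup.mk' N with hπ
  have hsurj : Function.Surjective π := QuotientGroup.mk'_surjective N
  set X := (((S : Subgroup (G ⧸ N)) ⊓ T).comap π) with hX
  let U : Sylow 2 X := default
  have hXle : ((U : Subgroup X).map X.subtype).map π ≤ (S : Subgroup (G ⧸ N)) ⊓ T := by
    rintro _ ⟨_, ⟨⟨x, hx⟩, -, rfl⟩, rfl⟩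
    exact hx
  obtain ⟨P, hP⟩ := Sylow.mapSurjective_surjective hsurj 2 S
  obtain ⟨Q, hQ⟩ := Sylow.mapSurjective_surjective hsurj 2 T
  -- a conjugate by an element of the kernel containing the 2-part
  have key : ∀ (P : Sylow 2 G) (S : Sylow 2 (G ⧸ N)), P.mapSurjective hsurj = S →
      X ≤ (S : Subgroup (G ⧸ N)).comap π →
      ∃ o : G, o ∈ N ∧ (U : Subgroup X).map X.subtype ≤ ((o • P : Sylow 2 G) : Subgroup G) := by
    intro P S hP hle
    set Y := (S : Subgroup (G ⧸ N)).comap π with hY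
    have hPY : (P : Subgroup G) ≤ Y := by
      rw [hY, ← hP, Sylow.coe_mapSurjective]
      exact le_comap_map _ _
    obtain ⟨V, hV⟩ := ((U.2.map X.subtype).comap_of_injective Y.subtype
      Y.subtype_injective).exists_le_sylow
    obtain ⟨y, hy⟩ := MulAction.exists_smul_eq Y (P.subtype hPY) V
    have hyPN : (y : G) ∈ N ⊔ (P : Subgroup G) := by
      have h1 : π y ∈ (P : Subgroup G).map π := by
        have h0 : π y ∈ (S : Subgroup (G ⧸ N)) := y.2
        rw [← hP] at h0
        exact h0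
      obtain ⟨p, hp, hpy⟩ := h1
      have h2 : (y : G) * p⁻¹ ∈ N := by
        rw [← QuotientGroup.eq_one_iff]
        show π _ = 1
        rw [map_mul, map_inv, hpy, mul_inv_cancel]
      have := mul_mem (mem_sup_left h2 : _ ∈ N ⊔ (P : Subgroup G)) (mem_sup_right hp)
      rwa [inv_mul_cancel_right] at this
    obtain ⟨o, ho, p, hp, hop⟩ := mem_sup_of_normal_left.1 hyPN
    refine ⟨o, ho, ?_⟩
    have hoP : (o • P : Sylow 2 G) = (y : G) • P := by
      rw [← hop, mul_smul, Sylow.smul_eq_iff_mem_normalizer.2 (le_normalizer hp)]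
    rintro _ ⟨u, hu, rfl⟩
    rw [hoP]
    have hz : (⟨(u : G), hle u.2⟩ : Y) ∈ (V : Subgroup Y) := hV (mem_map_of_mem X.subtype hu)
    rw [← hy, Sylow.smul_subtype] at hz
    exact hz
  obtain ⟨o1, ho1, hU1⟩ := key P S hP (comap_mono inf_le_left)
  obtain ⟨o2, ho2, hU2⟩ := key Q T hQ (comap_mono inf_le_right)
  have hne : o1 • P ≠ o2 • Q := by
    intro heq
    apply hST
    have h1 : ∀ (o : G) (R : Sylow 2 G), o ∈ N → (o • R).mapSurjective hsurj = R.mapSurjective hsurj := by
      intro o R ho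
      refine Sylow.ext ?_
      rw [Sylow.coe_mapSurjective, Sylow.coe_mapSurjective]
      ext q
      have ho1 : π o = 1 := (QuotientGroup.eq_one_iff o).2 ho
      constructor
      · rintro ⟨_, ⟨r, hr, rfl⟩, rfl⟩
        exact ⟨r, hr, by simp [ho1]⟩
      · rintro ⟨r, hr, rfl⟩
        exact ⟨_, ⟨r, hr, rfl⟩, by simp [ho1]⟩
    rw [← hP, ← hQ, ← h1 o1 P ho1, ← h1 o2 Q ho2, heq]
  haveI := isCyclic_of_le (le_inf hU1 hU2) (hI _ _ hne)
  -- the 2-group maps onto the intersection
  set W := ((U : Subgroup X).map X.subtype).map π with hW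
  haveI : IsCyclic W := isCyclic_of_surjective _
    (π.subgroupMap_surjective ((U : Subgroup X).map X.subtype))
  suffices hWeq : (S : Subgroup (G ⧸ N)) ⊓ T ≤ W from isCyclic_of_le hWeq inferInstance
  have hle := hXle
  let f : X →* ↥((S : Subgroup (G ⧸ N)) ⊓ T) := π.subgroupComap _
  have hf : Function.Surjective f := fun q => by
    obtain ⟨g, hg⟩ := hsurj q
    exact ⟨⟨g, show π g ∈ _ from hg.symm ▸ q.2⟩, Subtype.ext hg⟩
  have htop : (U : Subgroup X).map f = ⊤ := by
    have hp : IsPGroup 2 ↥((S : Subgroup (G ⧸ N)) ⊓ T) := S.2.to_le inf_le_left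
    refine index_eq_one.1 ?_
    obtain ⟨n, hn⟩ := hp.index ((U : Subgroup X).map f)
    rcases n with _ | n
    · simpa using hn
    · exact absurd ((hn ▸ dvd_pow_self 2 n.succ_ne_zero : 2 ∣ _).trans (index_map_dvd _ hf))
        U.not_dvd_index
  intro q hq
  obtain ⟨x, hx, hxq⟩ := (htop ▸ mem_top (⟨q, hq⟩ : ↥((S : Subgroup (G ⧸ N)) ⊓ T)) :
    (⟨q, hq⟩ : ↥((S : Subgroup (G ⧸ N)) ⊓ T)) ∈ (U : Subgroup X).map f)
  exact ⟨(x : G), mem_map_of_mem X.subtype hx, congrArg Subtype.val hxq⟩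

/-- S3306 given the odd order theorem. -/
theorem map_isCyclic_central (hFT : OddOrder.{u}) (hns : ¬ Group.IsSolvable G) (hI : Hypo G)
    (N : Subgroup G) [N.Normal] (hN : Group.IsSolvable ↥N) :
    IsCyclic ↥(N.map (QuotientGroup.mk' (Cfsg.oddCore G))) ∧
      IsPGroup 2 ↥(N.map (QuotientGroup.mk' (Cfsg.oddCore G))) ∧
      N.map (QuotientGroup.mk' (Cfsg.oddCore G)) ≤ center (G ⧸ Cfsg.oddCore G) := by
  haveI : Fact (Nat.Prime 2) := ⟨Nat.prime_two⟩
  set O := Cfsg.oddCore G with hO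
  set π := QuotientGroup.mk' O with hπ
  have hsurj : Function.Surjective π := QuotientGroup.mk'_surjective O
  haveI : Group.IsSolvable O := hFT O PCore.odd_card_oddCore
  have hns' : ¬ Group.IsSolvable (G ⧸ O) := fun hs =>
    haveI := hs
    hns (Group.isSolvable_of_ker_le_range O.subtype π (by simp [π]))
  have hI' := hypo_quotient hI O PCore.odd_card_oddCore
  have hO' : Cfsg.oddCore (G ⧸ O) = ⊥ := PCore.pPrimeCore_quotient_self_eq_bot
  have hcent := pCore_le_center hFT hO' hns' hI'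
  have hcyc := pCore_isCyclic hFT hns' hI'
  set M := N.map π with hM
  haveI : M.Normal := (inferInstance : N.Normal).map π hsurj
  haveI : Group.IsSolvable M :=
    haveI := hN
    Group.isSolvable_of_surjective (π.subgroupMap_surjective N)
  have hO2 : Cfsg.pPrimeCore 2 M = ⊥ := PCore.pPrimeCore_eq_bot_of_normal M hO'
  have hle2 : (Cfsg.pCore 2 M).map M.subtype ≤ Cfsg.pCore 2 (G ⧸ O) := by
    rw [PCore.map_pCore_subtype_of_normal]
    exact inf_le_left
  have hMtop : ∀ x : M, x ∈ centralizer (Cfsg.pCore 2 M : Set M) := by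
    intro x
    rw [mem_centralizer_iff]
    intro y hy
    exact Subtype.ext ((mem_center_iff.1 (hcent (hle2 (mem_map_of_mem M.subtype hy))) x).symm)
  have hM2 : M ≤ Cfsg.pCore 2 (G ⧸ O) := fun x hx =>
    hle2 (mem_map_of_mem M.subtype (PCore.centralizer_pCore_le_of_isSolvable hO2 (hMtop ⟨x, hx⟩)))
  exact ⟨isCyclic_of_le hM2 hcyc, PCore.isPGroup_pCore.to_le hM2, hM2.trans hcent⟩

end Cfsg.Agent.FTConsumers.CyclicInter
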