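import Cfsg.Agent.Lib.FTConsumers.Hyp
import Cfsg.Agent.Lib.ConjFun.Basic
import Cfsg.Agent.Lib.ZStar.Main
import Cfsg.Agent.Lib.ZStar.Consumers
import Mathlib.GroupTheory.GroupAction.Primitive
import Mathlib.Data.ZMod.Basic

/-!
# Insoluble extremely primitive affine groups

Let `K` act faithfully and irreducibly on a finite abelian group `A` of exponent `p`, with every
point stabiliser of a nontrivial element maximal. If `K` is insoluble then (given the odd order
theorem) `p = 2` and `K` is almost simple.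

For the last part let `M` be minimal normal, `T` minimal normal in `M` and `R = T_v ≠ 1`. If `T ≠ M`
one finds `N_T(X) ≤ R` for all `1 ≠ X ≤ R`; counting involutions then gives an isolated involution in
the simple group `T`, against the Z*-theorem.
-/

set_option autoImplicit false
set_option linter.style.haveILetI false

namespace Cfsg.Agent.FTConsumers.ExtremelyPrimitive

open Subgroup MulAction

universe u v

section Frobenius

variable {T : Type u} [Group T] [Finite T]

/-- A proper subgroup containing the normalisers of all its nontrivial subgroups has odd order when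
the group is simple and insoluble. -/
theorem false_of_normalizer_le [IsSimpleGroup T] (hT : ¬ Group.IsSolvable T) {R : Subgroup T}
    (hR : R ≠ ⊤) {z : T} (hzR : z ∈ R) (hz : orderOf z = 2)
    (hN : ∀ X : Subgroup T, X ≤ R → X ≠ ⊥ → normalizer (X : Set T) ≤ R) : False := by
  haveI : Fact (Nat.Prime 2) := ⟨Nat.prime_two⟩
  have hTI : ∀ g x : T, orderOf x = 2 → x ∈ R → g⁻¹ * x * g ∈ R → g ∈ R := by
    intro g x hx hxR hxg
    set R' := R.map (MulAut.conj g).toMonoidHom with hR'
    set D := R ⊓ R' with hD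
    have hxD : x ∈ D := ⟨hxR, g⁻¹ * x * g, hxg, by simp [mul_assoc]⟩
    obtain ⟨S⟩ : Nonempty (Sylow 2 ↥D) := Sylow.nonempty
    set P := (S : Subgroup ↥D).map D.subtype with hP
    have hPD : P ≤ D := map_subtype_le _
    have hP2 : IsPGroup 2 ↥P := S.2.map _
    have hcard : Nat.card ↥P = Nat.card ↥(S : Subgroup ↥D) := card_map_of_injective D.subtype_injective
    obtain ⟨n, hn⟩ := IsPGroup.iff_card.1 hP2
    have h2D : 2 ∣ Nat.card ↥D := by rw [← hx, ← Subgroup.orderOf_mk (a := x) hxD]; exact orderOf_dvd_natCard _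
    have hmax : ¬ 2 ^ (n + 1) ∣ Nat.card ↥D := fun h => by
      have h1 := S.pow_dvd_card_of_pow_dvd_card h
      rw [← hcard, hn] at h1
      exact absurd (Nat.le_of_dvd (by positivity) h1) (by simp [pow_succ])
    have hPne : P ≠ ⊥ := fun h => by
      rw [h, card_bot] at hcard
      rcases n.eq_zero_or_pos with rfl | hn0
      · exact hmax (by simpa using h2D)
      · rw [h, card_bot] at hn
        exact absurd hn.symm (Nat.one_lt_two_pow hn0.ne').ne'
    set P' := P.map (MulAut.conj g⁻¹).toMonoidHom with hP'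
    have hP'R : P' ≤ R := by
      rintro _ ⟨y, hy, rfl⟩
      obtain ⟨r, hr, rfl⟩ := (hPD hy).2
      simpa [mul_assoc] using hr
    have hNP : normalizer (P : Set T) ≤ D := by
      refine le_inf (hN P (hPD.trans inf_le_left) hPne) ?_
      have h1 := hN P' hP'R (by rw [Ne, ← card_eq_one, hP', ConjFun.card_conjMap, card_eq_one]; exact hPne)
      rw [hP', ← ConjFun.conjMap_normalizer] at h1
      intro y hy
      exact ⟨g⁻¹ * y * g, h1 ⟨y, hy, by simp⟩, by simp [mul_assoc]⟩
    have hmaxT : ¬ 2 ^ (n + 1) ∣ Nat.card T := fun h =>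
      hmax ((Sylow.prime_pow_dvd_card_normalizer h hn).trans (card_dvd_of_le hNP))
    have hidx : ∀ Q : Subgroup T, Q ≤ R → Nat.card ↥Q = 2 ^ n → ¬ 2 ∣ Q.relIndex R := by
      intro Q hQ hQc hd
      apply hmaxT
      refine dvd_trans ?_ (card_subgroup_dvd_card R)
      rw [← relIndex_bot_left R, ← relIndex_mul_relIndex ⊥ Q R bot_le hQ, relIndex_bot_left, hQc,
        pow_succ]
      exact mul_dvd_mul_left _ hd
    obtain ⟨h, hh, he⟩ := ConjFun.exists_conj_eq_of_relIndex (p := 2) hP2 (hPD.trans inf_le_left)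
      (hidx P (hPD.trans inf_le_left) hn) (hP2.map _) hP'R
      (hidx P' hP'R (by rw [hP', ConjFun.card_conjMap, hn]))
    rw [← ConjFun.conjMap_mul] at he
    have h3 : h * g⁻¹ ∈ R := hN P (hPD.trans inf_le_left) hPne (by
      rw [mem_normalizer_iff_map_conj_eq]; exact he)
    exact inv_mem_iff.1 ((mul_mem_cancel_left hh).1 h3)
  -- at most one involution in each coset outside `R`
  have hcos : ∀ a b : T, orderOf a = 2 → orderOf b = 2 → a ∉ R → a⁻¹ * b ∈ R → a = b := by
    intro a b ha hb haR hab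
    by_contra hne
    refine haR (hN (zpowers (a⁻¹ * b)) (zpowers_le.2 hab) (fun h => hne ?_) ?_)
    · rw [zpowers_eq_bot, inv_mul_eq_one] at h; exact h
    have ha2 : a⁻¹ = a := inv_eq_of_mul_eq_one_right (by
      have := pow_orderOf_eq_one a; rwa [ha, pow_two] at this)
    have hb2 : b⁻¹ = b := inv_eq_of_mul_eq_one_right (by
      have := pow_orderOf_eq_one b; rwa [hb, pow_two] at this)
    rw [mem_normalizer_iff_map_conj_eq]
    show (zpowers (a⁻¹ * b)).map (MulAut.conj a).toMonoidHom = zpowers (a⁻¹ * b)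
    rw [MonoidHom.map_zpowers, ← zpowers_inv (g := a⁻¹ * b)]
    congr 1
    show a * (a⁻¹ * b) * a⁻¹ = (a⁻¹ * b)⁻¹
    rw [mul_inv_rev, inv_inv, hb2, ha2]
    nth_rewrite 2 [← ha2]
    rw [mul_inv_cancel_left]
  have hone : ∀ y ∈ R, orderOf y = 2 → y = z := by
    let Q := {q : T ⧸ R // q ≠ ((1 : T) : T ⧸ R)}
    let J := {y : T // y ∈ R ∧ orderOf y = 2}
    let O := {a : T // a ∉ R ∧ orderOf a = 2}
    have hout : ∀ q : Q, q.1.out ∉ R := fun q h => q.2 (by
      rw [← QuotientGroup.out_eq' q.1, QuotientGroup.eq]; simpa using h)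
    let f : Q × J → O := fun qy => ⟨qy.1.1.out * qy.2.1 * qy.1.1.out⁻¹, fun h =>
      hout qy.1 (inv_mem_iff.1 (hTI _ qy.2.1 qy.2.2.2 qy.2.2.1 (by simpa [mul_assoc] using h))),
      by rw [← MulAut.conj_apply, MulEquiv.orderOf_eq]; exact qy.2.2.2⟩
    have hf : Function.Injective f := by
      rintro ⟨q, y⟩ ⟨q', y'⟩ h
      have h0 : q.1.out * y.1 * q.1.out⁻¹ = q'.1.out * y'.1 * q'.1.out⁻¹ := congrArg Subtype.val h
      have h1 : q'.1.out⁻¹ * q.1.out ∈ R := inv_mem_iff.1 (hTI _ y.1 y.2.2 y.2.1 (by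
        rw [show (q'.1.out⁻¹ * q.1.out)⁻¹⁻¹ * y.1 * (q'.1.out⁻¹ * q.1.out)⁻¹ =
          q'.1.out⁻¹ * (q.1.out * y.1 * q.1.out⁻¹) * q'.1.out by group, h0]
        simpa [mul_assoc] using y'.2.1))
      obtain rfl : q = q' := Subtype.ext (by
        rw [← QuotientGroup.out_eq' q.1, ← QuotientGroup.out_eq' q'.1, eq_comm, QuotientGroup.eq]
        exact h1)
      refine Prod.ext rfl (Subtype.ext ?_)
      simpa using h0
    let g : O → Q := fun a => ⟨(a.1 : T ⧸ R), fun h => a.2.1 (by
      rw [QuotientGroup.eq] at h; simpa using h)⟩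
    have hg : Function.Injective g := fun a b h => Subtype.ext
      (hcos a b a.2.2 b.2.2 a.2.1 (QuotientGroup.eq.1 (congrArg Subtype.val h)))
    obtain ⟨q, hq⟩ := SetLike.exists_not_mem_of_ne_top R hR
    haveI : Nonempty Q := ⟨⟨(q : T ⧸ R), fun h => hq (by rw [QuotientGroup.eq] at h; simpa using h)⟩⟩
    intro y hy hy2
    by_contra hne
    haveI : Nontrivial J := ⟨⟨⟨y, hy, hy2⟩, ⟨z, hzR, hz⟩, fun h => hne (congrArg Subtype.val h)⟩⟩
    have h1 := (Nat.card_le_card_of_injective _ hf).trans (Nat.card_le_card_of_injective _ hg)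
    rw [Nat.card_prod] at h1
    exact absurd h1 (not_le.2 (lt_mul_of_one_lt_right Nat.card_pos Finite.one_lt_card))
  have hiso : IsIsolatedInvolution z := by
    refine ⟨hz, fun g hg => hone _ ?_ (by rw [← MulAut.conj_apply, MulEquiv.orderOf_eq]; exact hz)⟩
    refine hN (zpowers z) (zpowers_le.2 hzR) (fun h => ?_) (centralizer_le_normalizer _ ?_)
    · rw [zpowers_eq_bot] at h; simp [h] at hz
    · rw [mem_centralizer_iff]
      rintro _ ⟨i, rfl⟩
      exact (hg.zpow_left i).eq
  have hO : oddCore T = ⊥ := by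
    rcases (inferInstance : (oddCore T).Normal).eq_bot_or_eq_top with h | h
    · exact h
    · exfalso
      have h1 := PCore.odd_card_oddCore (G := T)
      rw [h, card_top] at h1
      exact Nat.not_even_iff_odd.2 h1 (even_iff_two_dvd.2 (hz ▸ orderOf_dvd_natCard z))
  have hc := ZStar.mem_center_of_oddCore_eq_bot (ZStar.inZStar hiso) hO
  rcases (inferInstance : (center T).Normal).eq_bot_or_eq_top with h | h
  · rw [h, mem_bot] at hc; simp [hc] at hz
  · exact hT (Group.isSolvable_of_comm fun a b =>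
      (mem_center_iff.1 (h ▸ mem_top b) a))

end Frobenius

section Module

variable {K : Type u} [Group K] [Finite K] {A : Type v} [CommGroup A] [Finite A]
  [MulDistribMulAction K A] [FaithfulSMul K A]

variable (K A) in
/-- The hypotheses: no invariant subgroup, maximal stabilisers. -/
structure Hyp : Prop where
  irr : ∀ W : Subgroup A, (∀ (k : K), ∀ a ∈ W, k • a ∈ W) → W = ⊥ ∨ W = ⊤
  max : ∀ v : A, v ≠ 1 → IsCoatom (stabilizer K v)

/-- A normal subgroup fixing a nontrivial element is trivial. -/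
theorem eq_bot_of_le_stabilizer (h : Hyp K A) {N : Subgroup K} [hN : N.Normal] {v : A} (hv : v ≠ 1)
    (hle : N ≤ stabilizer K v) : N = ⊥ := by
  let W : Subgroup A :=
    { carrier := {a | ∀ n ∈ N, n • a = a}
      one_mem' := fun n _ => smul_one n
      mul_mem' := fun ha hb n hn => by rw [smul_mul', ha n hn, hb n hn]
      inv_mem' := fun ha n hn => by rw [smul_inv', ha n hn] }
  rcases h.irr W (fun k a ha n hn => by
    calc n • k • a = k • (k⁻¹ * n * k) • a := by rw [smul_smul, smul_smul]; group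
      _ = k • a := by rw [ha _ (by simpa using hN.conj_mem n hn k⁻¹)]) with hW | hW
  · exfalso
    have : v ∈ W := fun n hn => hle hn
    rw [hW, mem_bot] at this
    exact hv this
  · refine (eq_bot_iff_forall N).2 fun n hn => eq_of_smul_eq_smul (α := A) fun a => ?_
    rw [one_smul]
    exact (hW ▸ mem_top a : a ∈ W) n hn

theorem sup_stabilizer_eq_top (h : Hyp K A) {N : Subgroup K} [N.Normal] (hN : N ≠ ⊥) {v : A}
    (hv : v ≠ 1) : N ⊔ stabilizer K v = ⊤ := by
  refine (h.max v hv).2 _ (lt_of_le_of_ne le_sup_right fun he => hN ?_)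
  exact eq_bot_of_le_stabilizer h hv (le_sup_left.trans he.ge)

/-- A subgroup of the stabiliser normalised by it and by a nontrivial normal subgroup is trivial. -/
theorem eq_bot_of_normalized (h : Hyp K A) {N X : Subgroup K} [N.Normal] (hN : N ≠ ⊥) {v : A}
    (hv : v ≠ 1) (hX : X ≤ stabilizer K v) (h1 : N ≤ normalizer (X : Set K))
    (h2 : stabilizer K v ≤ normalizer (X : Set K)) : X = ⊥ := by
  haveI : X.Normal := normalizer_eq_top_iff.1
    (top_le_iff.1 ((sup_stabilizer_eq_top h hN hv).ge.trans (sup_le h1 h2)))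
  exact eq_bot_of_le_stabilizer h hv hX

theorem mem_normalizer_normal (N : Subgroup K) [hN : N.Normal] (x : K) :
    x ∈ normalizer (N : Set K) := by
  rw [normalizer_eq_top_iff.2 hN]; exact mem_top x

theorem exists_moved {k : K} (hk : k ≠ 1) : ∃ a : A, k • a ≠ a := by
  by_contra hc
  exact hk (eq_of_smul_eq_smul (α := A) fun a => by
    rw [one_smul]; exact not_not.1 fun hne => hc ⟨a, hne⟩)

/-- Given the odd order theorem, `p = 2`. -/
theorem prime_eq_two (hFT : OddOrder.{u}) (h : Hyp K A) {p : ℕ} (hp : p.Prime)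
    (hexp : ∀ a : A, a ^ p = 1) (hK : ¬ Group.IsSolvable K) : p = 2 := by
  haveI : Fact (Nat.Prime 2) := ⟨Nat.prime_two⟩
  by_contra hp2
  obtain ⟨t, ht⟩ := exists_prime_orderOf_dvd_card' (G := K) 2
    (even_iff_two_dvd.1 (Nat.not_odd_iff_even.1 fun ho => hK (hFT K ho)))
  have ht2 : t * t = 1 := by have := pow_orderOf_eq_one t; rwa [ht, pow_two] at this
  obtain ⟨w, hw⟩ := exists_moved (A := A) (k := t) (fun h1 => by simp [h1] at ht)
  set v := t • w * w⁻¹ with hvdef
  have hv : v ≠ 1 := by rwa [hvdef, Ne, mul_inv_eq_one]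
  have htv : t • v = v⁻¹ := by
    rw [hvdef, smul_mul', smul_inv', smul_smul, ht2, one_smul, mul_inv_rev, inv_inv]
  have hvv : v⁻¹ ≠ v := fun he => by
    have h1 : v ^ 2 = 1 := by rw [pow_two]; nth_rewrite 1 [← he]; exact inv_mul_cancel v
    have h2 : orderOf v ∣ Nat.gcd 2 p := Nat.dvd_gcd (orderOf_dvd_of_pow_eq_one h1)
      (orderOf_dvd_of_pow_eq_one (hexp v))
    rw [(Nat.coprime_primes Nat.prime_two hp).2 (Ne.symm hp2), Nat.dvd_one, orderOf_eq_one_iff] at h2
    exact hv h2
  let S : Subgroup K :=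
    { carrier := {k | k • v = v ∨ k • v = v⁻¹}
      one_mem' := Or.inl (one_smul K v)
      mul_mem' := by
        rintro a b (ha | ha) (hb | hb) <;> show _ • v = v ∨ _ • v = v⁻¹ <;> rw [mul_smul, hb]
        · exact Or.inl ha
        · exact Or.inr (by rw [smul_inv', ha])
        · exact Or.inr ha
        · exact Or.inl (by rw [smul_inv', ha, inv_inv])
      inv_mem' := by
        rintro a (ha | ha) <;> show a⁻¹ • v = v ∨ a⁻¹ • v = v⁻¹
        · exact Or.inl (inv_smul_eq_iff.2 ha.symm)
        · exact Or.inr (inv_smul_eq_iff.2 (by rw [smul_inv', ha, inv_inv])) }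
  have hS : S = ⊤ := (h.max v hv).2 S (lt_of_le_of_ne (fun k hk => Or.inl hk) fun he =>
    hvv (htv.symm.trans (show t ∈ stabilizer K v from he ▸ (show t ∈ S from Or.inr htv))))
  have hkv : ∀ k : K, k • v = v ∨ k • v = v⁻¹ := fun k => (hS ▸ mem_top k : k ∈ S)
  have hz : zpowers v = ⊤ := by
    refine (h.irr _ ?_).resolve_left fun he => hv (zpowers_eq_bot.1 he)
    intro k a ha
    obtain ⟨i, rfl⟩ := mem_zpowers_iff.1 ha
    rw [smul_zpow']
    rcases hkv k with hk | hk <;> rw [hk]
    · exact zpow_mem (mem_zpowers v) i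
    · exact zpow_mem (inv_mem (mem_zpowers v)) i
  refine hK (Group.isSolvable_of_comm fun k l => eq_of_smul_eq_smul (α := A) fun a => ?_)
  obtain ⟨i, rfl⟩ := mem_zpowers_iff.1 (hz ▸ mem_top a : a ∈ zpowers v)
  have hc : (k * l) • v = (l * k) • v := by
    rcases hkv k with hk | hk <;> rcases hkv l with hl | hl <;>
      simp [mul_smul, smul_inv', hk, hl]
  rw [smul_zpow', smul_zpow', hc]

theorem mul_self_eq_one (hexp : ∀ a : A, a ^ 2 = 1) (a : A) : a * a = 1 := by rw [← pow_two, hexp]

/-- An involution fixes a nontrivial element in exponent 2. -/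
theorem exists_fixed [Nontrivial A] (hexp : ∀ a : A, a ^ 2 = 1) {y : K} (hy : y * y = 1) :
    ∃ v : A, v ≠ 1 ∧ y • v = v := by
  obtain ⟨w, hw⟩ := exists_ne (1 : A)
  by_cases h : y • w * w = 1
  · refine ⟨w, hw, ?_⟩
    rw [← mul_self_eq_one hexp w] at h
    exact mul_right_cancel h
  · exact ⟨_, h, by rw [smul_mul', smul_smul, hy, one_smul, mul_comm]⟩

/-- An abelian minimal normal subgroup forces solvability. -/
theorem isSolvable_of_comm_minimal (h : Hyp K A) [Nontrivial A] (hexp : ∀ a : A, a ^ 2 = 1)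
    {M : Subgroup K} [M.Normal] (hM : M ≠ ⊥)
    (hmin : ∀ N : Subgroup K, N.Normal → N ≤ M → N ≠ ⊥ → N = M)
    (hab : ∀ a ∈ M, ∀ b ∈ M, a * b = b * a) : Group.IsSolvable K := by
  classical
  have hfree : ∀ v : A, v ≠ 1 → ∀ m ∈ M, m • v = v → m = 1 := by
    intro v hv m hm hmv
    have := eq_bot_of_normalized h hM hv (X := M ⊓ stabilizer K v) inf_le_right
      (fun x hx => centralizer_le_normalizer _
        (mem_centralizer_iff.2 fun y hy => hab y (mem_inf.1 hy).1 x hx))
      (fun x hx => inf_normalizer_le_normalizer_inf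
        ⟨mem_normalizer_normal M x, le_normalizer hx⟩)
    exact (mem_bot).1 (this ▸ (⟨hm, hmv⟩ : m ∈ M ⊓ stabilizer K v))
  have hCM : centralizer (M : Set K) ≤ M := by
    obtain ⟨v, hv⟩ := exists_ne (1 : A)
    intro c hc
    have hc' : c ∈ M ⊔ stabilizer K v := (sup_stabilizer_eq_top h hM hv).symm ▸ mem_top c
    obtain ⟨m, hm, s, hs, rfl⟩ := Set.mem_mul.1 (by rwa [← SetLike.mem_coe, normal_mul] at hc')
    have hsc : s ∈ centralizer (M : Set K) := by
      have : m⁻¹ ∈ centralizer (M : Set K) :=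
        mem_centralizer_iff.2 fun y hy => hab y hy _ (inv_mem hm)
      simpa using mul_mem this hc
    have := eq_bot_of_normalized h hM hv (X := centralizer (M : Set K) ⊓ stabilizer K v) inf_le_right
      (fun x hx => centralizer_le_normalizer _
        (mem_centralizer_iff.2 fun y hy => ((mem_centralizer_iff.1 (mem_inf.1 hy).1) x hx).symm))
      (fun x hx => inf_normalizer_le_normalizer_inf
        ⟨mem_normalizer_normal (centralizer (M : Set K)) x, le_normalizer hx⟩)
    have h9 : s ∈ centralizer (M : Set K) ⊓ stabilizer K v := mem_inf.2 ⟨hsc, hs⟩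
    rw [this, mem_bot] at h9
    rw [h9, mul_one]
    exact hm
  -- a prime `q`, odd, with `x ^ q = 1` on `M`
  obtain ⟨q, hq, hqM⟩ := Nat.exists_prime_and_dvd (mt (card_eq_one (H := M)).1 hM)
  haveI : Fact q.Prime := ⟨hq⟩
  obtain ⟨y', hy'⟩ := exists_prime_orderOf_dvd_card' (G := ↥M) q hqM
  rw [← orderOf_coe] at hy'
  set y : K := (y' : K)
  have hy : y ∈ M := y'.2
  have hy1 : y ≠ 1 := fun he => hq.ne_one (by rw [← hy', he, orderOf_one])
  have hq2 : q ≠ 2 := by
    rintro rfl
    obtain ⟨v, hv, hyv⟩ := exists_fixed (A := A) hexp (y := y)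
      (by rw [← pow_two, ← hy', pow_orderOf_eq_one])
    exact hy1 (hfree v hv y hy hyv)
  have hMq : ∀ x ∈ M, x ^ q = 1 := by
    let M₀ : Subgroup K :=
      { carrier := {x | x ∈ M ∧ x ^ q = 1}
        one_mem' := ⟨one_mem M, one_pow q⟩
        mul_mem' := fun {a b} ha hb => ⟨mul_mem ha.1 hb.1, by
          rw [Commute.mul_pow (hab a ha.1 b hb.1), ha.2, hb.2, one_mul]⟩
        inv_mem' := fun {a} ha => ⟨inv_mem ha.1, by rw [inv_pow, ha.2, inv_one]⟩ }
    have hn : M₀.Normal := ⟨fun x hx k => ⟨(inferInstance : M.Normal).conj_mem x hx.1 k, by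
      rw [conj_pow, hx.2, mul_one, mul_inv_cancel]⟩⟩
    have := hmin M₀ hn (fun x hx => hx.1) ((Subgroup.ne_bot_iff_exists_ne_one).2
      ⟨⟨y, hy, by rw [← hy', pow_orderOf_eq_one]⟩, fun he => hy1 (congrArg Subtype.val he)⟩)
    exact fun x hx => (this.symm ▸ hx : x ∈ M₀).2
  obtain ⟨v, hv⟩ := exists_ne (1 : A)
  -- sums over lines vanish
  have hline : ∀ x ∈ M, x ≠ 1 → ∀ a : A, ∏ j : ZMod q, x ^ j.val • a = 1 := by
    intro x hx hx1 a
    by_contra hne
    refine hx1 (hfree _ hne x hx ?_)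
    rw [Finset.smul_prod']
    refine Fintype.prod_equiv (Equiv.addRight 1) _ _ fun j => ?_
    rw [smul_smul, ← pow_succ', Equiv.coe_addRight,
      pow_eq_pow_mod j.val.succ (hMq x hx), ZMod.val_add, ZMod.val_one]
  have hcyc : M ≤ zpowers y := by
    intro x hx
    by_contra hxy
    have hne : ∀ s : ZMod q, x * y ^ s.val ≠ 1 := fun s he => hxy (by
      rw [eq_inv_of_mul_eq_one_left he]; exact inv_mem (npow_mem_zpowers y _))
    have h1 : ∏ j : ZMod q, ∏ s : ZMod q, (x * y ^ s.val) ^ j.val • v = 1 := by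
      rw [Finset.prod_comm]
      exact Finset.prod_eq_one fun s _ => hline _ (mul_mem hx (pow_mem hy _)) (hne s) v
    rw [Finset.prod_eq_single (0 : ZMod q)] at h1
    · simp only [ZMod.val_zero, pow_zero, one_smul, Finset.prod_const, Finset.card_univ,
        ZMod.card] at h1
      rw [pow_eq_pow_mod q (hexp v), Nat.odd_iff.1 (hq.odd_of_ne_two hq2), pow_one] at h1
      exact hv h1
    · intro j _ hj
      calc ∏ s : ZMod q, (x * y ^ s.val) ^ j.val • v = ∏ s : ZMod q, y ^ s.val • x ^ j.val • v := by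
            refine Fintype.prod_equiv (Equiv.mulRight₀ j hj) _ _ fun s => ?_
            rw [Commute.mul_pow (hab x hx _ (pow_mem hy _)), ← pow_mul, Equiv.mulRight₀_apply,
              ZMod.val_mul, ← pow_eq_pow_mod _ (hMq y hy), smul_smul,
              hab (x ^ j.val) (pow_mem hx _) _ (pow_mem hy _)]
        _ = 1 := hline y hy hy1 _
    · exact fun hn => absurd (Finset.mem_univ _) hn
  haveI : Group.IsSolvable ↥M := Group.isSolvable_of_comm fun a b => Subtype.ext (hab a a.2 b b.2)
  haveI : Group.IsSolvable (K ⧸ M) := Group.isSolvable_of_comm fun a b => by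
    obtain ⟨a, rfl⟩ := QuotientGroup.mk'_surjective M a
    obtain ⟨b, rfl⟩ := QuotientGroup.mk'_surjective M b
    have hpow : ∀ k : K, ∃ i : ℤ, k * y * k⁻¹ = y ^ i := fun k => by
      obtain ⟨i, hi⟩ := mem_zpowers_iff.1 (hcyc ((inferInstance : M.Normal).conj_mem y hy k))
      exact ⟨i, hi.symm⟩
    obtain ⟨i, hi⟩ := hpow a
    obtain ⟨j, hj⟩ := hpow b
    have key : (b * a)⁻¹ * (a * b) ∈ M := by
      refine hCM (mem_centralizer_iff.2 fun m hm => ?_)
      obtain ⟨r, rfl⟩ := mem_zpowers_iff.1 (hcyc hm)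
      refine (Commute.zpow_left ?_ r).eq
      have hab' : a * b * y * (a * b)⁻¹ = b * a * y * (b * a)⁻¹ := by
        calc a * b * y * (a * b)⁻¹ = a * (b * y * b⁻¹) * a⁻¹ := by group
          _ = y ^ (i * j) := by rw [hj, ← conj_zpow, hi, ← zpow_mul]
          _ = b * (a * y * a⁻¹) * b⁻¹ := by rw [hi, ← conj_zpow, hj, ← zpow_mul, mul_comm]
          _ = b * a * y * (b * a)⁻¹ := by group
      show y * ((b * a)⁻¹ * (a * b)) = (b * a)⁻¹ * (a * b) * y
      calc y * ((b * a)⁻¹ * (a * b)) = (b * a)⁻¹ * (b * a * y * (b * a)⁻¹) * (a * b) := by group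
        _ = (b * a)⁻¹ * (a * b * y * (a * b)⁻¹) * (a * b) := by rw [hab']
        _ = (b * a)⁻¹ * (a * b) * y := by group
    rw [← map_mul, ← map_mul, QuotientGroup.mk'_apply, QuotientGroup.mk'_apply, eq_comm,
      QuotientGroup.eq]
    exact key
  exact Group.isSolvable_of_ker_le_range M.subtype (QuotientGroup.mk' M) (by simp)

section NotSimple

variable {M T : Subgroup K}

/-- `T` and all its conjugates generate the minimal normal subgroup `M`. -/
theorem normalClosure_eq (hmin : ∀ N : Subgroup K, N.Normal → N ≤ M → N ≠ ⊥ → N = M) [M.Normal]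
    (hTM : T ≤ M) (hT : T ≠ ⊥) : normalClosure (T : Set K) = M :=
  hmin _ normalClosure_normal (normalClosure_le_normal hTM)
    (ne_bot_of_le_ne_bot hT le_normalClosure)

theorem conj_le (hTM : T ≤ M) [hM : M.Normal] (k : K) : T.map (MulAut.conj k).toMonoidHom ≤ M := by
  rintro _ ⟨x, hx, rfl⟩
  exact hM.conj_mem x (hTM hx) k

/-- No member of the class of `T` fixes a nontrivial element. -/
theorem eq_one_of_conj_le (h : Hyp K A) [M.Normal]
    (hmin : ∀ N : Subgroup K, N.Normal → N ≤ M → N ≠ ⊥ → N = M) (hTM : T ≤ M) (hT : T ≠ ⊥)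
    (hTn : M ≤ normalizer (T : Set K)) (k : K) {u : A}
    (hu : T.map (MulAut.conj k).toMonoidHom ≤ stabilizer K u) : u = 1 := by
  by_contra hne
  have hM : M ≠ ⊥ := ne_bot_of_le_ne_bot hT hTM
  refine hM ?_
  have hle : M ≤ stabilizer K u := by
    rw [← normalClosure_eq hmin hTM hT, normalClosure, closure_le]
    intro x hx
    obtain ⟨t, ht, hc⟩ := Group.mem_conjugatesOfSet_iff.1 hx
    obtain ⟨c, rfl⟩ := isConj_iff.1 hc
    have hck : c * k⁻¹ ∈ (stabilizer K u : Subgroup K) ⊔ M := by
      rw [sup_comm, sup_stabilizer_eq_top h hM hne]; exact mem_top _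
    obtain ⟨s, hs, m, hm, hsm⟩ := Set.mem_mul.1 (by rwa [← SetLike.mem_coe, mul_normal] at hck)
    have hm' : k⁻¹ * m * k ∈ M := by
      simpa using (inferInstance : M.Normal).conj_mem m hm k⁻¹
    have h1 : k * (k⁻¹ * m * k * t * (k⁻¹ * m * k)⁻¹) * k⁻¹ ∈ stabilizer K u :=
      hu ⟨_, (mem_normalizer_iff.1 (hTn hm') t).1 ht, rfl⟩
    rw [show c = s * m * k by rw [hsm]; group,
      show s * m * k * t * (s * m * k)⁻¹ = s * (k * (k⁻¹ * m * k * t * (k⁻¹ * m * k)⁻¹) * k⁻¹) * s⁻¹
        by group]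
    exact mul_mem (mul_mem hs h1) (inv_mem hs)
  exact eq_bot_of_le_stabilizer h hne hle

/-- Stabilisers meeting `T` are products over the class of `T`. -/
theorem smul_eq_of_mul (h : Hyp K A) [M.Normal]
    (hmin : ∀ N : Subgroup K, N.Normal → N ≤ M → N ≠ ⊥ → N = M) (hTM : T ≤ M) (hT : T ≠ ⊥)
    (hTn : M ≤ normalizer (T : Set K))
    (hmT : ∀ N : Subgroup K, N ≤ T → N ≠ ⊥ → M ≤ normalizer (N : Set K) → N = T)
    (hdisj : ∀ k : K, T.map (MulAut.conj k).toMonoidHom ≠ T →
      T ≤ centralizer (T.map (MulAut.conj k).toMonoidHom : Set K))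
    {u : A} (hu : u ≠ 1) {a b x : K} (ha : a ∈ T) (hbM : b ∈ M) (hb : b ∈ centralizer (T : Set K))
    (hx : x ∈ T) (hx1 : x ≠ 1) (hxu : x • u = u) (hab : (a * b) • u = u) : a • u = u := by
  set H := stabilizer K u with hH
  set C : K → Subgroup K := fun k => centralizer (T.map (MulAut.conj k).toMonoidHom : Set K) with hC
  have hCn : ∀ (k m c : K), m ∈ M → c ∈ C k → m * c * m⁻¹ ∈ C k := by
    intro k m c hm hc
    have hmk : m ∈ normalizer (T.map (MulAut.conj k).toMonoidHom : Set K) := by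
      rw [← ConjFun.conjMap_normalizer]
      exact ⟨k⁻¹ * m * k, hTn (by simpa using (inferInstance : M.Normal).conj_mem m hm k⁻¹),
        by simp [mul_assoc]⟩
    refine mem_centralizer_iff.2 fun y hy => ?_
    have h1 : m⁻¹ * y * m ∈ T.map (MulAut.conj k).toMonoidHom := by
      simpa using (mem_normalizer_iff.1 (inv_mem hmk) y).1 hy
    have h2 := mem_centralizer_iff.1 hc _ h1
    calc y * (m * c * m⁻¹) = m * (m⁻¹ * y * m * c) * m⁻¹ := by group
      _ = m * c * m⁻¹ * y := by rw [h2]; group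
  let Q : Subgroup K :=
    { carrier := {m | m ∈ M ∧ ∀ k, ∃ s, s ∈ M ∧ s ∈ H ∧ s⁻¹ * m ∈ C k}
      one_mem' := ⟨one_mem M, fun k => ⟨1, one_mem M, one_mem H, by simp⟩⟩
      mul_mem' := by
        rintro m₁ m₂ ⟨hm₁, h₁⟩ ⟨hm₂, h₂⟩
        refine ⟨mul_mem hm₁ hm₂, fun k => ?_⟩
        obtain ⟨s₁, hs₁, hs₁', hc₁⟩ := h₁ k
        obtain ⟨s₂, hs₂, hs₂', hc₂⟩ := h₂ k
        refine ⟨s₁ * s₂, mul_mem hs₁ hs₂, mul_mem hs₁' hs₂', ?_⟩
        rw [show (s₁ * s₂)⁻¹ * (m₁ * m₂) = s₂⁻¹ * (s₁⁻¹ * m₁) * s₂⁻¹⁻¹ * (s₂⁻¹ * m₂) by group]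
        exact mul_mem (hCn k _ _ (inv_mem hs₂) hc₁) hc₂
      inv_mem' := by
        rintro m ⟨hm, h₁⟩
        refine ⟨inv_mem hm, fun k => ?_⟩
        obtain ⟨s, hs, hs', hc⟩ := h₁ k
        refine ⟨s⁻¹, inv_mem hs, inv_mem hs', ?_⟩
        rw [show s⁻¹⁻¹ * m⁻¹ = s * (s⁻¹ * m)⁻¹ * s⁻¹ by group]
        exact hCn k s _ hs (inv_mem hc) }
  have haQ : a ∈ Q := by
    refine ⟨hTM ha, fun k => ?_⟩
    by_cases hk : T.map (MulAut.conj k).toMonoidHom = T
    · refine ⟨a * b, mul_mem (hTM ha) hbM, hab, ?_⟩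
      rw [show (a * b)⁻¹ * a = b⁻¹ by group]
      show b⁻¹ ∈ centralizer _
      rw [hk]; exact inv_mem hb
    · exact ⟨1, one_mem M, one_mem H, by rw [inv_one, one_mul]; exact hdisj k hk ha⟩
  have hHQ : H ≤ normalizer (Q : Set K) := by
    have key : ∀ g ∈ H, ∀ m ∈ Q, g * m * g⁻¹ ∈ Q := by
      rintro g hg m ⟨hm, h₁⟩
      refine ⟨(inferInstance : M.Normal).conj_mem m hm g, fun k => ?_⟩
      obtain ⟨s, hs, hs', hc⟩ := h₁ (g⁻¹ * k)
      refine ⟨g * s * g⁻¹, (inferInstance : M.Normal).conj_mem s hs g,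
        mul_mem (mul_mem hg hs') (inv_mem hg), ?_⟩
      have h2 : (MulAut.conj g).toMonoidHom (s⁻¹ * m) ∈
          (C (g⁻¹ * k)).map (MulAut.conj g).toMonoidHom := ⟨_, hc, rfl⟩
      simp only [hC] at h2 ⊢
      rw [ConjFun.conjMap_centralizer, ← ConjFun.conjMap_mul, mul_inv_cancel_left] at h2
      simpa [mul_assoc] using h2
    intro g hg
    refine mem_normalizer_iff.2 fun m => ⟨key g hg m, fun hm => ?_⟩
    simpa [mul_assoc] using key g⁻¹ (inv_mem hg) _ hm
  rcases eq_or_lt_of_le (le_sup_right : H ≤ Q ⊔ H) with he | hlt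
  · exact (he.ge.trans' le_sup_left haQ : a ∈ H)
  · exfalso
    have htop := (h.max u hu).2 _ hlt
    have hQM : M ≤ Q := by
      intro m hm
      have hm' : m ∈ Q ⊔ H := htop.symm ▸ mem_top m
      rw [← SetLike.mem_coe, coe_mul_of_right_le_normalizer_left Q H hHQ] at hm'
      obtain ⟨q, hq, g, hg, rfl⟩ := Set.mem_mul.1 hm'
      have hgM : g ∈ M := (mul_mem_cancel_left hq.1).1 hm
      exact mul_mem hq ⟨hgM, fun k => ⟨g, hgM, hg, by simp⟩⟩
    have hX : T ⊓ H = T := by
      refine hmT _ inf_le_left ((Subgroup.ne_bot_iff_exists_ne_one).2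
        ⟨⟨x, hx, hxu⟩, fun he => hx1 (congrArg Subtype.val he)⟩) fun m hm => ?_
      obtain ⟨s, hsM, hsH, hc⟩ := (hQM hm).2 1
      have hc' : s⁻¹ * m ∈ centralizer (T : Set K) := by
        have h5 := hc
        simp only [hC] at h5
        rwa [ConjFun.conjMap_one] at h5
      rw [show m = s * (s⁻¹ * m) by group]
      refine mul_mem (inf_normalizer_le_normalizer_inf ⟨hTn hsM, le_normalizer hsH⟩)
        (centralizer_le_normalizer _ (centralizer_le (SetLike.coe_subset_coe.2 inf_le_left) hc'))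
    exact hu (eq_one_of_conj_le h hmin hTM hT hTn 1 (by
      rw [ConjFun.conjMap_one]; exact inf_eq_left.1 hX))

/-- The normaliser of a nontrivial subgroup of `T_v` fixes `v`. -/
theorem normalizer_le_stabilizer (h : Hyp K A) (hexp : ∀ a : A, a ^ 2 = 1) [M.Normal]
    (hmin : ∀ N : Subgroup K, N.Normal → N ≤ M → N ≠ ⊥ → N = M) (hTM : T ≤ M) (hT : T ≠ ⊥)
    (hTn : M ≤ normalizer (T : Set K))
    (hmT : ∀ N : Subgroup K, N ≤ T → N ≠ ⊥ → M ≤ normalizer (N : Set K) → N = T)
    (hdisj : ∀ k : K, T.map (MulAut.conj k).toMonoidHom ≠ T →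
      T ≤ centralizer (T.map (MulAut.conj k).toMonoidHom : Set K))
    {g : K} (hg : T.map (MulAut.conj g).toMonoidHom ≠ T) {v : A} (hv : v ≠ 1) {X : Subgroup K}
    (hXT : X ≤ T) (hXv : X ≤ stabilizer K v) (hX : X ≠ ⊥) :
    T ⊓ normalizer (X : Set K) ≤ stabilizer K v := by
  set T' := T.map (MulAut.conj g).toMonoidHom with hT'
  suffices main : ∀ n : ℕ, ∀ a : K, a ∈ T ⊓ normalizer (X : Set K) → orderOf a = n → a • v = v from
    fun a ha => main _ a ha rfl
  intro n
  induction n using Nat.strong_induction_on with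
  | _ n IH =>
    intro a ha hn
    obtain ⟨haT, haN⟩ := mem_inf.1 ha
    rcases eq_or_ne a 1 with rfl | ha1
    · exact one_smul K v
    obtain ⟨q, hq, hqn⟩ := Nat.exists_prime_and_dvd (mt orderOf_eq_one_iff.1 ha1)
    haveI : Fact q.Prime := ⟨hq⟩
    have haq : a ^ q • v = v := by
      refine IH _ ?_ _ (pow_mem (mem_inf.2 ⟨haT, haN⟩) q) rfl
      rw [orderOf_pow' a hq.ne_zero, Nat.gcd_eq_right hqn, ← hn]
      exact Nat.div_lt_self (orderOf_pos a) hq.one_lt
    set z := a • v * v with hz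
    -- elements of order dividing `q` in `T'` fix `z`
    have key : ∀ b ∈ T', b ^ q = 1 → b • z = z := by
      intro b hb hbq
      have hbT : b ∈ centralizer (T : Set K) := mem_centralizer_iff.2 fun t ht =>
        (mem_centralizer_iff.1 (hdisj g hg ht) b hb).symm
      have hcomm : ∀ t ∈ T, ∀ e ∈ T', Commute t e := fun t ht e he =>
        (mem_centralizer_iff.1 (hdisj g hg ht) e he).symm
      -- a product fixed by `a * e` and by `X` is fixed by `e`
      have fixed : ∀ (u : A) (e : K), e ∈ T' → (∀ x ∈ X, x • u = u) → (a * e) • u = u →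
          e • u = u := by
        intro u e he hxu heu
        rcases eq_or_ne u 1 with rfl | hu1
        · exact smul_one e
        obtain ⟨⟨x, hx⟩, hx1⟩ := Subgroup.ne_bot_iff_exists_ne_one.1 hX
        have h1 := smul_eq_of_mul h hmin hTM hT hTn hmT hdisj hu1 haT (conj_le hTM g he)
          (mem_centralizer_iff.2 fun t ht => (hcomm t ht e he).eq) (hXT hx)
          (fun he1 => hx1 (Subtype.ext he1)) (hxu x hx) heu
        rw [(hcomm a haT e he).eq, mul_smul, h1] at heu
        exact heu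
      have hXa : ∀ (i : ℕ) (e : K), e ∈ T' → ∀ x ∈ X, x • e • a ^ i • v = e • a ^ i • v := by
        intro i e he x hx
        have h1 : (a ^ i)⁻¹ * x * a ^ i ∈ X := by
          simpa using (mem_normalizer_iff.1 (inv_mem (pow_mem haN i)) x).1 hx
        calc x • e • a ^ i • v = e • a ^ i • ((a ^ i)⁻¹ * x * a ^ i) • v := by
              simp only [smul_smul]
              rw [← mul_assoc x e, (hcomm x (hXT hx) e he).eq]
              group
          _ = e • a ^ i • v := by rw [mem_stabilizer_iff.1 (hXv h1)]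
      rcases eq_or_ne q 2 with rfl | hq2
      · have hu1 : ∀ x ∈ X, x • (v * b • a • v) = v * b • a • v := fun x hx => by
          rw [smul_mul', hXv hx]
          have := hXa 1 b hb x hx
          rw [pow_one] at this
          rw [this]
        have hfix := fixed _ b hb hu1 (by
          have e1 : a * b = b * a := (hcomm a haT b hb).eq
          have e2 : a * b * b * a = a ^ 2 := by
            rw [mul_assoc a b b, ← pow_two b, hbq, mul_one, pow_two]
          rw [smul_mul', smul_smul, smul_smul, e2, haq, e1, ← smul_smul, mul_comm])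
        rw [smul_mul', ← mul_smul, ← pow_two, hbq, one_smul] at hfix
        -- `b v * a v = v * b a v`
        rw [hz, smul_mul']
        calc b • a • v * b • v = v * b • a • v * (v * b • v) := by
              rw [mul_mul_mul_comm, mul_self_eq_one hexp, one_mul]
          _ = b • v * a • v * (v * b • v) := by rw [hfix]
          _ = a • v * v := by
              rw [mul_comm (b • v) (a • v), mul_mul_mul_comm, mul_self_eq_one hexp, mul_one]
      · set B : ZMod q → K := fun i => b ^ i.val with hB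
        set w : ZMod q → A := fun i => a ^ i.val • v with hw
        have hBadd : ∀ i j, B (i + j) = B i * B j := fun i j => by
          simp only [hB, ZMod.val_add, ← pow_add]
          exact (pow_eq_pow_mod _ hbq).symm
        have hBmem : ∀ i, B i ∈ T' := fun i => pow_mem hb _
        set N : A → A := fun c => ∏ j : ZMod q, B j • c with hNdef
        have hNb : ∀ c, b • N c = N c := by
          intro c
          simp only [hNdef, Finset.smul_prod']
          refine Fintype.prod_equiv (Equiv.addRight 1) _ _ fun j => ?_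
          rw [smul_smul, Equiv.coe_addRight, hBadd,
            show B 1 = b by simp [hB, ZMod.val_one]]
          rw [show b * B j = B j * b from ((Commute.refl b).pow_right _).eq]
        set u : ZMod q → A := fun j => ∏ i : ZMod q, B (i * j) • w i with hu
        have hshift : ∀ i, a • w i = w (i + 1) := fun i => by
          simp only [hw, smul_smul, ← pow_succ', ZMod.val_add, ZMod.val_one]
          conv_lhs => rw [← Nat.mod_add_div (i.val + 1) q, pow_add, pow_mul, mul_smul]
          have : ∀ m : ℕ, (a ^ q) ^ m • v = v := fun m =>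
            (stabilizer K v).pow_mem (show a ^ q ∈ stabilizer K v from haq) m
          rw [this]
        have hufix : ∀ j, B j • u j = u j := fun j => by
          refine fixed (u j) (B j) (hBmem j) (fun x hx => ?_) ?_
          · simp only [hu, Finset.smul_prod']
            exact Finset.prod_congr rfl fun i _ => hXa i.val _ (hBmem _) x hx
          · simp only [hu, Finset.smul_prod']
            refine Fintype.prod_equiv (Equiv.addRight 1) _ _ fun i => ?_
            rw [Equiv.coe_addRight, ← hshift, smul_smul, smul_smul, add_mul, one_mul, add_comm (i * j) j,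
              hBadd]
            simp only [hw, smul_smul]
            rw [mul_assoc a (B j) (B (i * j)), (hcomm a haT _ (mul_mem (hBmem j) (hBmem (i * j)))).eq,
              mul_assoc _ a]
        have hBfix : ∀ k j : ZMod q, B (k * j) • u j = u j := fun k j => by
          have h2 : B (k * j) = B j ^ k.val := by
            simp only [hB, ← pow_mul, ZMod.val_mul]
            rw [mul_comm k.val]; exact (pow_eq_pow_mod _ hbq).symm
          rw [h2]
          exact (stabilizer K (u j)).pow_mem (hufix j) _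
        have hQ : ∀ k, (∏ j, u j) * N (w k) = w k * ∏ i, N (w i) := by
          intro k
          have e1 : ∏ j, u j = ∏ i : ZMod q, ∏ j : ZMod q, B ((i - k) * j) • w i := by
            conv_rhs => rw [Finset.prod_comm]
            refine Finset.prod_congr rfl fun j _ => ?_
            conv_lhs => rw [← hBfix (-k) j]
            simp only [hu, Finset.smul_prod', smul_smul, ← hBadd]
            refine Finset.prod_congr rfl fun i _ => ?_
            congr 2; ring
          rw [e1, ← Finset.mul_prod_erase _ _ (Finset.mem_univ k),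
            ← Finset.mul_prod_erase _ (fun i => N (w i)) (Finset.mem_univ k)]
          have e2 : ∏ j : ZMod q, B ((k - k) * j) • w k = w k := by
            simp only [sub_self, zero_mul, show B 0 = 1 by simp [hB], one_smul, Finset.prod_const,
              Finset.card_univ, ZMod.card]
            rw [pow_eq_pow_mod q (hexp (w k)), Nat.odd_iff.1 (hq.odd_of_ne_two hq2), pow_one]
          have e3 : ∏ i ∈ Finset.univ.erase k, ∏ j : ZMod q, B ((i - k) * j) • w i =
              ∏ i ∈ Finset.univ.erase k, N (w i) :=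
            Finset.prod_congr rfl fun i hi =>
              Fintype.prod_equiv (Equiv.mulLeft₀ (i - k) (sub_ne_zero.2 (Finset.ne_of_mem_erase hi)))
                _ _ fun j => by rw [Equiv.mulLeft₀_apply]
          rw [e2, e3, mul_assoc, mul_comm (∏ i ∈ _, N (w i))]
        have hw0 : w 0 = v := by simp [hw]
        have hw1 : w 1 = a • v := by simp [hw, ZMod.val_one]
        have hzN : z = N (w 1) * N (w 0) := by
          have h1 := hQ 1
          have h0 := hQ 0
          rw [hz, ← hw1, ← hw0]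
          calc w 1 * w 0 = (w 1 * ∏ i, N (w i)) * (w 0 * ∏ i, N (w i)) := by
                rw [mul_mul_mul_comm, mul_self_eq_one hexp, mul_one]
            _ = N (w 1) * N (w 0) := by
                rw [← h1, ← h0, mul_mul_mul_comm, mul_self_eq_one hexp, one_mul]
        rw [hzN, smul_mul', hNb, hNb]
    -- such elements generate `T'`
    let Wz : Subgroup K :=
      Subgroup.closure {b | b ∈ T' ∧ b ^ q = 1}
    have hWle : Wz ≤ stabilizer K z := (closure_le _).2 fun b hb => key b hb.1 hb.2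
    have hzT : T' ≤ stabilizer K z := by
      refine le_trans (le_of_eq ?_) hWle
      have hWT : Wz ≤ T' := (closure_le _).2 fun b hb => hb.1
      have hT'n : ∀ m ∈ M, ∀ b ∈ T', m * b * m⁻¹ ∈ T' := by
        rintro m hm _ ⟨t, ht, rfl⟩
        refine ⟨g⁻¹ * m * g * t * (g⁻¹ * m * g)⁻¹, (mem_normalizer_iff.1 (hTn ?_) t).1 ht,
          by simp [mul_assoc]⟩
        simpa using (inferInstance : M.Normal).conj_mem m hm g⁻¹
      have hWn : ∀ m ∈ M, Wz ≤ Wz.comap (MulAut.conj m).toMonoidHom := fun m hm =>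
        (closure_le _).2 fun b hb => subset_closure ⟨hT'n m hm b hb.1, by
          show (m * b * m⁻¹) ^ q = 1
          rw [conj_pow, hb.2, mul_one, mul_inv_cancel]⟩
      -- pull back to `T`
      have hb0 : ∃ t ∈ T, t ^ q = 1 ∧ t ≠ 1 := by
        refine ⟨a ^ (orderOf a / q), pow_mem haT _, ?_, ?_⟩
        · rw [← pow_mul, Nat.div_mul_cancel hqn, pow_orderOf_eq_one]
        · exact pow_ne_one_of_lt_orderOf
            (Nat.div_pos (Nat.le_of_dvd (orderOf_pos a) hqn) hq.pos).ne'
            (Nat.div_lt_self (orderOf_pos a) hq.one_lt)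
      have hpre : (Wz.comap (MulAut.conj g).toMonoidHom) = T := by
        refine hmT _ ?_ ?_ ?_
        · intro t ht
          obtain ⟨t', ht', e⟩ := hWT ht
          rwa [← (MulAut.conj g).injective e]
        · obtain ⟨t, ht, htq, ht1⟩ := hb0
          refine (Subgroup.ne_bot_iff_exists_ne_one).2 ⟨⟨t, ?_⟩, fun he => ht1 (congrArg Subtype.val he)⟩
          exact subset_closure ⟨⟨t, ht, rfl⟩, by
            show (g * t * g⁻¹) ^ q = 1
            rw [conj_pow, htq, mul_one, mul_inv_cancel]⟩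
        · intro m hm
          refine mem_normalizer_iff.2 fun t => ?_
          have hgm : g * m * g⁻¹ ∈ M := (inferInstance : M.Normal).conj_mem m hm g
          constructor
          · intro ht
            have := hWn _ hgm ht
            simpa [mul_assoc] using this
          · intro ht
            have := hWn _ (inv_mem hgm) ht
            simpa [mul_assoc] using this
      rw [hT', ← hpre, map_comap_eq_self_of_surjective (MulAut.conj g).surjective]
    have hz1 := eq_one_of_conj_le h hmin hTM hT hTn g hzT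
    rw [hz, ← mul_self_eq_one hexp v] at hz1
    exact mul_right_cancel hz1

end NotSimple

/-- The core: `p = 2` and almost simple. -/
theorem almostSimple (hFT : OddOrder.{u}) (h : Hyp K A) [Nontrivial A]
    (hexp : ∀ a : A, a ^ 2 = 1) (hK : ¬ Group.IsSolvable K) :
    ∃ T : Subgroup K, T.Normal ∧ IsSimpleGroup T ∧ ¬ IsMulCommutative T ∧
      centralizer (T : Set K) = ⊥ := by
  classical
  haveI : Fact (Nat.Prime 2) := ⟨Nat.prime_two⟩
  haveI : Nontrivial K := not_subsingleton_iff_nontrivial.1 fun hs =>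
    hK (Group.isSolvable_of_comm fun a b => Subsingleton.elim _ _)
  obtain ⟨M, ⟨hMn, hMne⟩, hMmin⟩ := Set.Finite.exists_minimal
    (s := {N : Subgroup K | N.Normal ∧ N ≠ ⊥}) (Set.toFinite _)
    ⟨⊤, inferInstance, top_ne_bot⟩
  haveI := hMn
  have hmin : ∀ N : Subgroup K, N.Normal → N ≤ M → N ≠ ⊥ → N = M := fun N h1 h2 h3 =>
    le_antisymm h2 (hMmin ⟨h1, h3⟩ h2)
  have hnab : ¬ ∀ a ∈ M, ∀ b ∈ M, a * b = b * a := fun hab =>
    hK (isSolvable_of_comm_minimal h hexp hMne hmin hab)
  have hMinv : ∀ N : Subgroup K, N ≠ ⊥ → N ≤ M → ¬ (∀ a ∈ N, ∀ b ∈ N, a * b = b * a) →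
      M ≤ normalizer (N : Set K) → (∀ L : Subgroup K, L ≤ N → L ≠ ⊥ → M ≤ normalizer (L : Set K) → L = N) →
      ¬ Group.IsSolvable ↥N := by
    intro N hN _ hna hNn hNmin hsol
    haveI := hsol
    haveI : Nontrivial ↥N := (nontrivial_iff_ne_bot N).2 hN
    have h1 : ⁅N, N⁆ < N := by
      have h2 := (map_lt_map_iff_of_injective (f := N.subtype) N.subtype_injective).2
        (Group.IsSolvable.commutator_lt_top_of_nontrivial ↥N)
      rwa [map_subtype_commutator, ← MonoidHom.range_eq_map, range_subtype] at h2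
    rcases eq_or_ne ⁅N, N⁆ ⊥ with h2 | h2
    · exact hna fun a ha b hb => commutatorElement_eq_one_iff_mul_comm.1 (by
        simpa [h2] using commutator_mem_commutator ha hb)
    · refine h1.ne (hNmin _ h1.le h2 fun m hm => ?_)
      rw [mem_normalizer_iff_map_conj_eq]
      show ⁅N, N⁆.map (MulAut.conj m).toMonoidHom = ⁅N, N⁆
      rw [map_commutator, ConjFun.conjMap_eq_self (hNn hm)]
  -- `T` minimal `M`-invariant in `M`
  obtain ⟨T, ⟨hTne, hTM, hTn⟩, hTmin⟩ := Set.Finite.exists_minimal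
    (s := {N : Subgroup K | N ≠ ⊥ ∧ N ≤ M ∧ M ≤ normalizer (N : Set K)}) (Set.toFinite _)
    ⟨M, hMne, le_rfl, le_normalizer⟩
  have hmT : ∀ N : Subgroup K, N ≤ T → N ≠ ⊥ → M ≤ normalizer (N : Set K) → N = T :=
    fun N h1 h2 h3 => le_antisymm h1 (hTmin ⟨h2, h1.trans hTM, h3⟩ h1)
  have hTk : ∀ k : K, M ≤ normalizer (T.map (MulAut.conj k).toMonoidHom : Set K) := by
    intro k m hm
    rw [← ConjFun.conjMap_normalizer]
    exact ⟨k⁻¹ * m * k, hTn (by simpa using hMn.conj_mem m hm k⁻¹), by simp [mul_assoc]⟩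
  have hdisj : ∀ k : K, T.map (MulAut.conj k).toMonoidHom ≠ T →
      T ≤ centralizer (T.map (MulAut.conj k).toMonoidHom : Set K) := by
    intro k hk
    set S := T.map (MulAut.conj k).toMonoidHom with hS
    have hbot : T ⊓ S = ⊥ := by
      by_contra hne
      have h1 := hmT _ inf_le_left hne fun m hm =>
        inf_normalizer_le_normalizer_inf ⟨hTn hm, hTk k hm⟩
      refine hk (Subgroup.eq_of_le_of_card_ge (inf_eq_left.1 h1) ?_).symm
      rw [hS, ConjFun.card_conjMap]
    intro t ht
    refine mem_centralizer_iff.2 fun s hs => ?_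
    have hc : t * s * t⁻¹ * s⁻¹ ∈ T ⊓ S := by
      refine ⟨?_, ?_⟩
      · rw [show t * s * t⁻¹ * s⁻¹ = t * (s * t⁻¹ * s⁻¹) by group]
        exact mul_mem ht ((mem_normalizer_iff.1 (hTn (conj_le hTM k hs)) t⁻¹).1 (inv_mem ht))
      · show t * s * t⁻¹ * s⁻¹ ∈ S
        exact mul_mem ((mem_normalizer_iff.1 (hTk k (hTM ht)) s).1 hs) (inv_mem (show s ∈ S from hs))
    rw [hbot, mem_bot, mul_inv_eq_one, mul_inv_eq_iff_eq_mul] at hc
    exact hc.symm
  have hcl := normalClosure_eq hmin hTM hTne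
  have hTna : ¬ ∀ a ∈ T, ∀ b ∈ T, a * b = b * a := by
    intro hab
    refine hnab ?_
    have hc : Group.conjugatesOfSet (T : Set K) ⊆
        centralizer (Group.conjugatesOfSet (T : Set K)) := by
      intro x hx
      refine mem_centralizer_iff.2 fun y hy => ?_
      obtain ⟨s, hs, hsx⟩ := Group.mem_conjugatesOfSet_iff.1 hx
      obtain ⟨k, rfl⟩ := isConj_iff.1 hsx
      obtain ⟨t, ht, hty⟩ := Group.mem_conjugatesOfSet_iff.1 hy
      obtain ⟨l, rfl⟩ := isConj_iff.1 hty
      have key : s * (k⁻¹ * l * t * (k⁻¹ * l)⁻¹) = k⁻¹ * l * t * (k⁻¹ * l)⁻¹ * s := by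
        by_cases hkl : T.map (MulAut.conj (k⁻¹ * l)).toMonoidHom = T
        · exact hab s hs _ (hkl ▸ ⟨t, ht, rfl⟩)
        · exact (mem_centralizer_iff.1 (hdisj _ hkl hs) _ ⟨t, ht, rfl⟩).symm
      calc l * t * l⁻¹ * (k * s * k⁻¹) = k * (k⁻¹ * l * t * (k⁻¹ * l)⁻¹ * s) * k⁻¹ := by group
        _ = k * s * k⁻¹ * (l * t * l⁻¹) := by rw [← key]; group
    have h2 : ∀ x ∈ closure (Group.conjugatesOfSet (T : Set K)), ∀ y ∈ Group.conjugatesOfSet (T : Set K),
        y * x = x * y := fun x hx y hy =>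
      mem_centralizer_iff.1 ((closure_le (centralizer (Group.conjugatesOfSet (T : Set K)))).2 hc hx) y hy
    intro a ha b hb
    rw [← hcl] at ha hb
    refine closure_induction (fun y hy => (h2 a ha y hy).symm) (by simp) (fun x y _ _ hx hy => ?_)
      (fun x _ hx => ?_) hb
    · rw [← mul_assoc, hx, mul_assoc, hy, ← mul_assoc]
    · exact (Commute.inv_right (show Commute a x from hx)).eq
  have hTsol := hMinv T hTne hTM hTna hTn hmT
  obtain ⟨y', hy'⟩ := exists_prime_orderOf_dvd_card' (G := ↥T) 2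
    (even_iff_two_dvd.1 (Nat.not_odd_iff_even.1 fun ho => hTsol (hFT T ho)))
  obtain ⟨v, hv, hyv⟩ := exists_fixed (A := A) hexp (y := (y' : K)) (by
    rw [← Subgroup.coe_mul, ← pow_two, ← hy', pow_orderOf_eq_one, coe_one])
  have hy1 : (y' : K) ≠ 1 := fun he => by
    rw [← Subgroup.orderOf_coe, he, orderOf_one] at hy'; norm_num at hy'
  -- the centraliser of `M` is trivial
  have hCM : centralizer (M : Set K) = ⊥ := by
    by_contra hne
    have := eq_bot_of_normalized h hne hv (X := M ⊓ stabilizer K v) inf_le_right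
      (fun c hc => centralizer_le_normalizer _
        (centralizer_le (SetLike.coe_subset_coe.2 inf_le_left) hc))
      (fun x hx => inf_normalizer_le_normalizer_inf
        ⟨mem_normalizer_normal M x, le_normalizer hx⟩)
    exact hy1 (mem_bot.1 (this ▸ (⟨hTM y'.2, hyv⟩ : (y' : K) ∈ M ⊓ stabilizer K v)))
  -- `T` is simple
  haveI hsimple : IsSimpleGroup ↥T := by
    haveI : Nontrivial ↥T := (nontrivial_iff_ne_bot T).2 hTne
    refine ⟨fun Z hZ => ?_⟩
    set Z' := Z.map T.subtype with hZ'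
    have hZT : Z' ≤ T := map_subtype_le _
    rcases eq_or_ne Z' ⊥ with h1 | h1
    · exact Or.inl ((map_eq_bot_iff_of_injective _ T.subtype_injective).1 h1)
    · refine Or.inr ?_
      have h2 : M ≤ normalizer (Z' : Set K) := by
        rw [← hcl, normalClosure, closure_le]
        intro x hx
        obtain ⟨t, ht, htx⟩ := Group.mem_conjugatesOfSet_iff.1 hx
        obtain ⟨k, rfl⟩ := isConj_iff.1 htx
        by_cases hk : T.map (MulAut.conj k).toMonoidHom = T
        · have h3 : k * t * k⁻¹ ∈ T := hk ▸ ⟨t, ht, rfl⟩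
          exact (le_normalizer_map T.subtype)
            ⟨⟨_, h3⟩, (normalizer_eq_top_iff.2 hZ).symm ▸ mem_top _, rfl⟩
        · refine centralizer_le_normalizer _ (mem_centralizer_iff.2 fun z hz => ?_)
          exact (mem_centralizer_iff.1 (hdisj k hk (hZT hz)) _ ⟨t, ht, rfl⟩).symm
      have h4 := hmT Z' hZT h1 h2
      rw [eq_top_iff]
      intro z _
      obtain ⟨z₀, hz₀, e⟩ := (h4.symm ▸ z.2 : (z : K) ∈ Z')
      rwa [← T.subtype_injective e]
  by_cases hTK : ∀ k : K, T.map (MulAut.conj k).toMonoidHom = T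
  · haveI : T.Normal := normalizer_eq_top_iff.1 (eq_top_iff.2 fun k _ => by
      rw [mem_normalizer_iff_map_conj_eq]; exact hTK k)
    obtain rfl := hmin T inferInstance hTM hTne
    exact ⟨T, inferInstance, hsimple, fun hc => hTna fun a ha b hb =>
      congrArg Subtype.val (mul_comm' (⟨a, ha⟩ : ↥T) ⟨b, hb⟩), hCM⟩
  obtain ⟨g, hg⟩ := not_forall.1 hTK
  exfalso
  refine false_of_normalizer_le (T := ↥T) hTsol (R := (stabilizer K v).subgroupOf T) ?_
    (z := y') (mem_subgroupOf.2 hyv) hy' ?_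
  · intro htop
    exact hv (eq_one_of_conj_le h hmin hTM hTne hTn 1 (by
      rw [ConjFun.conjMap_one]; exact subgroupOf_eq_top.1 htop))
  · intro X hX hX1 x hx
    refine mem_subgroupOf.2 (normalizer_le_stabilizer h hexp hmin hTM hTne hTn hmT hdisj hg hv
      (X := X.map T.subtype) (map_subtype_le _) ?_ ?_ ⟨x.2, le_normalizer_map T.subtype ⟨x, hx, rfl⟩⟩)
    · rintro _ ⟨z, hz, rfl⟩; exact mem_subgroupOf.1 (hX hz)
    · exact fun he => hX1 ((map_eq_bot_iff_of_injective _ T.subtype_injective).1 he)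

end Module

section Affine

/-- Conjugation on a normal subgroup. -/
noncomputable def conjHom {G : Type u} [Group G] (N : Subgroup G) [N.Normal] (H : Subgroup G) :
    ↥H →* MulAut ↥N :=
  MulAut.conjNormal.comp H.subtype

/-- **Insoluble extremely primitive affine groups.** -/
theorem affine (hFT : OddOrder.{u}) {G : Type u} [Group G] [Finite G] {Ω : Type v} [Fintype Ω]
    [MulAction G Ω] [FaithfulSMul G Ω] (p d : ℕ) (hp : p.Prime) (hcard : Fintype.card Ω = p ^ d)
    (hsol : ¬ Group.IsSolvable G) (N : Subgroup G) [N.Normal] (hN : N ≠ ⊥)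
    (hNc : IsMulCommutative N) (hNreg : ∀ ω : Ω, stabilizer N ω = ⊥)
    (hprim : IsPreprimitive G Ω)
    (hep : ∀ (α : Ω) (ω : Ω), IsPreprimitive (stabilizer G α) (orbit (stabilizer G α) ω)) (α : Ω) :
    p = 2 ∧ ∃ T : Subgroup (stabilizer G α), T.Normal ∧ IsSimpleGroup T ∧ ¬ IsMulCommutative T ∧
      centralizer (T : Set (stabilizer G α)) = ⊥ := by
  classical
  set H := stabilizer G α with hH
  have hNfix : fixedPoints ↥N Ω ≠ Set.univ := fun he => hN ((eq_bot_iff_forall N).2 fun n hn =>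
    eq_of_smul_eq_smul (α := Ω) fun ω => by
      rw [one_smul]
      exact (he ▸ Set.mem_univ ω : ω ∈ fixedPoints ↥N Ω) ⟨n, hn⟩)
  haveI : IsPretransitive ↥N Ω := IsQuasiPreprimitive.isPretransitive_of_normal hNfix
  have hinj : ∀ n : G, n ∈ N → n • α = α → n = 1 := fun n hn he => by
    have h1 : (⟨n, hn⟩ : ↥N) ∈ stabilizer (↥N) α := he
    rw [hNreg α, mem_bot] at h1
    exact congrArg Subtype.val h1
  have hcomm : ∀ a b : ↥N, a * b = b * a := mul_comm'
  letI : CommGroup ↥N := { (inferInstance : Group ↥N) with mul_comm := hcomm }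
  letI act : MulDistribMulAction ↥H ↥N :=
    MulDistribMulAction.compHom (↥N) (conjHom N H)
  have hsmul : ∀ (k : ↥H) (a : ↥N), ((k • a : ↥N) : G) = (k : G) * a * (k : G)⁻¹ := fun _ _ => rfl
  -- conjugation is the action on points
  have hpt : ∀ (k : ↥H) (a : ↥N), ((k • a : ↥N) : G) • α = (k : G) • ((a : G) • α) := fun k a => by
    rw [hsmul, mul_smul, mul_smul, inv_smul_eq_iff.2 (mem_stabilizer_iff.1 k.2).symm]
  have hinjN : ∀ a b : ↥N, (a : G) • α = (b : G) • α → a = b := fun a b he => by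
    have := hinj ((b : G)⁻¹ * a) (mul_mem (inv_mem b.2) a.2) (by rw [mul_smul, he, inv_smul_smul])
    exact Subtype.ext (inv_mul_eq_one.1 this).symm
  haveI : FaithfulSMul ↥H ↥N := ⟨fun {k l} he => Subtype.ext (eq_of_smul_eq_smul (α := Ω) fun ω => by
    obtain ⟨a, rfl⟩ := exists_smul_eq ↥N α ω
    show (k : G) • ((a : G) • α) = (l : G) • ((a : G) • α)
    rw [← hpt, ← hpt, he])⟩
  haveI : Nontrivial ↥N := (nontrivial_iff_ne_bot N).2 hN
  haveI : Nontrivial Ω := by
    obtain ⟨a, ha⟩ := exists_ne (1 : ↥N)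
    exact ⟨⟨(a : G) • α, α, fun he => ha (Subtype.ext (hinj a a.2 he))⟩⟩
  have hcoat : IsCoatom H := (isCoatom_stabilizer_iff_preprimitive (G := G) α).2 hprim
  have hirr : ∀ W : Subgroup ↥N, (∀ (k : ↥H), ∀ a ∈ W, k • a ∈ W) → W = ⊥ ∨ W = ⊤ := by
    intro W hW
    set W' := W.map N.subtype with hW'
    have key : ∀ g ∈ H, ∀ x ∈ W', g * x * g⁻¹ ∈ W' := by
      rintro g hg _ ⟨a, ha, rfl⟩
      exact ⟨(⟨g, hg⟩ : ↥H) • a, hW _ a ha, hsmul _ _⟩
    have hHW : H ≤ normalizer (W' : Set G) := fun g hg => mem_normalizer_iff.2 fun x =>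
      ⟨key g hg x, fun hx => by simpa [mul_assoc] using key g⁻¹ (inv_mem hg) _ hx⟩
    rcases eq_or_lt_of_le (le_sup_right : H ≤ W' ⊔ H) with he | hlt
    · refine Or.inl ((eq_bot_iff_forall W).2 fun a ha => Subtype.ext ?_)
      exact hinj a a.2 (he.ge.trans' le_sup_left (mem_map_of_mem N.subtype ha) : (a : G) ∈ H)
    · refine Or.inr (eq_top_iff.2 fun a _ => ?_)
      have hm : (a : G) ∈ W' ⊔ H := (hcoat.2 _ hlt).symm ▸ mem_top _
      rw [← SetLike.mem_coe, coe_mul_of_right_le_normalizer_left W' H hHW] at hm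
      obtain ⟨w, hw, g, hg, hwg⟩ := Set.mem_mul.1 hm
      obtain ⟨b, hb, rfl⟩ := hw
      have : a = b := hinjN a b (by
        rw [← hwg, mul_smul, mem_stabilizer_iff.1 hg]; rfl)
      rwa [this]
  have hfix : ∀ a : ↥N, (∀ k : ↥H, k • a = a) → a = 1 ∨ ∀ k : ↥H, ∀ b : ↥N, k • b = b := by
    intro a ha
    let W : Subgroup ↥N :=
      { carrier := {b | ∀ k : ↥H, k • b = b}
        one_mem' := fun k => smul_one k
        mul_mem' := fun hb hc k => by rw [smul_mul', hb k, hc k]
        inv_mem' := fun hb k => by rw [smul_inv', hb k] }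
    rcases hirr W (fun k b hb l => by rw [hb k]; exact hb l) with hW | hW
    · exact Or.inl (mem_bot.1 (hW ▸ (ha : a ∈ W)))
    · exact Or.inr fun k b => (hW ▸ mem_top b : b ∈ W) k
  have hHsol : ¬ Group.IsSolvable ↥H := by
    intro hs
    apply hsol
    haveI := hs
    haveI : Group.IsSolvable ↥N := Group.isSolvable_of_comm hcomm
    haveI : Group.IsSolvable (G ⧸ N) := by
      refine Group.isSolvable_of_surjective (f := (QuotientGroup.mk' N).comp H.subtype) ?_
      intro x
      obtain ⟨g, rfl⟩ := QuotientGroup.mk'_surjective N x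
      obtain ⟨a, ha⟩ := exists_smul_eq ↥N α (g • α)
      refine ⟨⟨(a : G)⁻¹ * g, ?_⟩, ?_⟩
      · show ((a : G)⁻¹ * g) • α = α
        rw [mul_smul, ← ha]; exact inv_smul_smul (a : G) α
      · show QuotientGroup.mk' N ((a : G)⁻¹ * g) = QuotientGroup.mk' N g
        rw [map_mul, map_inv, show QuotientGroup.mk' N (a : G) = 1 from
          (QuotientGroup.eq_one_iff _).2 a.2, inv_one, one_mul]
    exact Group.isSolvable_of_ker_le_range N.subtype (QuotientGroup.mk' N) (by simp)
  have hmax : ∀ a : ↥N, a ≠ 1 → IsCoatom (stabilizer ↥H a) := by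
    intro a ha
    set ω : orbit ↥H ((a : G) • α) := ⟨(a : G) • α, mem_orbit_self _⟩ with hω
    haveI := hep α ((a : G) • α)
    have hst : stabilizer ↥H a = stabilizer ↥H ω := by
      ext k
      simp only [mem_stabilizer_iff]
      constructor
      · intro hk; refine Subtype.ext ?_
        show (k : G) • ((a : G) • α) = (a : G) • α
        rw [← hpt, hk]
      · intro hk; refine hinjN _ _ ?_
        rw [hpt]; exact congrArg Subtype.val hk
    haveI : Nontrivial (orbit ↥H ((a : G) • α)) := by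
      by_contra hn
      rw [not_nontrivial_iff_subsingleton] at hn
      rcases hfix a (fun k => mem_stabilizer_iff.1 (show k ∈ stabilizer ↥H a by
        rw [hst]; exact Subsingleton.elim _ _)) with h1 | h1
      · exact ha h1
      · exact hHsol (Group.isSolvable_of_comm fun k l => eq_of_smul_eq_smul (α := ↥N) fun b => by
          rw [h1, h1])
    rw [hst]
    exact (isCoatom_stabilizer_iff_preprimitive (G := ↥H) ω).2 inferInstance
  have hyp : Hyp ↥H ↥N := ⟨hirr, hmax⟩
  have hcardN : Nat.card ↥N = p ^ d := by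
    rw [← hcard, ← Nat.card_eq_fintype_card]
    refine Nat.card_eq_of_bijective (fun a : ↥N => (a : G) • α) ⟨fun a b => hinjN a b, fun ω => ?_⟩
    exact exists_smul_eq ↥N α ω
  have hexp : ∀ a : ↥N, a ^ p = 1 := by
    let P : Subgroup ↥N := (powMonoidHom p : ↥N →* ↥N).ker
    rcases hirr P (fun k b (hb : b ^ p = 1) => show (k • b) ^ p = 1 by
      rw [← smul_pow', hb, smul_one]) with hP | hP
    · exfalso
      haveI : Fact p.Prime := ⟨hp⟩
      have hpd : p ∣ Nat.card ↥N := by
        rcases d.eq_zero_or_pos with rfl | hd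
        · rw [pow_zero] at hcardN
          exact absurd hcardN (ne_of_gt Finite.one_lt_card)
        · rw [hcardN]; exact dvd_pow_self p hd.ne'
      obtain ⟨b, hb⟩ := exists_prime_orderOf_dvd_card' (G := ↥N) p hpd
      have h1 : b ∈ P := show b ^ p = 1 by rw [← hb, pow_orderOf_eq_one]
      rw [hP, mem_bot] at h1
      rw [h1, orderOf_one] at hb
      exact hp.ne_one hb.symm
    · exact fun a => (hP ▸ mem_top a : a ∈ P)
  obtain rfl : p = 2 := prime_eq_two hFT hyp hp hexp hHsol
  exact ⟨rfl, almostSimple hFT hyp hexp hHsol⟩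

end Affine

end Cfsg.Agent.FTConsumers.ExtremelyPrimitive
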