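import Cfsg.Agent.Lib.FTConsumers.Hyp
import Cfsg.Agent.Lib.Coprime.Action
import Cfsg.Agent.Lib.PComplement.GlaubermanThompson
import Cfsg.Agent.Lib.PComplement.FixedPointFree
import Cfsg.Agent.Lib.Replacement.Characteristic
import Cfsg.Agent.Lib.Solvable.Basic
import Cfsg.Agent.Lib.Fusion.InnerType
import Cfsg.Agent.Lib.Coprime.Sylow

/-!
# Coprime action with nilpotent maximal invariant subgroups, given the odd order theorem
-/

set_option autoImplicit false
set_option linter.style.haveILetI false

namespace Cfsg.Agent.FTConsumers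

open Subgroup

universe u v

/-- `H` is invariant. -/
def Inv {A G : Type*} [Group A] [Group G] (φ : A →* MulAut G) (H : Subgroup G) : Prop :=
  ∀ a, ∀ x ∈ H, φ a x ∈ H

section Elementary

variable {A : Type v} [Group A] {G : Type u} [Group G] (φ : A →* MulAut G)

theorem Inv.map_eq {H : Subgroup G} (h : Inv φ H) (a : A) : H.map (φ a).toMonoidHom = H := by
  refine le_antisymm ?_ fun x hx => ⟨(φ a)⁻¹ x, ?_, ?_⟩
  · rintro _ ⟨x, hx, rfl⟩
    exact h a x hx
  · have := h a⁻¹ x hx
    rwa [map_inv] at this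
  · exact MulAut.apply_inv_self _ _ _

theorem inv_of_map_eq {H : Subgroup G} (h : ∀ a, H.map (φ a).toMonoidHom = H) : Inv φ H :=
  fun a x hx => (h a) ▸ mem_map_of_mem (φ a).toMonoidHom hx

theorem Inv.normalizer {H : Subgroup G} (h : Inv φ H) : Inv φ (normalizer (H : Set G)) := by
  refine inv_of_map_eq φ fun a => ?_
  rw [map_equiv_normalizer_eq, h.map_eq φ a]

theorem Inv.of_characteristic (H : Subgroup G) [hH : H.Characteristic] : Inv φ H :=
  inv_of_map_eq φ fun a => characteristic_iff_map_eq.1 hH (φ a)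

theorem Inv.sup {H K : Subgroup G} (hH : Inv φ H) (hK : Inv φ K) : Inv φ (H ⊔ K) :=
  inv_of_map_eq φ fun a => by rw [Subgroup.map_sup, hH.map_eq φ, hK.map_eq φ]

theorem Inv.centerThompsonA {H : Subgroup G} (h : Inv φ H) :
    Inv φ (Cfsg.centerThompsonAOf H) := by
  refine inv_of_map_eq φ fun a => ?_
  rw [← Replacement.centerThompsonAOf_map_equiv, h.map_eq φ a]

/-- The action on a quotient by an invariant normal subgroup. -/
def quotAct (N : Subgroup G) [N.Normal] (hN : Inv φ N) : A →* MulAut (G ⧸ N) where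
  toFun a := QuotientGroup.congr N N (φ a) (hN.map_eq φ a)
  map_one' := by
    refine MulEquiv.ext fun x => ?_
    obtain ⟨x, rfl⟩ := QuotientGroup.mk'_surjective N x
    simp
  map_mul' a b := by
    refine MulEquiv.ext fun x => ?_
    obtain ⟨x, rfl⟩ := QuotientGroup.mk'_surjective N x
    simp
    rfl

theorem quotAct_mk (N : Subgroup G) [N.Normal] (hN : Inv φ N) (a : A) (x : G) :
    quotAct φ N hN a (QuotientGroup.mk' N x) = QuotientGroup.mk' N (φ a x) := rfl

theorem inv_comap_quotAct (N : Subgroup G) [N.Normal] (hN : Inv φ N) {K : Subgroup (G ⧸ N)}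
    (hK : Inv (quotAct φ N hN) K) : Inv φ (K.comap (QuotientGroup.mk' N)) := fun a x hx => by
  show QuotientGroup.mk' N (φ a x) ∈ K
  rw [← quotAct_mk φ N hN]
  exact hK a _ hx

theorem le_of_coprime_index {N K : Subgroup G} [N.Normal] (h : (Nat.card K).Coprime N.index) :
    K ≤ N := fun x hx => by
  rw [← QuotientGroup.eq_one_iff, ← orderOf_eq_one_iff]
  refine Nat.eq_one_of_dvd_coprimes h ?_ (orderOf_dvd_natCard _)
  refine (orderOf_map_dvd (QuotientGroup.mk' N) x).trans ?_
  simpa using orderOf_dvd_natCard (⟨x, hx⟩ : K)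

/-- Every proper invariant subgroup is nilpotent. -/
def AllNilpotent : Prop := ∀ H : Subgroup G, H ≠ ⊤ → Inv φ H → Group.IsNilpotent H

variable [Finite G]

theorem allNilpotent_of_maximal
    (hmax : ∀ H : Subgroup G, H ≠ ⊤ → Inv φ H → (∀ K : Subgroup G, H < K → Inv φ K → K = ⊤) →
      Group.IsNilpotent H) : AllNilpotent φ := by
  intro H hH hHi
  obtain ⟨M, hHM, hM⟩ := Finite.exists_le_maximal (p := fun K : Subgroup G => K ≠ ⊤ ∧ Inv φ K)
    (show (fun K : Subgroup G => K ≠ ⊤ ∧ Inv φ K) H from ⟨hH, hHi⟩)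
  haveI := hmax M hM.prop.1 hM.prop.2 fun K hlt hK => by
    by_contra hne
    exact hlt.not_ge (hM.le_of_ge ⟨hne, hK⟩ hlt.le)
  exact Group.nilpotent_of_mulEquiv (subgroupOfEquivOfLe hHM)

end Elementary

variable (hA : OddOrder.{v}) (hG : OddOrder.{u}) {A : Type v} [Group A] [Finite A]

include hA hG

theorem isSolvable_or {G : Type u} [Group G] [Finite G]
    (hcop : (Nat.card A).Coprime (Nat.card G)) : Group.IsSolvable A ∨ Group.IsSolvable G := by
  rcases Nat.even_or_odd (Nat.card G) with hN | hN
  · rcases Nat.even_or_odd (Nat.card A) with hA' | hA'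
    · exfalso
      have h2 := Nat.dvd_gcd hA'.two_dvd hN.two_dvd
      rw [hcop] at h2
      omega
    · exact Or.inl (hA A hA')
  · exact Or.inr (hG G hN)

theorem isSolvable_of_allNilpotent_aux : ∀ (n : ℕ) (G : Type u) [Group G] [Finite G]
    (φ : A →* MulAut G), Nat.card G = n → (Nat.card A).Coprime (Nat.card G) → AllNilpotent φ →
    Group.IsSolvable G := by
  intro n
  induction n using Nat.strong_induction_on with
  | _ n ih =>
    intro G _ _ φ hn hcop hall
    by_cases hnorm : ∃ N : Subgroup G, N.Normal ∧ Inv φ N ∧ N ≠ ⊥ ∧ N ≠ ⊤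
    · obtain ⟨N, hNn, hNi, hN1, hN2⟩ := hnorm
      haveI := hall N hN2 hNi
      have hlt : Nat.card (G ⧸ N) < n := by
        rw [← hn, card_eq_card_quotient_mul_card_subgroup N]
        exact lt_mul_of_one_lt_right Nat.card_pos ((one_lt_card_iff_ne_bot N).2 hN1)
      haveI := ih _ hlt (G ⧸ N) (quotAct φ N hNi) rfl
        (hcop.coprime_dvd_right (card_quotient_dvd_card N)) (by
          intro K hK hKi
          haveI := hall (K.comap (QuotientGroup.mk' N))
            (fun e => hK (by rw [← map_comap_eq_self_of_surjective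
              (QuotientGroup.mk'_surjective N) K, e, map_top_of_surjective _
              (QuotientGroup.mk'_surjective N)]))
            (inv_comap_quotAct φ N hNi hKi)
          exact Group.nilpotent_of_surjective
            ((QuotientGroup.mk' N).subgroupComap K)
            (MonoidHom.subgroupComap_surjective_of_surjective _ K
              (QuotientGroup.mk'_surjective N)))
      exact Group.isSolvable_of_ker_le_range N.subtype (QuotientGroup.mk' N)
        (by rw [QuotientGroup.ker_mk', range_subtype])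
    simp only [not_exists, not_and, not_ne_iff] at hnorm
    rcases Nat.even_or_odd (Nat.card G) with heven | hodd
    swap
    · exact hG G hodd
    haveI : Fact (Nat.Prime 2) := ⟨Nat.prime_two⟩
    by_cases h2 : IsPGroup 2 G
    · haveI := h2.isNilpotent
      infer_instance
    obtain ⟨q, hq, hqd, hq2⟩ : ∃ q, q.Prime ∧ q ∣ Nat.card G ∧ q ≠ 2 := by
      by_contra hcon
      simp only [not_exists, not_and, not_ne_iff] at hcon
      exact h2 (IsPGroup.of_card (n := (Nat.card G).primeFactorsList.length)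
        (Nat.eq_prime_pow_of_unique_prime_dvd Nat.card_pos.ne' fun {d} hd hdd => hcon d hd hdd))
    haveI := Fact.mk hq
    obtain ⟨Q, hQi⟩ := Coprime.exists_invariant_sylow_hom φ hcop (isSolvable_or hA hG hcop) q
    by_cases hQt : (Q : Subgroup G) = ⊤
    · haveI : Group.IsNilpotent G :=
        @Group.nilpotent_of_mulEquiv (⊤ : Subgroup G) _ _ _ (hQt ▸ Q.2.isNilpotent)
          Subgroup.topEquiv
      infer_instance
    exfalso
    set Z := Cfsg.centerThompsonAOf (Q : Subgroup G) with hZ
    have hQ1 : (Q : Subgroup G) ≠ ⊥ := Q.ne_bot_of_dvd_card hqd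
    have hZ1 : Z ≠ ⊥ := by
      rw [hZ, ← PComplement.wOf_zjA]
      intro e
      haveI : Nontrivial (Q : Subgroup G) := (nontrivial_iff_ne_bot _).2 hQ1
      refine (PComplement.isCharPFunctor_zjA (p := q)).1 _ Q.2 inferInstance ?_
      refine map_injective (Q : Subgroup G).subtype_injective ?_
      rw [Subgroup.map_bot]
      exact e
    have hZQ : Z ≤ Q := Fusion.centerThompsonAOf_le _
    have hZi : Inv φ Z := Inv.centerThompsonA φ hQi
    have hNt : normalizer (Z : Set G) ≠ ⊤ := fun e => by
      have : Z = ⊤ := hnorm Z (normalizer_eq_top_iff.1 e) hZi hZ1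
      exact hQt (top_le_iff.1 (this ▸ hZQ))
    haveI := hall _ hNt (hZi.normalizer φ)
    obtain ⟨P, K, hKn, hK⟩ := PComplement.zjAComplement hq2 Q
      PComplement.hasNormalPComplement_of_isNilpotent
    have hKchar : K.Characteristic := by
      refine characteristic_iff_map_le.2 fun e => ?_
      haveI : (K.map e.toMonoidHom).Normal := hKn.map _ e.surjective
      refine le_of_coprime_index (N := K) ?_
      rw [hK.symm.index_eq_card, card_map_of_injective e.injective]
      obtain ⟨k, hk⟩ := P.2.exists_card_eq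
      rw [hk]
      refine Nat.Coprime.pow_right k (Nat.Coprime.symm ?_)
      refine hq.coprime_iff_not_dvd.2 fun hd => P.not_dvd_index ?_
      rwa [hK.index_eq_card]
    rcases eq_or_ne K ⊥ with hb | hb
    · subst hb
      have hPt : (P : Subgroup G) = ⊤ := isComplement'_bot_left.1 hK
      refine hQt (Subgroup.eq_top_of_card_eq _ ?_)
      rw [Q.card_eq_multiplicity, ← P.card_eq_multiplicity, hPt, card_top]
    · have hKt : K = ⊤ := hnorm K hKn (Inv.of_characteristic φ K) hb
      subst hKt
      have hPb : (P : Subgroup G) = ⊥ := isComplement'_top_left.1 hK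
      exact (P.ne_bot_of_dvd_card hqd) hPb

/-- Solvability in S4240. -/
theorem isSolvable_of_allNilpotent {G : Type u} [Group G] [Finite G] (φ : A →* MulAut G)
    (hcop : (Nat.card A).Coprime (Nat.card G)) (hall : AllNilpotent φ) : Group.IsSolvable G :=
  isSolvable_of_allNilpotent_aux hA hG _ G φ rfl hcop hall

/-- S4240 given the odd order theorem. -/
theorem structure_of_allNilpotent {G : Type u} [Group G] [Finite G] (φ : A →* MulAut G)
    (hcop : (Nat.card A).Coprime (Nat.card G)) (hall : AllNilpotent φ)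
    (hnil : ¬ Group.IsNilpotent G) :
    Group.IsSolvable G ∧
      (∃ p q a b : ℕ, p.Prime ∧ q.Prime ∧ p ≠ q ∧ Nat.card G = p ^ a * q ^ b) ∧
      ∃ (p : ℕ) (P : Sylow p G), p.Prime ∧ p ∣ Nat.card G ∧ (P : Subgroup G).Normal ∧
        ∀ a, ∀ x ∈ (P : Subgroup G), φ a x ∈ (P : Subgroup G) := by
  haveI hsolv := isSolvable_of_allNilpotent hA hG φ hcop hall
  haveI : Nontrivial G := by
    by_contra h
    rw [not_nontrivial_iff_subsingleton] at h
    exact hnil inferInstance
  -- a maximal invariant normal subgroup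
  obtain ⟨N, -, hN⟩ := Finite.exists_le_maximal
    (p := fun K : Subgroup G => K ≠ ⊤ ∧ Inv φ K ∧ K.Normal)
    (show (fun K : Subgroup G => K ≠ ⊤ ∧ Inv φ K ∧ K.Normal) ⊥ from
      ⟨bot_ne_top, Inv.of_characteristic φ ⊥, inferInstance⟩)
  obtain ⟨hNt, hNi, hNn⟩ := hN.prop
  haveI := hNn
  haveI hNnil := hall N hNt hNi
  haveI : Nontrivial (G ⧸ N) := QuotientGroup.nontrivial_iff.2 hNt
  haveI : Group.IsSolvable (G ⧸ N) :=
    Group.isSolvable_of_surjective (QuotientGroup.mk'_surjective N)
  have hchar : ∀ C : Subgroup (G ⧸ N), C.Characteristic → C = ⊥ ∨ C = ⊤ := by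
    intro C hC
    refine or_iff_not_imp_right.2 fun hne => ?_
    haveI := hC
    have hne' : C.comap (QuotientGroup.mk' N) ≠ ⊤ := fun e => hne (by
      rw [← map_comap_eq_self_of_surjective (QuotientGroup.mk'_surjective N) C, e,
        map_top_of_surjective _ (QuotientGroup.mk'_surjective N)])
    have hle := hN.le_of_ge ⟨hne', inv_comap_quotAct φ N hNi (Inv.of_characteristic _ C),
      Subgroup.Normal.comap inferInstance _⟩ (QuotientGroup.le_comap_mk' N C)
    rw [← map_comap_eq_self_of_surjective (QuotientGroup.mk'_surjective N) C]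
    refine le_bot_iff.1 ((map_mono hle).trans ?_)
    rw [QuotientGroup.map_mk'_self]
  obtain ⟨q, hq, hqd⟩ := Nat.exists_prime_and_dvd
    (Finite.one_lt_card (α := G ⧸ N)).ne'
  haveI := Fact.mk hq
  have hQq : IsPGroup q (G ⧸ N) := by
    have hder : commutator (G ⧸ N) = ⊥ := (hchar _ inferInstance).resolve_right fun e => by
      obtain ⟨m, hm⟩ := (Group.isSolvable_def (G := G ⧸ N)).1 inferInstance
      have hall' : ∀ m, derivedSeries (G ⧸ N) m = ⊤ := by
        intro m
        induction m with
        | zero => rfl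
        | succ m ihm => rw [derivedSeries_succ, ihm]; exact e
      exact bot_ne_top (hm.symm.trans (hall' m))
    haveI : IsMulCommutative (G ⧸ N) := ⟨⟨fun a b => by
      rw [← commutatorElement_eq_one_iff_mul_comm, ← mem_bot, ← hder, commutator_def]
      exact commutator_mem_commutator (mem_top a) (mem_top b)⟩⟩
    obtain ⟨S⟩ := (inferInstance : Nonempty (Sylow q (G ⧸ N)))
    haveI : (S : Subgroup (G ⧸ N)).Normal := ⟨fun x hx g => by
      rwa [mul_comm' g x, mul_inv_cancel_right]⟩
    rcases hchar _ (S.characteristic_of_normal inferInstance) with h | h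
    · exact absurd h (S.ne_bot_of_dvd_card hqd)
    · exact fun x => by
        obtain ⟨k, hk⟩ := S.2 ⟨x, h ▸ mem_top x⟩
        exact ⟨k, congrArg Subtype.val hk⟩
  -- invariant Sylow subgroups; those for `r ≠ q` lie in `N` and are normal
  have hsyl : ∀ (r : ℕ) (hr : r.Prime), ∃ R : Sylow r G,
      (∀ a, ∀ x ∈ (R : Subgroup G), φ a x ∈ (R : Subgroup G)) ∧
        (r ≠ q → (R : Subgroup G).Normal) := by
    intro r hr
    haveI := Fact.mk hr
    obtain ⟨R, hR⟩ := Coprime.exists_invariant_sylow_hom φ hcop (isSolvable_or hA hG hcop) r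
    refine ⟨R, hR, fun hrq => ?_⟩
    have hle : (R : Subgroup G) ≤ N := by
      intro x hx
      rw [← QuotientGroup.eq_one_iff]
      obtain ⟨k, hk⟩ := R.2 ⟨x, hx⟩
      obtain ⟨j, hj⟩ := hQq (QuotientGroup.mk x)
      have h1 : orderOf (QuotientGroup.mk x : G ⧸ N) ∣ r ^ k :=
        orderOf_dvd_of_pow_eq_one (by
          rw [← QuotientGroup.mk_pow]
          exact congrArg QuotientGroup.mk (congrArg Subtype.val hk))
      have h2 := Nat.eq_one_of_dvd_coprimes (Nat.Coprime.pow k j ((Nat.coprime_primes hr hq).2 hrq))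
        h1 (orderOf_dvd_of_pow_eq_one hj)
      exact orderOf_eq_one_iff.1 h2
    haveI : ((R.subtype hle : Sylow r N) : Subgroup N).Normal := inferInstance
    haveI := (R.subtype hle).characteristic_of_normal inferInstance
    have h3 : (R : Subgroup G) = ((R.subtype hle : Sylow r N) : Subgroup N).map N.subtype := by
      rw [Sylow.coe_subtype, map_subgroupOf_eq_of_le hle]
    rw [h3]
    infer_instance
  obtain ⟨Q, hQi, -⟩ := hsyl q hq
  -- two more primes would make `G` nilpotent
  have honly : ∀ r s : ℕ, r.Prime → s.Prime → r ≠ q → s ≠ q → r ∣ Nat.card G → s ∣ Nat.card G →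
      r = s := by
    intro r₀ s₀ hr₀ hs₀ hr₀q hs₀q hr₀d hs₀d
    by_contra hrs
    refine hnil ((Group.isNilpotent_of_finite_tfae.out 0 3).2 fun ℓ hℓ P => ?_)
    haveI := hℓ
    by_cases hℓq : ℓ = q
    swap
    · obtain ⟨R, -, hRn⟩ := hsyl ℓ hℓ.out
      haveI := hRn hℓq
      haveI := Sylow.unique_of_normal R inferInstance
      rw [Subsingleton.elim P R]
      infer_instance
    subst hℓq
    suffices hn : (Q : Subgroup G).Normal by
      haveI := Sylow.unique_of_normal Q hn
      rw [Subsingleton.elim P Q]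
      exact hn
    rw [← normalizer_eq_top_iff]
    -- the index of the normalizer of `Q` has no prime divisor
    by_contra hne
    obtain ⟨r, hr, hrd⟩ := Nat.exists_prime_and_dvd
      (fun e => hne (index_eq_one.1 e) : (normalizer ((Q : Subgroup G) : Set G)).index ≠ 1)
    haveI := Fact.mk hr
    have hrq : r ≠ ℓ := by
      intro e
      subst e
      exact Q.not_dvd_index (hrd.trans (index_dvd_of_le le_normalizer))
    obtain ⟨R, hRi, hRn⟩ := hsyl r hr
    haveI := hRn hrq
    obtain ⟨s, hs, hsd, hsq, hsr⟩ : ∃ s, s.Prime ∧ s ∣ Nat.card G ∧ s ≠ ℓ ∧ s ≠ r := by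
      by_cases h : r₀ = r
      · exact ⟨s₀, hs₀, hs₀d, hs₀q, fun e => hrs (h.trans e.symm)⟩
      · exact ⟨r₀, hr₀, hr₀d, hr₀q, h⟩
    have hsup : Nat.card ((Q : Subgroup G) ⊔ R : Subgroup G) ∣
        Nat.card (Q : Subgroup G) * Nat.card (R : Subgroup G) := by
      rw [Coprime.card_sup_of_le_normalizer (by rw [normalizer_eq_top]; exact le_top)
        (Coprime.disjoint_of_coprime_card ?_)]
      rw [Q.card_eq_multiplicity, R.card_eq_multiplicity]
      exact Nat.Coprime.pow _ _ ((Nat.coprime_primes hq hr).2 (Ne.symm hrq))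
    have hproper : (Q : Subgroup G) ⊔ R ≠ ⊤ := fun e => by
      rw [e, card_top] at hsup
      rcases (hs.dvd_mul.1 (hsd.trans hsup)) with h | h
      · rw [Q.card_eq_multiplicity] at h
        exact hsq ((Nat.prime_dvd_prime_iff_eq hs hq).1 (hs.dvd_of_dvd_pow h))
      · rw [R.card_eq_multiplicity] at h
        exact hsr ((Nat.prime_dvd_prime_iff_eq hs hr).1 (hs.dvd_of_dvd_pow h))
    haveI := hall _ hproper (Inv.sup φ hQi hRi)
    have hRN : (R : Subgroup G) ≤ normalizer ((Q : Subgroup G) : Set G) := by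
      intro x hx
      have hle : (Q : Subgroup G) ≤ (Q : Subgroup G) ⊔ R := le_sup_left
      have hn' : ((Q : Subgroup G).subgroupOf ((Q : Subgroup G) ⊔ R)).Normal := by
        rw [← Sylow.coe_subtype (P := Q) (h := hle)]
        infer_instance
      exact (normal_subgroupOf_iff_le_normalizer hle).1 hn' (mem_sup_right hx)
    exact R.not_dvd_index (hrd.trans (index_dvd_of_le hRN))
  refine ⟨hsolv, ?_, ?_⟩
  · by_cases hr : ∃ r, r.Prime ∧ r ≠ q ∧ r ∣ Nat.card G
    · obtain ⟨r, hr, hrq, hrd⟩ := hr
      refine ⟨r, q, (Nat.card G).factorization r, (Nat.card G).factorization q, hr, hq, hrq, ?_⟩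
      refine Nat.eq_of_factorization_eq Nat.card_pos.ne'
        (Nat.mul_ne_zero (pow_ne_zero _ hr.ne_zero) (pow_ne_zero _ hq.ne_zero)) fun ℓ => ?_
      rw [Nat.factorization_mul (pow_ne_zero _ hr.ne_zero) (pow_ne_zero _ hq.ne_zero),
        hr.factorization_pow, hq.factorization_pow, Finsupp.add_apply]
      by_cases hℓ : ℓ.Prime ∧ ℓ ∣ Nat.card G
      · by_cases hℓq : ℓ = q
        · subst hℓq; simp [hrq]
        · obtain rfl := honly ℓ r hℓ.1 hr hℓq hrq hℓ.2 hrd
          simp [Ne.symm hℓq]
      · have h0 : (Nat.card G).factorization ℓ = 0 := by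
          rcases not_and_or.1 hℓ with h | h
          · exact Nat.factorization_eq_zero_of_not_prime _ h
          · exact Nat.factorization_eq_zero_of_not_dvd h
        rw [h0]
        simp only [Finsupp.single_apply]
        split_ifs with h1 h2 h3
        all_goals first | rfl | (subst_vars; omega) | (subst_vars; simp_all)
    · simp only [not_exists, not_and] at hr
      exact absurd ((IsPGroup.of_card (n := (Nat.card G).primeFactorsList.length)
        (Nat.eq_prime_pow_of_unique_prime_dvd Nat.card_pos.ne' fun {d} hd hdd =>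
          by_contra fun h => hr d hd h hdd) : IsPGroup q G).isNilpotent) hnil
  · obtain ⟨r, hr, hrq, hrd⟩ : ∃ r, r.Prime ∧ r ≠ q ∧ r ∣ Nat.card G := by
      by_contra hr
      simp only [not_exists, not_and] at hr
      exact absurd ((IsPGroup.of_card (n := (Nat.card G).primeFactorsList.length)
        (Nat.eq_prime_pow_of_unique_prime_dvd Nat.card_pos.ne' fun {d} hd hdd =>
          by_contra fun h => hr d hd h hdd) : IsPGroup q G).isNilpotent) hnil
    obtain ⟨R, hRi, hRn⟩ := hsyl r hr
    exact ⟨r, R, hr, hrd, hRn hrq, hRi⟩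

end Cfsg.Agent.FTConsumers
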