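import Cfsg.Agent.S5212
import Cfsg.Agent.Lib.Fusion.Group
import Cfsg.Agent.Lib.Transfer.Frobenius
import Cfsg.Agent.Lib.ZStar.Homocyclic
import Cfsg.Agent.Lib.PGroup.MetacyclicTwo
import Cfsg.Agent.Lib.PCore.Basic
import Cfsg.Agent.Lib.SolvableTwo.Basic
import Mathlib.GroupTheory.Transfer
import Mathlib.GroupTheory.SpecificGroups.Quaternion

/-!
A Sylow 2-subgroup with a cyclic normal subgroup and cyclic quotient of order at least 4 forces
solvability, given the odd order theorem as a hypothesis.
-/

set_option autoImplicit false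
set_option linter.style.haveILetI false

namespace Cfsg.Agent.FTConsumers.MetacyclicTwo

open Subgroup Cfsg

universe u

theorem isCyclic_quotient_two {X : Type u} [Group X] [Finite X] (N : Subgroup X) [N.Normal]
    (hc : IsCyclic (X ⧸ N)) (h : ∀ x : X, x * x ∈ N) : Nat.card (X ⧸ N) ≤ 2 := by
  obtain ⟨g, hg⟩ := hc.exists_generator
  have h1 : Nat.card (X ⧸ N) = orderOf g := (orderOf_eq_card_of_forall_mem_zpowers hg).symm
  rw [h1]
  obtain ⟨x, rfl⟩ := QuotientGroup.mk'_surjective N g
  refine Nat.le_of_dvd two_pos (orderOf_dvd_of_pow_eq_one ?_)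
  rw [pow_two, ← map_mul]
  exact (QuotientGroup.eq_one_iff _).2 (h x)

/-- In an exceptional noncyclic 2-group every cyclic quotient has order at most 2. -/
theorem sq_mem_of_exceptional {X : Type u} [Group X] [Finite X]
    (hX : Cfsg.Agent.PGroup.MetacyclicTwo.Exceptional X) (hp : IsPGroup 2 X) (hnc : ¬ IsCyclic X)
    (N : Subgroup X) [N.Normal] (hc : IsCyclic (X ⧸ N)) : ∀ x : X, x * x ∈ N := by
  let := IsCyclic.commGroup (α := X ⧸ N)
  suffices h : ∀ x : X, (QuotientGroup.mk' N x) ^ 2 = 1 by
    intro x
    have := h x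
    rw [pow_two, ← map_mul] at this
    exact (QuotientGroup.eq_one_iff _).1 this
  set π := QuotientGroup.mk' N
  rcases hX with ⟨m, ⟨e⟩⟩ | ⟨m, ⟨e⟩⟩ | hq
  · have key : ∀ d : DihedralGroup m, π (e.symm d) ^ 2 = 1 := by
      have hs : ∀ i : ZMod m, π (e.symm (DihedralGroup.sr i)) ^ 2 = 1 := fun i => by
        rw [← map_pow, ← map_pow, pow_two, DihedralGroup.sr_mul_self, map_one, map_one]
      intro d
      rcases d with i | i
      · have h1 : DihedralGroup.r i = DihedralGroup.sr 0 * DihedralGroup.sr i := by
          rw [DihedralGroup.sr_mul_sr, sub_zero]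
        rw [h1, map_mul, map_mul, mul_pow, hs, hs, one_mul]
      · exact hs i
    intro x
    simpa using key (e x)
  · haveI : NeZero m := ⟨fun h0 => by
      subst h0
      haveI : Finite (QuaternionGroup 0) := Finite.of_equiv X e.toEquiv
      haveI : Finite (ZMod (2 * 0)) :=
        Finite.of_injective (QuaternionGroup.a (n := 0)) fun i j h => by injection h
      haveI : Finite ℤ := (inferInstance : Finite (ZMod (2 * 0)))
      exact not_finite (α := ℤ)⟩
    obtain ⟨k, hk⟩ := hp.exists_card_eq
    have hcard : Nat.card X = 4 * m := by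
      rw [Nat.card_congr e.toEquiv, Nat.card_eq_fintype_card, QuaternionGroup.card]
    have hm1 : m ≠ 1 := by
      rintro rfl
      haveI : IsCyclic (QuaternionGroup 1) := QuaternionGroup.quaternionGroup_one_isCyclic
      exact hnc (isCyclic_of_surjective e.symm e.symm.surjective)
    have hm : 2 ∣ m := by
      have h4 : m ∣ 2 ^ k := Dvd.intro_left 4 (by rw [← hcard, hk])
      obtain ⟨j, -, hj⟩ := (Nat.dvd_prime_pow Nat.prime_two).1 h4
      subst hj
      rcases j with _ | j
      · simp at hm1
      · exact dvd_pow_self 2 j.succ_ne_zero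
    have hx : ∀ i, π (e.symm (QuaternionGroup.xa i)) ^ 2 =
        π (e.symm (QuaternionGroup.a (m : ZMod (2 * m)))) := fun i => by
      rw [← map_pow, ← map_pow, pow_two, QuaternionGroup.xa_mul_xa]
      simp
    have ha : ∀ i, π (e.symm (QuaternionGroup.a i)) ^ 2 = 1 := fun i => by
      have h1 : QuaternionGroup.xa 0 * QuaternionGroup.a i =
          QuaternionGroup.a (-i) * QuaternionGroup.xa (0 : ZMod (2 * m)) := by simp
      have h2 := congrArg (fun d => π (e.symm d)) h1
      simp only [map_mul] at h2
      rw [mul_comm] at h2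
      have h3 : π (e.symm (QuaternionGroup.a i)) = π (e.symm (QuaternionGroup.a (-i))) :=
        mul_right_cancel h2
      have h4 : QuaternionGroup.a i * QuaternionGroup.a (-i) = (1 : QuaternionGroup m) := by
        rw [QuaternionGroup.a_mul_a, add_neg_cancel]
        rfl
      rw [pow_two]
      nth_rewrite 2 [h3]
      rw [← map_mul, ← map_mul, h4, map_one, map_one]
    have ham : π (e.symm (QuaternionGroup.a (m : ZMod (2 * m)))) = 1 := by
      obtain ⟨j, rfl⟩ := hm
      rw [← QuaternionGroup.a_one_pow, map_pow, map_pow, pow_mul, ha, one_pow]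
    intro x
    rcases h : e x with i | i
    · have := ha i; rwa [← h, e.symm_apply_apply] at this
    · have := hx i; rw [← h, e.symm_apply_apply, ham] at this; exact this
  · obtain ⟨n, hn, hcard, x, y, hx, hy, hxy⟩ := hq
    have hyN : y ∉ zpowers x := by
      intro hmem
      obtain ⟨i, rfl⟩ := mem_zpowers_iff.1 hmem
      have h1 : x ^ i * x * (x ^ i)⁻¹ = x := by group
      rw [h1] at hxy
      have h2 := pow_inj_mod.1 ((pow_one x).trans hxy)
      rw [hx] at h2
      have h3 : 4 ≤ 2 ^ (n - 1) := le_trans (by norm_num) (Nat.pow_le_pow_right two_pos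
        (show 2 ≤ n - 1 by omega))
      have h5 : 2 ^ n = 2 * 2 ^ (n - 1) := by rw [← pow_succ']; congr 1; omega
      rw [Nat.mod_eq_of_lt (by omega), Nat.mod_eq_of_lt (by omega)] at h2
      omega
    have hgen : zpowers x ⊔ zpowers y = ⊤ := by
      refine eq_top_of_le_card _ ?_
      have hlt : zpowers x < zpowers x ⊔ zpowers y :=
        lt_of_le_not_ge le_sup_left fun h => hyN (h (mem_sup_right (mem_zpowers y)))
      have hd := card_dvd_of_le hlt.le
      obtain ⟨j, hj, hj2⟩ := (Nat.dvd_prime_pow Nat.prime_two).1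
        (hcard ▸ card_subgroup_dvd_card (zpowers x ⊔ zpowers y))
      rw [hcard, hj2]
      refine Nat.pow_le_pow_right two_pos ?_
      by_contra hj3
      apply hlt.ne
      refine eq_of_le_of_card_ge hlt.le ?_
      rw [hj2, Nat.card_zpowers, hx]
      exact Nat.pow_le_pow_right two_pos (by omega)
    have hy2 : π y ^ 2 = 1 := by rw [← map_pow, ← hy, pow_orderOf_eq_one, map_one]
    have hx2 : π x ^ 2 = 1 := by
      have h := congrArg π hxy
      rw [map_mul, map_mul, map_inv, map_pow, mul_comm (π y), mul_assoc, mul_inv_cancel,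
        mul_one] at h
      have h3 : 4 ≤ 2 ^ (n - 1) := le_trans (by norm_num) (Nat.pow_le_pow_right two_pos
        (show 2 ≤ n - 1 by omega))
      have h1 : π x ^ (2 ^ (n - 1) - 2) = 1 := by
        have : π x ^ (2 ^ (n - 1) - 2) * π x = 1 * π x := by
          rw [← pow_succ, one_mul, show 2 ^ (n - 1) - 2 + 1 = 2 ^ (n - 1) - 1 by omega]
          exact h.symm
        exact mul_right_cancel this
      have h2 : π x ^ 2 ^ n = 1 := by rw [← map_pow, ← hx, pow_orderOf_eq_one, map_one]
      have h4 : orderOf (π x) ∣ 2 := by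
        have hd1 := orderOf_dvd_of_pow_eq_one h1
        obtain ⟨j, hj, he⟩ := (Nat.dvd_prime_pow Nat.prime_two).1 (orderOf_dvd_of_pow_eq_one h2)
        rw [he] at hd1 ⊢
        rcases j with _ | _ | j
        · simp
        · simp
        · exfalso
          have h6 : 4 ∣ 2 ^ (n - 1) - 2 := dvd_trans ⟨2 ^ j, by ring⟩ hd1
          have h7 : 4 ∣ 2 ^ (n - 1) := ⟨2 ^ (n - 3), by
            rw [show (4 : ℕ) = 2 ^ 2 by norm_num, ← pow_add]; congr 1; omega⟩
          omega
      exact orderOf_dvd_iff_pow_eq_one.1 h4
    intro z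
    have hz : z ∈ zpowers x ⊔ zpowers y := hgen ▸ mem_top z
    have hle : zpowers x ⊔ zpowers y ≤ ((powMonoidHom 2).comp π).ker :=
      sup_le (zpowers_le.2 hx2) (zpowers_le.2 hy2)
    exact hle hz

variable {G : Type u} [Group G] [Finite G]

theorem isSolvable_of_complement
    (hFT : ∀ (X : Type u) [Group X] [Finite X], Odd (Nat.card X) → Group.IsSolvable X)
    (h : HasNormalPComplement 2 G) : Group.IsSolvable G := by
  obtain ⟨P, N, hN, hc⟩ := h
  haveI := hN
  haveI : Group.IsSolvable N := hFT N (by
    rw [← hc.index_eq_card, ← Nat.not_even_iff_odd, even_iff_two_dvd]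
    exact P.not_dvd_index)
  have hQ : IsPGroup 2 (G ⧸ N) :=
    P.2.of_surjective ((QuotientGroup.mk' N).comp (P : Subgroup G).subtype) fun q => by
      obtain ⟨g, rfl⟩ := QuotientGroup.mk'_surjective N q
      obtain ⟨⟨n, s⟩, hns, -⟩ := isComplement_iff_existsUnique.1 hc g
      exact ⟨s, by rw [← hns]; simp [(QuotientGroup.eq_one_iff _).2 n.2]⟩
  haveI := hQ.isNilpotent
  exact Group.isSolvable_of_ker_le_range N.subtype (QuotientGroup.mk' N) (by simp)

/-- The odd order theorem makes a group with such a Sylow 2-subgroup solvable. -/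
theorem isSolvable_of_metacyclic
    (hFT : ∀ (X : Type u) [Group X] [Finite X], Odd (Nat.card X) → Group.IsSolvable X)
    (S : Sylow 2 G) (N : Subgroup ↥(S : Subgroup G)) [N.Normal] (hNc : IsCyclic N)
    (hQc : IsCyclic (↥(S : Subgroup G) ⧸ N)) (hQ : 2 < Nat.card (↥(S : Subgroup G) ⧸ N)) :
    Group.IsSolvable G := by
  haveI : Fact (Nat.Prime 2) := ⟨Nat.prime_two⟩
  by_cases hcyc : IsCyclic ↥(S : Subgroup G)
  · have hmin : 2 = (Nat.card G).minFac := by
      refine ((Nat.minFac_eq_two_iff _).2 ?_).symm
      by_contra h2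
      have hb : (S : Subgroup G) = ⊥ := by
        by_contra hne
        obtain ⟨k, hk⟩ := S.2.exists_card_eq
        have hk0 : k ≠ 0 := fun h => hne (card_eq_one.1 (by rw [hk, h, pow_zero]))
        exact h2 ((dvd_pow_self 2 hk0).trans (hk ▸ card_subgroup_dvd_card (S : Subgroup G)))
      have hs : Nat.card ↥(S : Subgroup G) = 1 := by rw [hb]; exact card_bot
      have : Nat.card (↥(S : Subgroup G) ⧸ N) ∣ 1 := hs ▸ card_quotient_dvd_card N
      have := Nat.le_of_dvd one_pos this
      omega
    exact isSolvable_of_complement hFT ⟨S, _, inferInstance,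
      MonoidHom.ker_transferSylow_isComplement' S (IsCyclic.normalizer_le_centralizer hmin.symm hcyc)⟩
  have hm : IsMetacyclic ↥(S : Subgroup G) := ⟨N, inferInstance, hNc, hQc⟩
  have hexc : ¬ Cfsg.Agent.PGroup.MetacyclicTwo.Exceptional ↥(S : Subgroup G) := fun h =>
    absurd (isCyclic_quotient_two N hQc (sq_mem_of_exceptional h S.2 hcyc N hQc)) (by omega)
  by_cases hh : ∃ n k : ℕ, Nonempty (↥(S : Subgroup G) ≃* Multiplicative (Fin k → ZMod (2 ^ n)))
  · obtain ⟨n, k, ⟨e⟩⟩ := hh
    haveI : NeZero (2 ^ n) := ⟨pow_ne_zero _ two_ne_zero⟩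
    obtain rfl : k = 2 := by
      rcases Nat.lt_trichotomy k 2 with hk | hk | hk
      · exfalso
        haveI : IsCyclic (Multiplicative (Fin k → ZMod (2 ^ n))) := by
          rw [isCyclic_multiplicative_iff]
          interval_cases k
          · exact isAddCyclic_of_subsingleton
          · exact isAddCyclic_of_surjective (AddEquiv.funUnique (Fin 1) (ZMod (2 ^ n))).symm.toAddMonoidHom
              (AddEquiv.funUnique (Fin 1) (ZMod (2 ^ n))).symm.surjective
        exact hcyc (isCyclic_of_surjective e.symm e.symm.surjective)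
      · exact hk
      · exfalso
        rcases Nat.eq_zero_or_pos n with rfl | hn
        · haveI : Subsingleton (ZMod (2 ^ 0)) := by rw [pow_zero]; infer_instance
          haveI : Subsingleton ↥(S : Subgroup G) := e.toEquiv.subsingleton
          exact hcyc isCyclic_of_subsingleton
        · let X := Multiplicative (Fin k → ZMod (2 ^ n))
          let M : Subgroup X := N.map e.toMonoidHom
          haveI hMc : IsCyclic M :=
            isCyclic_of_surjective _ (e.toMonoidHom.subgroupMap_surjective N)
          haveI hXc : IsCyclic (X ⧸ M) := isCyclic_of_surjective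
            (QuotientGroup.map N M e.toMonoidHom (le_comap_map _ _)) (fun q => by
              obtain ⟨x, rfl⟩ := QuotientGroup.mk'_surjective M q
              exact ⟨(e.symm x : ↥(S : Subgroup G)), by simp⟩)
          have hb : Nat.card {x : X // x ^ 2 = 1} ≤ 4 := by
            classical
            have := Fintype.ofFinite X
            have := Fintype.ofFinite (X ⧸ M)
            let π : {x : X // x ^ 2 = 1} → {q : X ⧸ M // q ^ 2 = 1} := fun x =>
              ⟨QuotientGroup.mk' M x.1, by rw [← map_pow, x.2, map_one]⟩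
            have hfib : ∀ q, (Finset.univ.filter fun x => π x = q).card ≤ 2 := by
              intro q
              rcases (Finset.univ.filter fun x => π x = q).eq_empty_or_nonempty with h0 | ⟨x₀, hx₀⟩
              · rw [h0]; simp
              rw [Finset.mem_filter] at hx₀
              have := Fintype.ofFinite M
              refine le_trans (Finset.card_le_card_of_injOn
                (t := Finset.univ.filter fun z : M => z ^ 2 = 1)
                (fun x => if hx : x₀.1⁻¹ * x.1 ∈ M then ⟨_, hx⟩ else 1) ?_ ?_)
                (IsCyclic.card_pow_eq_one_le (α := M) two_pos)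
              · intro x hx
                simp only [Finset.coe_filter, Finset.mem_univ, true_and, Set.mem_setOf_eq] at hx ⊢
                split_ifs with hmem
                · apply Subtype.ext
                  show (x₀.1⁻¹ * x.1) ^ 2 = 1
                  rw [mul_pow, inv_pow, x₀.2, x.2, inv_one, one_mul]
                · exact one_pow 2
              · intro x hx x' hx' he
                simp only [Finset.coe_filter, Finset.mem_univ, true_and, Set.mem_setOf_eq] at hx hx'
                have hmem : ∀ y, π y = q → x₀.1⁻¹ * y.1 ∈ M := fun y hy =>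
                  QuotientGroup.eq.1 (congrArg Subtype.val (hx₀.2.trans hy.symm))
                simp only [dif_pos (hmem x hx), dif_pos (hmem x' hx')] at he
                exact Subtype.ext (mul_left_cancel (congrArg Subtype.val he))
            rw [Nat.card_eq_fintype_card, ← Finset.card_univ]
            refine le_trans (Finset.card_le_mul_card_image_of_maps_to (f := π)
              (t := Finset.univ) (fun _ _ => Finset.mem_univ _) 2 fun q _ => hfib q) ?_
            have h2 : Fintype.card {q : X ⧸ M // q ^ 2 = 1} ≤ 2 := by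
              rw [Fintype.card_subtype]
              exact IsCyclic.card_pow_eq_one_le (α := X ⧸ M) two_pos
            rw [Finset.card_univ]
            omega
          have hlb : 2 ^ k ≤ Nat.card {x : X // x ^ 2 = 1} := by
            let f : (Fin k → Fin 2) → {x : X // x ^ 2 = 1} := fun c =>
              ⟨Multiplicative.ofAdd fun i => ((c i).val * 2 ^ (n - 1) : ℕ), by
                rw [pow_two, ← ofAdd_add]
                refine congrArg Multiplicative.ofAdd (funext fun i => ?_)
                rw [Pi.add_apply, ← Nat.cast_add, ← two_mul, mul_left_comm, ← pow_succ',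
                  Nat.sub_add_cancel hn, Pi.zero_apply]
                simp⟩
            have hf : Function.Injective f := by
              intro c c' h
              funext i
              have h1 := congrFun (Multiplicative.ofAdd.injective (congrArg Subtype.val h)) i
              replace h1 : (((c i).val * 2 ^ (n - 1) : ℕ) : ZMod (2 ^ n)) =
                  (((c' i).val * 2 ^ (n - 1) : ℕ) : ZMod (2 ^ n)) := h1
              rw [ZMod.natCast_eq_natCast_iff'] at h1
              have hlt : ∀ j : Fin 2, j.val * 2 ^ (n - 1) < 2 ^ n := fun j => by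
                have h5 : 2 ^ n = 2 * 2 ^ (n - 1) := by rw [← pow_succ']; congr 1; omega
                rw [h5]
                exact Nat.mul_lt_mul_of_pos_right j.isLt (Nat.two_pow_pos _)
              rw [Nat.mod_eq_of_lt (hlt _), Nat.mod_eq_of_lt (hlt _)] at h1
              exact Fin.ext (Nat.eq_of_mul_eq_mul_right (Nat.two_pow_pos _) h1)
            calc 2 ^ k = Nat.card (Fin k → Fin 2) := by simp
              _ ≤ _ := Nat.card_le_card_of_injective f hf
          have : 2 ^ 3 ≤ 2 ^ k := Nat.pow_le_pow_right two_pos hk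
          omega
    have hn : 2 ≤ n := by
      by_contra hn
      have hall : ∀ x : ↥(S : Subgroup G), x * x ∈ N := fun x => by
        suffices h : x * x = 1 by rw [h]; exact N.one_mem
        apply e.injective
        rw [map_mul, map_one]
        refine Multiplicative.toAdd.injective (funext fun i => ?_)
        show (e x).toAdd i + (e x).toAdd i = 0
        interval_cases n
        · exact Subsingleton.elim (α := ZMod 1) _ _
        · exact CharTwo.add_self_eq_zero (R := ZMod 2) _
      have := isCyclic_quotient_two N hQc hall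
      omega
    set O := oddCore G with hO
    haveI : O.Normal := inferInstanceAs (pPrimeCore 2 G).Normal
    haveI : Group.IsSolvable O := hFT O SolvableTwo.odd_card_oddCore
    let π := QuotientGroup.mk' O
    have hπ : Function.Surjective π := QuotientGroup.mk'_surjective O
    let T := S.mapSurjective hπ
    have hinj : Function.Injective (π.subgroupMap (S : Subgroup G)) := by
      rw [← MonoidHom.ker_eq_bot_iff, eq_bot_iff]
      intro x hx
      have h1 : (x : G) ∈ O := (QuotientGroup.eq_one_iff _).1 (congrArg Subtype.val hx)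
      have h2 : orderOf (x : G) ∣ Nat.card O := by
        rw [← Subgroup.orderOf_mk (x : G) h1]; exact orderOf_dvd_natCard _
      obtain ⟨k, hk⟩ := (IsPGroup.iff_orderOf).1 S.2 x
      rw [← Subgroup.orderOf_coe] at hk
      have h3 : orderOf (x : G) = 1 := Nat.eq_one_of_dvd_coprimes
        ((Nat.coprime_two_right.2 SolvableTwo.odd_card_oddCore).pow_right k) h2 (hk ▸ dvd_rfl)
      rw [mem_bot]
      exact Subtype.ext (orderOf_eq_one_iff.1 h3)
    let eT : ↥(S : Subgroup G) ≃* ↥(T : Subgroup (G ⧸ O)) :=
      MulEquiv.ofBijective (π.subgroupMap (S : Subgroup G)) ⟨hinj, π.subgroupMap_surjective _⟩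
    let eF : Multiplicative (Fin 2 → ZMod (2 ^ n)) ≃* Multiplicative (ZMod (2 ^ n) × ZMod (2 ^ n)) :=
      AddEquiv.toMultiplicative (RingEquiv.piFinTwo fun _ : Fin 2 => ZMod (2 ^ n)).toAddEquiv
    haveI hT : (T : Subgroup (G ⧸ O)).Normal := ZStar.normal_homocyclic T n hn
      (eT.symm.trans (e.trans eF)) PCore.pPrimeCore_quotient_self_eq_bot
    haveI : Group.IsSolvable ↥(T : Subgroup (G ⧸ O)) := by
      haveI := T.2.isNilpotent
      infer_instance
    haveI : Group.IsSolvable ((G ⧸ O) ⧸ (T : Subgroup (G ⧸ O))) := hFT _ (by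
      rw [← index_eq_card, ← Nat.not_even_iff_odd, even_iff_two_dvd]
      exact T.not_dvd_index)
    haveI : Group.IsSolvable (G ⧸ O) := Group.isSolvable_of_ker_le_range
      (T : Subgroup (G ⧸ O)).subtype (QuotientGroup.mk' (T : Subgroup (G ⧸ O))) (by simp)
    exact Group.isSolvable_of_ker_le_range O.subtype π (by simp [π])
  refine isSolvable_of_complement hFT (Transfer.hasNormalPComplement_of_centralizer S
    fun Q hQS g hg hgp => ?_)
  have hF := Fusion.groupFusionSystem_saturated S
  have hinner := Cfsg.Agent.S5212.result S.2 (groupFusionSystem (S : Subgroup G)) hF hm hh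
    (fun h => hexc (Or.inl h)) (fun h => hexc (Or.inr (Or.inl h)))
    (fun h => hexc (Or.inr (Or.inr h))) Q
  have hmem : ((MulAut.conj g).toMonoidHom.comp Q.subtype) ∈
      (groupFusionSystem (S : Subgroup G)).Hom Q :=
    ⟨hQS, fun x => hQS ((mem_normalizer_iff.1 hg _).1 x.2), g, fun _ => rfl⟩
  rw [hinner] at hmem
  obtain ⟨-, s, hs, hgs⟩ := hmem
  rw [mem_centralizer_iff]
  intro q hq
  have hiter : ∀ k : ℕ, ∀ x ∈ Q, g ^ k * x * (g ^ k)⁻¹ = s ^ k * x * (s ^ k)⁻¹ ∧
      g ^ k * x * (g ^ k)⁻¹ ∈ Q := by
    intro k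
    induction k with
    | zero => intro x hx; simp [hx]
    | succ k ih =>
      intro x hx
      obtain ⟨h1, h2⟩ := ih x hx
      have h3 : g * (g ^ k * x * (g ^ k)⁻¹) * g⁻¹ = s * (g ^ k * x * (g ^ k)⁻¹) * s⁻¹ :=
        hgs ⟨_, h2⟩
      have e1 : g ^ (k + 1) * x * (g ^ (k + 1))⁻¹ = g * (g ^ k * x * (g ^ k)⁻¹) * g⁻¹ := by
        rw [pow_succ', mul_inv_rev]; simp only [mul_assoc]
      refine ⟨?_, ?_⟩
      · rw [e1, h3, h1, pow_succ', mul_inv_rev]
        simp only [mul_assoc]
      · rw [e1]; exact (mem_normalizer_iff.1 hg _).1 h2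
  obtain ⟨a, ha⟩ := (IsPGroup.iff_orderOf).1 S.2 ⟨s, hs⟩
  rw [← Subgroup.orderOf_coe] at ha
  obtain ⟨k, hk⟩ := exists_pow_eq_self_of_coprime (x := g) (n := 2 ^ a)
    (((Nat.coprime_comm.1 hgp).pow_left a))
  have h1 := (hiter (2 ^ a * k) q hq).1
  rw [pow_mul g, hk, pow_mul s, ← ha, pow_orderOf_eq_one] at h1
  simp only [one_pow, one_mul, inv_one, mul_one] at h1
  have := congrArg (· * g) h1
  simp only [inv_mul_cancel_right] at this
  exact this.symm

end Cfsg.Agent.FTConsumers.MetacyclicTwo
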