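import Cfsg.Agent.Lib.FTConsumers.InvariantMaximal
import Cfsg.Agent.Lib.FTConsumers.ClassTwoKey

/-!
# A nilpotent maximal invariant subgroup with Sylow 2-subgroups of class two, given the odd order
theorem
-/

set_option autoImplicit false
set_option linter.style.haveILetI false

namespace Cfsg.Agent.FTConsumers

open Subgroup
open scoped commutatorElement

universe u v

section Basics

variable {G : Type u} [Group G]

theorem mem_of_pow_mem_coprime {H : Subgroup G} {g : G} {a b : ℕ} (hab : a.Coprime b)
    (ha : g ^ a ∈ H) (hb : g ^ b ∈ H) : g ∈ H := by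
  have h : (g ^ a) ^ (a.gcdA b) * (g ^ b) ^ (a.gcdB b) = g := by
    rw [← zpow_natCast g a, ← zpow_natCast g b, ← zpow_mul, ← zpow_mul, ← zpow_add,
      ← Nat.gcd_eq_gcd_ab, hab]
    simp
  exact h ▸ mul_mem (zpow_mem ha _) (zpow_mem hb _)

/-- Every element lifts from a quotient along 2-elements. -/
theorem exists_two_element_lift [Finite G] {H : Type*} [Group H] (f : G →* H) (m : G)
    (h : ∃ k : ℕ, f m ^ 2 ^ k = 1) : ∃ m' ∈ zpowers m, (∃ k : ℕ, m' ^ 2 ^ k = 1) ∧ f m' = f m := by
  obtain ⟨k, hk⟩ := h
  obtain ⟨j, o, ho, e⟩ := Nat.exists_eq_two_pow_mul_odd (orderOf_pos m).ne'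
  have hco : o.Coprime (orderOf (f m)) :=
    Nat.Coprime.coprime_dvd_right (orderOf_dvd_of_pow_eq_one hk)
      ((Nat.coprime_two_right.2 ho).pow_right k)
  obtain ⟨i, hi⟩ := exists_pow_eq_self_of_coprime hco
  refine ⟨(m ^ o) ^ i, pow_mem (pow_mem (mem_zpowers m) o) i, ⟨j, ?_⟩,
    by rw [map_pow, map_pow]; exact hi⟩
  rw [← pow_mul, ← pow_mul, show o * (i * 2 ^ j) = orderOf m * i by rw [e]; ring, pow_mul,
    pow_orderOf_eq_one, one_pow]

/-- The restriction of an action to an invariant subgroup. -/
def restrictAct {A : Type v} [Group A] (φ : A →* MulAut G) (M : Subgroup G) (hM : Inv φ M) :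
    A →* MulAut M where
  toFun a :=
    { toFun := fun m => ⟨φ a m, hM a m m.2⟩
      invFun := fun m => ⟨φ a⁻¹ m, hM a⁻¹ m m.2⟩
      left_inv := fun m => Subtype.ext (by simp)
      right_inv := fun m => Subtype.ext (by simp)
      map_mul' := fun m n => Subtype.ext (by simp) }
  map_one' := by ext; simp
  map_mul' a b := by ext; simp

theorem coe_restrictAct {A : Type v} [Group A] (φ : A →* MulAut G) (M : Subgroup G) (hM : Inv φ M)
    (a : A) (m : M) : ((restrictAct φ M hM a m : M) : G) = φ a m := rfl

end Basics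

variable (hA : OddOrder.{v}) (hG : OddOrder.{u}) {A : Type v} [Group A] [Finite A]

include hA hG

theorem isSolvable_of_nilpotent_maximal_aux : ∀ (n : ℕ) (G : Type u) [Group G] [Finite G]
    (φ : A →* MulAut G) (M : Subgroup G), Nat.card G = n →
    (Nat.card A).Coprime (Nat.card G) → M ≠ ⊤ → Inv φ M →
    (∀ H : Subgroup G, M ≤ H → H ≠ ⊤ → Inv φ H → H = M) → Group.IsNilpotent M →
    (∀ a b c : M, (∃ k : ℕ, a ^ 2 ^ k = 1) → (∃ k : ℕ, b ^ 2 ^ k = 1) →
      (∃ k : ℕ, c ^ 2 ^ k = 1) → Commute ⁅a, b⁆ c) →
    Group.IsSolvable G := by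
  intro n
  induction n using Nat.strong_induction_on with
  | _ n ih =>
    intro G _ _ φ M hn hcop hMt hMi hmax hnil h2
    rcases isSolvable_or hA hG hcop with hAs | hGs
    swap
    · exact hGs
    haveI := hnil
    by_cases hcore : ∃ N : Subgroup G, N.Normal ∧ Inv φ N ∧ N ≠ ⊥ ∧ N ≤ M
    · obtain ⟨N, hNn, hNi, hN1, hNM⟩ := hcore
      have hs : Function.Surjective (QuotientGroup.mk' N) := QuotientGroup.mk'_surjective N
      have hlt : Nat.card (G ⧸ N) < n := by
        rw [← hn, card_eq_card_quotient_mul_card_subgroup N]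
        exact lt_mul_of_one_lt_right Nat.card_pos ((one_lt_card_iff_ne_bot N).2 hN1)
      have hcm : (M.map (QuotientGroup.mk' N)).comap (QuotientGroup.mk' N) = M :=
        comap_map_eq_self (by rw [QuotientGroup.ker_mk']; exact hNM)
      haveI : Group.IsNilpotent (M.map (QuotientGroup.mk' N)) :=
        Group.nilpotent_of_surjective ((QuotientGroup.mk' N).subgroupMap M)
          ((QuotientGroup.mk' N).subgroupMap_surjective M)
      haveI := ih _ hlt (G ⧸ N) (quotAct φ N hNi) (M.map (QuotientGroup.mk' N)) rfl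
        (hcop.coprime_dvd_right (card_quotient_dvd_card N))
        (fun e => hMt (by rw [← hcm, e, comap_top]))
        (by
          rintro a _ ⟨m, hm, rfl⟩
          exact ⟨φ a m, hMi a m hm, (quotAct_mk φ N hNi a m).symm⟩)
        (fun H hMH hH hHi => by
          rw [← map_comap_eq_self_of_surjective hs H,
            hmax (H.comap (QuotientGroup.mk' N)) (hcm ▸ comap_mono hMH)
              (fun e => hH (by rw [← map_comap_eq_self_of_surjective hs H, e, map_top_of_surjective _ hs]))
              (inv_comap_quotAct φ N hNi hHi)])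
        inferInstance
        (fun a b c ha hb hc => by
          set f := (QuotientGroup.mk' N).subgroupMap M
          have hf : Function.Surjective f := (QuotientGroup.mk' N).subgroupMap_surjective M
          have lift : ∀ z, (∃ k : ℕ, z ^ 2 ^ k = 1) →
              ∃ z' : M, (∃ k : ℕ, z' ^ 2 ^ k = 1) ∧ f z' = z := by
            intro z hz
            obtain ⟨m, rfl⟩ := hf z
            obtain ⟨m', -, hm'⟩ := exists_two_element_lift f m hz
            exact ⟨m', hm'⟩
          obtain ⟨a', ha', rfl⟩ := lift a ha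
          obtain ⟨b', hb', rfl⟩ := lift b hb
          obtain ⟨c', hc', rfl⟩ := lift c hc
          rw [← map_commutatorElement]
          exact (h2 a' b' c' ha' hb' hc').map f)
      haveI : Group.IsSolvable N := Group.isSolvable_of_isSolvable_injective (f := inclusion hNM) (inclusion_injective hNM)
      exact Group.isSolvable_of_ker_le_range N.subtype (QuotientGroup.mk' N)
        (by rw [QuotientGroup.ker_mk', range_subtype])
    simp only [not_exists, not_and] at hcore
    -- normalisers of invariant subgroups normalised by `M`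
    have hnorm : ∀ W : Subgroup G, W ≤ M → W ≠ ⊥ → Inv φ W → M ≤ normalizer (W : Set G) →
        normalizer (W : Set G) = M := fun W hWM hW1 hWi hMW =>
      hmax _ hMW (fun e => hcore W (normalizer_eq_top_iff.1 e) hWi hW1 hWM) (hWi.normalizer φ)
    have hcompl : ∀ q : (Nat.card M).primeFactors, ∃ (K : Subgroup G) (_ : K.Normal),
        K.Characteristic ∧ IsPGroup (q : ℕ) (G ⧸ K) ∧ ¬ (q : ℕ) ∣ Nat.card K := by
      rintro ⟨q, hq'⟩
      have hqp := Nat.prime_of_mem_primeFactors hq'
      have hqd := Nat.dvd_of_mem_primeFactors hq'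
      haveI := Fact.mk hqp
      obtain ⟨S0⟩ := (inferInstance : Nonempty (Sylow q M))
      haveI : (S0 : Subgroup M).Normal := inferInstance
      haveI := Sylow.unique_of_normal S0 inferInstance
      set Q : Subgroup G := (S0 : Subgroup M).map M.subtype with hQ
      have hQM : Q ≤ M := map_subtype_le _
      have hQp : IsPGroup q Q := S0.2.map _
      have hmemQ : ∀ {g : G}, g ∈ M → (∃ k : ℕ, g ^ q ^ k = 1) → g ∈ Q := by
        rintro g hg ⟨k, hk⟩
        obtain ⟨i, -, hi⟩ := (Nat.dvd_prime_pow hqp).1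
          (orderOf_dvd_of_pow_eq_one (show (⟨g, hg⟩ : M) ^ q ^ k = 1 from Subtype.ext hk))
        obtain ⟨S1, hS1⟩ := (IsPGroup.of_card (n := i) (by rw [Nat.card_zpowers, hi]) :
          IsPGroup q (zpowers (⟨g, hg⟩ : M))).exists_le_sylow
        rw [Subsingleton.elim S1 S0] at hS1
        exact ⟨⟨g, hg⟩, hS1 (mem_zpowers _), rfl⟩
      have hQ1 : Q ≠ ⊥ := by
        rw [hQ, Ne, map_eq_bot_iff_of_injective _ M.subtype_injective]
        exact S0.ne_bot_of_dvd_card hqd
      have hQi : Inv φ Q := by
        rintro a _ ⟨m, hm, rfl⟩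
        obtain ⟨k, hk⟩ := S0.2 ⟨m, hm⟩
        refine hmemQ (hMi a m m.2) ⟨k, ?_⟩
        rw [← map_pow, show M.subtype m ^ q ^ k = 1 by
          simpa using congrArg (fun t : (S0 : Subgroup M) => ((t : M) : G)) hk, map_one]
      have hMQ : M ≤ normalizer (Q : Set G) := by
        refine (normal_subgroupOf_iff_le_normalizer hQM).1 ?_
        rw [hQ, subgroupOf, comap_map_eq_self_of_injective M.subtype_injective]
        infer_instance
      have hNQ : normalizer (Q : Set G) = M := hnorm Q hQM hQ1 hQi hMQ
      obtain ⟨S, hS⟩ := hQp.exists_le_sylow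
      have hSQ : (S : Subgroup G) = Q := by
        by_contra hne
        haveI := S.2.isNilpotent
        have hlt : Q.subgroupOf (S : Subgroup G) < ⊤ := lt_top_iff_ne_top.2 fun e =>
          hne (le_antisymm (subgroupOf_eq_top.1 e) hS)
        obtain ⟨g, hg, hgQ⟩ := SetLike.exists_of_lt (normalizerCondition_of_isNilpotent _ hlt)
        have hgM : (g : G) ∈ M := by
          rw [← hNQ]
          refine mem_normalizer_iff.2 fun z => ⟨fun hz => ?_, fun hz => ?_⟩
          · simpa [mem_subgroupOf] using
              (mem_normalizer_iff.1 hg ⟨z, hS hz⟩).1 (mem_subgroupOf.2 hz)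
          · have hzS : z ∈ (S : Subgroup G) := by
              simpa [mul_assoc] using mul_mem (mul_mem (inv_mem g.2) (hS hz)) g.2
            exact mem_subgroupOf.1 ((mem_normalizer_iff.1 hg ⟨z, hzS⟩).2 (mem_subgroupOf.2 hz))
        obtain ⟨k, hk⟩ := S.2 g
        exact hgQ (mem_subgroupOf.2 (hmemQ hgM ⟨k, congrArg Subtype.val hk⟩))
      have hcomp : Cfsg.HasNormalPComplement q G := by
        by_cases hq2 : q = 2
        · subst hq2
          have hAodd : Odd (Nat.card A) := Nat.not_even_iff_odd.1 fun he => by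
            have h := Nat.dvd_gcd he.two_dvd (hqd.trans M.card_subgroup_dvd_card)
            rw [hcop] at h
            omega
          have hS2 : ∀ {g : G}, g ∈ (S : Subgroup G) → ∃ hg : g ∈ M, ∃ k : ℕ, (⟨g, hg⟩ : M) ^ 2 ^ k = 1 := by
            intro g hg
            obtain ⟨k, hk⟩ := S.2 ⟨g, hg⟩
            exact ⟨hQM (hSQ ▸ hg), k, Subtype.ext (congrArg Subtype.val hk : g ^ 2 ^ k = 1)⟩
          refine ClassTwo.hasNormalPComplement_of_class_two φ hAodd S
            (fun a z hz => by rw [hSQ] at hz ⊢; exact hQi a z hz) (fun a ha b hb => ?_)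
            fun W hWS hW1 hWi hSW n hn ho => ?_
          · refine mem_centralizer_iff.2 fun c hc => ?_
            obtain ⟨haM, ha2⟩ := hS2 ha
            obtain ⟨hbM, hb2⟩ := hS2 hb
            obtain ⟨hcM, hc2⟩ := hS2 hc
            exact (congrArg Subtype.val (h2 ⟨a, haM⟩ ⟨b, hbM⟩ ⟨c, hcM⟩ ha2 hb2 hc2).eq).symm
          · have hcompM : Cfsg.HasNormalPComplement 2 M :=
              PComplement.hasNormalPComplement_of_isNilpotent
            have hcent : ∀ m ∈ M, Odd (orderOf m) → m ∈ centralizer ((S : Subgroup G) : Set G) := by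
              intro m hm hmo
              refine Transfer.mem_centralizer_of_hasNormalPComplement S.2 ?_
                (by rw [hSQ, hNQ]; exact hm) (Nat.coprime_two_right.2 hmo)
              rw [hSQ, hNQ]
              exact hcompM
            have hWM : W ≤ M := hWS.trans (hSQ ▸ hQM)
            have hMW : M ≤ normalizer (W : Set G) := by
              intro m hm
              obtain ⟨k, o, ho', e⟩ := Nat.exists_eq_two_pow_mul_odd (orderOf_pos m).ne'
              refine mem_of_pow_mem_coprime ((Nat.coprime_two_left.2 ho').pow_left k) ?_ ?_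
              · refine centralizer_le_normalizer _ (centralizer_le hWS (hcent _ (pow_mem hm _) ?_))
                exact ho'.of_dvd_nat (orderOf_dvd_of_pow_eq_one (by rw [← pow_mul, ← e, pow_orderOf_eq_one]))
              · refine hSW ?_
                rw [hSQ]
                exact hmemQ (pow_mem hm _) ⟨k, by rw [← pow_mul, mul_comm, ← e, pow_orderOf_eq_one]⟩
            exact hcent n (hnorm W hWM hW1 hWi hMW ▸ hn) ho
        · refine PComplement.zjAComplement hq2 S ?_
          set Z := Cfsg.centerThompsonAOf (S : Subgroup G) with hZ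
          have hZS : Z ≤ S := Fusion.centerThompsonAOf_le _
          have hZ1 : Z ≠ ⊥ := by
            rw [hZ, ← PComplement.wOf_zjA]
            intro e
            haveI : Nontrivial (S : Subgroup G) := (nontrivial_iff_ne_bot _).2 (hSQ ▸ hQ1)
            refine (PComplement.isCharPFunctor_zjA (p := q)).1 _ S.2 inferInstance ?_
            refine map_injective (S : Subgroup G).subtype_injective ?_
            rw [Subgroup.map_bot]
            exact e
          have hSi : Inv φ (S : Subgroup G) := hSQ.symm ▸ hQi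
          have hMZ : M ≤ normalizer (Z : Set G) := by
            intro m hm
            refine Coprime.mem_normalizer_of_conj_smul_eq ?_
            show Z.map (MulAut.conj m).toMonoidHom = Z
            rw [hZ, ← Replacement.centerThompsonAOf_map_equiv]
            congr 1
            exact Coprime.conj_smul_eq_self_of_mem (hSQ.symm ▸ hMQ hm)
          rw [hnorm Z (hZS.trans (hSQ ▸ hQM)) hZ1 (Inv.centerThompsonA φ hSi) hMZ]
          exact PComplement.hasNormalPComplement_of_isNilpotent
      obtain ⟨P, K, hKn, hK⟩ := hcomp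
      haveI := hKn
      have hKq : ¬ q ∣ Nat.card K := by rw [← hK.index_eq_card]; exact P.not_dvd_index
      have hKi : K.index = Nat.card (P : Subgroup G) := hK.symm.index_eq_card
      refine ⟨K, hKn, characteristic_iff_map_le.2 fun e => le_of_coprime_index ?_, ?_, hKq⟩
      · obtain ⟨k, hk⟩ := P.2.exists_card_eq
        rw [card_map_of_injective e.injective, hKi, hk]
        exact ((hqp.coprime_iff_not_dvd.2 hKq).symm).pow_right k
      · obtain ⟨k, hk⟩ := P.2.exists_card_eq
        exact IsPGroup.of_card (n := k) (by rw [← index_eq_card, hKi, hk])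
    choose K hKn hKc hKp hKq using hcompl
    set L : Subgroup G := ⨅ q, K q with hL
    haveI : L.Normal := normal_iInf_normal hKn
    have hLi : Inv φ L := fun a x hx => mem_iInf.2 fun q =>
      (haveI := hKc q; Inv.of_characteristic φ (K q)) a x (mem_iInf.1 hx q)
    have hLM : L ⊓ M = ⊥ := by
      rw [eq_bot_iff]
      rintro x ⟨hxL, hxM⟩
      rw [mem_bot, ← orderOf_eq_one_iff]
      by_contra hne
      obtain ⟨q, hq, hqx⟩ := Nat.exists_prime_and_dvd hne
      have hqM : q ∈ (Nat.card M).primeFactors := Nat.mem_primeFactors.2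
        ⟨hq, hqx.trans (Subgroup.orderOf_dvd_natCard M hxM), Nat.card_pos.ne'⟩
      exact hKq ⟨q, hqM⟩
        (hqx.trans (Subgroup.orderOf_dvd_natCard _ (mem_iInf.1 hxL ⟨q, hqM⟩)))
    by_cases hLb : L = ⊥
    · haveI := hKn
      haveI : ∀ q : (Nat.card M).primeFactors, Group.IsNilpotent (G ⧸ K q) := fun q => by
        haveI := Fact.mk (Nat.prime_of_mem_primeFactors q.2)
        exact (hKp q).isNilpotent
      haveI : Group.IsNilpotent G := Subgroup.isNilpotent_of_ker_le_center
        (MonoidHom.pi fun q => QuotientGroup.mk' (K q)) (by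
          intro x hx
          have h : x ∈ L := mem_iInf.2 fun q => (QuotientGroup.eq_one_iff x).1 (congrFun hx q)
          rw [hLb, mem_bot] at h
          exact h ▸ one_mem _)
      infer_instance
    obtain ⟨r, hr, hrd⟩ := Nat.exists_prime_and_dvd
      (fun h1 => hLb (card_eq_one.1 h1) : Nat.card L ≠ 1)
    haveI := Fact.mk hr
    -- the group `M ⋊ A` acts coprimely on `L`
    set φM := restrictAct φ M hMi
    set f1 : M →* MulAut L := (MulAut.conjNormal (H := L)).comp M.subtype
    set ψ : M ⋊[φM] A →* MulAut L := SemidirectProduct.lift f1 (restrictAct φ L hLi) (fun a => by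
      ext m l
      simp [f1, φM, coe_restrictAct]
      exact (congrArg Subtype.val ((restrictAct φ L hLi a).apply_symm_apply l)).symm)
    haveI : Finite (M ⋊[φM] A) := Coprime.finite_semidirectProduct φM
    haveI : Group.IsSolvable (M ⋊[φM] A) :=
      Group.isSolvable_of_ker_le_range SemidirectProduct.inl SemidirectProduct.rightHom
        (by rw [SemidirectProduct.range_inl_eq_ker_rightHom])
    have hcopL : (Nat.card (M ⋊[φM] A)).Coprime (Nat.card L) := by
      rw [SemidirectProduct.card]
      refine Nat.Coprime.mul_left ?_ (hcop.coprime_dvd_right L.card_subgroup_dvd_card)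
      refine Nat.coprime_of_dvd' fun q hq hqM hqL => absurd ?_
        (hKq ⟨q, Nat.mem_primeFactors.2 ⟨hq, hqM, Nat.card_pos.ne'⟩⟩)
      exact hqL.trans (card_dvd_of_le (iInf_le _ _))
    obtain ⟨R, hR⟩ := Coprime.exists_invariant_sylow_hom ψ hcopL (Or.inl inferInstance) r
    set R' : Subgroup G := (R : Subgroup L).map L.subtype with hR'
    have hR'i : Inv φ R' := by
      rintro a _ ⟨l, hl, rfl⟩
      exact ⟨_, hR (SemidirectProduct.inr a) l hl, by simp [ψ, coe_restrictAct]⟩
    have hMR : M ≤ normalizer (R' : Set G) := by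
      intro m hm
      refine Coprime.mem_normalizer_of_conj_smul_eq (eq_of_le_of_card_ge ?_
        (Coprime.card_conj_smul m R').ge)
      rintro _ ⟨_, ⟨l, hl, rfl⟩, rfl⟩
      exact ⟨_, hR (SemidirectProduct.inl ⟨m, hm⟩) l hl, by simp [ψ, f1]⟩
    have hR'1 : R' ≠ ⊥ := by
      rw [hR', Ne, map_eq_bot_iff_of_injective _ L.subtype_injective]
      exact R.ne_bot_of_dvd_card hrd
    have htop : R' ⊔ M = ⊤ := by
      by_contra hne
      have h := hmax (R' ⊔ M) le_sup_right hne (Inv.sup φ hR'i hMi)
      exact hR'1 (eq_bot_iff.2 ((le_inf (map_subtype_le _) (h ▸ le_sup_left)).trans hLM.le))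
    have hR'n : normalizer (R' : Set G) = ⊤ := top_le_iff.1 (htop ▸ sup_le le_normalizer hMR)
    haveI : R'.Normal := normalizer_eq_top_iff.1 hR'n
    haveI : Group.IsNilpotent R' := (R.2.map L.subtype).isNilpotent
    haveI : Group.IsSolvable (G ⧸ R') := by
      refine Group.isSolvable_of_surjective (f := (QuotientGroup.mk' R').comp M.subtype) fun y => ?_
      obtain ⟨x, rfl⟩ := QuotientGroup.mk'_surjective R' y
      have hx : x ∈ M ⊔ R' := by rw [sup_comm, htop]; exact mem_top x
      rw [← SetLike.mem_coe, coe_mul_of_left_le_normalizer_right M R' hMR] at hx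
      obtain ⟨m, hm, t, ht, rfl⟩ := hx
      exact ⟨⟨m, hm⟩, by simp [(QuotientGroup.eq_one_iff t).2 ht]⟩
    exact Group.isSolvable_of_ker_le_range R'.subtype (QuotientGroup.mk' R')
      (by rw [QuotientGroup.ker_mk', range_subtype])

/-- S4038 given the odd order theorem. -/
theorem isSolvable_of_nilpotent_maximal {G : Type u} [Group G] [Finite G] (φ : A →* MulAut G)
    (hcop : (Nat.card A).Coprime (Nat.card G)) (M : Subgroup G) (hMtop : M ≠ ⊤)
    (hMinv : ∀ a : A, ∀ m : G, m ∈ M → φ a m ∈ M)
    (hMmax : ∀ H : Subgroup G, M ≤ H → H ≠ ⊤ → (∀ a : A, ∀ h : G, h ∈ H → φ a h ∈ H) → H = M)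
    (hnil : Group.IsNilpotent M)
    (h2 : ∀ S : Sylow 2 M, Group.nilpotencyClass (S : Subgroup M) ≤ 2) : Group.IsSolvable G := by
  haveI := hnil
  haveI : Fact (Nat.Prime 2) := ⟨Nat.prime_two⟩
  obtain ⟨S⟩ := (inferInstance : Nonempty (Sylow 2 M))
  haveI := Sylow.unique_of_normal S inferInstance
  have hmem : ∀ m : M, (∃ k : ℕ, m ^ 2 ^ k = 1) → m ∈ (S : Subgroup M) := by
    rintro m ⟨k, hk⟩
    obtain ⟨i, -, hi⟩ := (Nat.dvd_prime_pow Nat.prime_two).1 (orderOf_dvd_of_pow_eq_one hk)
    obtain ⟨S1, hS1⟩ := (IsPGroup.of_card (n := i) (by rw [Nat.card_zpowers, hi]) :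
      IsPGroup 2 (zpowers m)).exists_le_sylow
    rw [Subsingleton.elim S1 S] at hS1
    exact hS1 (mem_zpowers m)
  refine isSolvable_of_nilpotent_maximal_aux hA hG _ G φ M rfl hcop hMtop hMinv hMmax hnil
    fun a b c ha hb hc => ?_
  haveI := S.2.isNilpotent
  have htop := Subgroup.upperCentralSeries_eq_top_iff_nilpotencyClass_le.2 (h2 S)
  have h : ⁅(⟨a, hmem a ha⟩ : (S : Subgroup M)), ⟨b, hmem b hb⟩⁆ ∈
      Subgroup.upperCentralSeries (S : Subgroup M) 1 :=
    Subgroup.mem_upperCentralSeries_succ_iff.1 (htop ▸ mem_top _) _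
  rw [Subgroup.upperCentralSeries_one] at h
  exact (congrArg Subtype.val (mem_center_iff.1 h ⟨c, hmem c hc⟩)).symm

end Cfsg.Agent.FTConsumers
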