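import Cfsg.Agent.Lib.FTConsumers.Hyp
import Cfsg.Agent.Lib.Coprime.Sylow
import Cfsg.Agent.Lib.Solvable.Hall
import Cfsg.Prelude.Def_HallClasses

/-!
# Hall subgroups of π-separable groups and extensions of `C_π` groups, given the odd order theorem

* `exists_hall_dominating`: a π-separable group has a Hall π-subgroup containing a conjugate of every
  π-subgroup.
* `isCPiGroup_of_extension`: `C_π` is closed under extensions.
-/

set_option autoImplicit false
set_option linter.style.haveILetI false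

namespace Cfsg.Agent.FTConsumers

open Subgroup
open scoped Pointwise

universe u

/-- All prime divisors lie in `π`. -/
def PiNum (π : Set ℕ) (n : ℕ) : Prop := ∀ q : ℕ, q.Prime → q ∣ n → q ∈ π

/-- No prime divisor lies in `π`. -/
def PiFree (π : Set ℕ) (n : ℕ) : Prop := ∀ q : ℕ, q.Prime → q ∈ π → ¬ q ∣ n

variable {π : Set ℕ}

theorem PiNum.of_dvd {m n : ℕ} (h : PiNum π n) (hmn : m ∣ n) : PiNum π m :=
  fun q hq hqm => h q hq (hqm.trans hmn)

theorem PiFree.of_dvd {m n : ℕ} (h : PiFree π n) (hmn : m ∣ n) : PiFree π m :=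
  fun q hq hqπ hqm => h q hq hqπ (hqm.trans hmn)

theorem PiNum.mul {m n : ℕ} (hm : PiNum π m) (hn : PiNum π n) : PiNum π (m * n) :=
  fun q hq h => (hq.dvd_mul.1 h).elim (hm q hq) (hn q hq)

theorem PiFree.mul {m n : ℕ} (hm : PiFree π m) (hn : PiFree π n) : PiFree π (m * n) :=
  fun q hq hqπ h => (hq.dvd_mul.1 h).elim (hm q hq hqπ) (hn q hq hqπ)

theorem piFree_one : PiFree π 1 := fun q hq _ h => hq.ne_one (Nat.dvd_one.1 h)

theorem coprime_of_num_free {m n : ℕ} (hm : PiNum π m) (hn : PiFree π n) : m.Coprime n :=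
  Nat.coprime_of_dvd fun q hq hqm hqn => hn q hq (hm q hq hqm) hqn

section Tools

variable {G : Type*} [Group G]

theorem isPiHall_iff {H : Subgroup G} :
    Cfsg.IsPiHall π H ↔ PiNum π (Nat.card H) ∧ PiFree π H.index := Iff.rfl

theorem card_mul_relIndex {H K : Subgroup G} (h : H ≤ K) :
    Nat.card H * H.relIndex K = Nat.card K := by
  have := relIndex_mul_relIndex ⊥ H K bot_le h
  rwa [relIndex_bot_left, relIndex_bot_left] at this

theorem map_conj_eq_smul (g : G) (H : Subgroup G) :
    H.map (MulAut.conj g).toMonoidHom = MulAut.conj g • H := rfl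

theorem isPiHall_conj [Finite G] {H : Subgroup G} (h : Cfsg.IsPiHall π H) (g : G) :
    Cfsg.IsPiHall π (MulAut.conj g • H) := by
  rw [isPiHall_iff, Coprime.card_conj_smul] at *
  refine ⟨h.1, ?_⟩
  have h1 := card_mul_index (MulAut.conj g • H)
  rw [Coprime.card_conj_smul, ← card_mul_index H] at h1
  rw [Nat.eq_of_mul_eq_mul_left Nat.card_pos h1]
  exact h.2

theorem card_eq_of_isPiHall [Finite G] {H K : Subgroup G} (hH : Cfsg.IsPiHall π H)
    (hK : Cfsg.IsPiHall π K) : Nat.card H = Nat.card K := by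
  refine Nat.dvd_antisymm ?_ ?_
  · refine (coprime_of_num_free hH.1 hK.2).dvd_of_dvd_mul_right (?_ : Nat.card H ∣ Nat.card K * _)
    rw [card_mul_index]
    exact card_subgroup_dvd_card H
  · refine (coprime_of_num_free hK.1 hH.2).dvd_of_dvd_mul_right (?_ : Nat.card K ∣ Nat.card H * _)
    rw [card_mul_index]
    exact card_subgroup_dvd_card K

theorem isPiHall_map [Finite G] {H : Subgroup G} (h : Cfsg.IsPiHall π H) (N : Subgroup G) [N.Normal] :
    Cfsg.IsPiHall π (H.map (QuotientGroup.mk' N)) :=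
  ⟨PiNum.of_dvd h.1 (card_map_dvd _ _),
    PiFree.of_dvd h.2 (H.index_map_dvd (QuotientGroup.mk'_surjective N))⟩

/-- `[A : H ∩ A] ∣ [G : H]` for normal `A`. -/
theorem relIndex_dvd_index_of_normal_right [Finite G] (H A : Subgroup G) [A.Normal] :
    H.relIndex A ∣ H.index := by
  refine dvd_trans ?_ (relIndex_dvd_index_of_le (le_sup_left : H ≤ H ⊔ A))
  have h1 := card_mul_relIndex (le_sup_right : A ≤ H ⊔ A)
  rw [relIndex_sup_right] at h1
  have h2 := card_mul_relIndex (inf_le_left : H ⊓ A ≤ H)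
  rw [inf_relIndex_left] at h2
  have h3 := card_mul_relIndex (inf_le_right : H ⊓ A ≤ A)
  rw [inf_relIndex_right] at h3
  have h4 := card_mul_relIndex (le_sup_left : H ≤ H ⊔ A)
  rw [← h1, ← h2, ← h3] at h4
  refine dvd_of_eq (Nat.eq_of_mul_eq_mul_left
    (n := Nat.card (H ⊓ A : Subgroup G) * A.relIndex H)
    (Nat.mul_pos Nat.card_pos (Nat.pos_of_ne_zero index_ne_zero_of_finite)) ?_).symm
  exact h4.trans (mul_right_comm _ _ _)

theorem isPiHall_subgroupOf [Finite G] {H : Subgroup G} (h : Cfsg.IsPiHall π H) (A : Subgroup G)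
    [A.Normal] : Cfsg.IsPiHall π (H.subgroupOf A) := by
  refine ⟨PiNum.of_dvd h.1 ?_, PiFree.of_dvd h.2 (relIndex_dvd_index_of_normal_right H A)⟩
  rw [← inf_subgroupOf_right, Coprime.card_subgroupOf inf_le_right]
  exact card_dvd_of_le inf_le_left

/-- Hall π-subgroups of `A`, pushed into `G`, are conjugate under `A`. -/
theorem exists_conj_of_isCPiGroup {A : Subgroup G} (hA : Cfsg.IsCPiGroup π A) {P Q : Subgroup G}
    (hP : P ≤ A) (hQ : Q ≤ A) (hP' : Cfsg.IsPiHall π (P.subgroupOf A))
    (hQ' : Cfsg.IsPiHall π (Q.subgroupOf A)) : ∃ a ∈ A, MulAut.conj a • P = Q := by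
  obtain ⟨a, ha⟩ := hA.2 _ _ hP' hQ'
  exact ⟨a, a.2, Coprime.conj_smul_of_subgroupOf hP hQ a ha.symm⟩

end Tools

/-- A normal series with π- and π'-factors. -/
def PiSeries (π : Set ℕ) (G : Type*) [Group G] : Prop :=
  ∃ (n : ℕ) (H : Fin (n + 1) → Subgroup G), H 0 = ⊥ ∧ H (Fin.last n) = ⊤ ∧ Monotone H ∧
    (∀ i, (H i).Normal) ∧
    ∀ i : Fin n, PiNum π ((H i.castSucc).relIndex (H i.succ)) ∨
      ∀ q : ℕ, q.Prime → q ∣ (H i.castSucc).relIndex (H i.succ) → q ∉ π

theorem piSeries_quotient {G : Type*} [Group G] (h : PiSeries π G) (N : Subgroup G) [N.Normal] :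
    PiSeries π (G ⧸ N) := by
  obtain ⟨n, H, h0, h1, hm, hn, hf⟩ := h
  have hs := QuotientGroup.mk'_surjective N
  have hdvd : ∀ i : Fin n, ((H i.castSucc).map (QuotientGroup.mk' N)).relIndex
      ((H i.succ).map (QuotientGroup.mk' N)) ∣ (H i.castSucc).relIndex (H i.succ) := by
    intro i
    haveI := hn i.castSucc
    have hle : H i.castSucc ≤ H i.succ := hm i.castSucc_le_succ
    have e : H i.succ ⊔ N = H i.succ ⊔ (H i.castSucc ⊔ N) := by
      rw [← sup_assoc, sup_eq_left.2 hle]
    rw [relIndex_map_map, QuotientGroup.ker_mk', e, relIndex_sup_right]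
    exact relIndex_dvd_of_le_left _ le_sup_left
  refine ⟨n, fun i => (H i).map (QuotientGroup.mk' N), ?_, ?_, fun a b hab => map_mono (hm hab),
    fun i => (hn i).map _ hs, fun i => ?_⟩
  · simp [h0]
  · simp [h1, map_top_of_surjective _ hs]
  · rcases hf i with h | h
    · exact Or.inl (h.of_dvd (hdvd i))
    · exact Or.inr fun q hq hqd => h q hq (hqd.trans (hdvd i))

/-- The bottom nontrivial term of the series. -/
theorem PiSeries.exists_normal {G : Type*} [Group G] [Nontrivial G] (h : PiSeries π G) :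
    ∃ N : Subgroup G, N.Normal ∧ N ≠ ⊥ ∧ (PiNum π (Nat.card N) ∨ PiFree π (Nat.card N)) := by
  obtain ⟨n, H, h0, h1, -, hn, hf⟩ := h
  obtain ⟨i, hi, hi'⟩ : ∃ i : Fin n, H i.castSucc = ⊥ ∧ H i.succ ≠ ⊥ := by
    by_contra hcon
    have hall : ∀ j : Fin (n + 1), H j = ⊥ := fun j => Fin.induction h0
      (fun i hi => by_contra fun hne => hcon ⟨i, hi, hne⟩) j
    exact bot_ne_top ((hall (Fin.last n)).symm.trans h1)
  refine ⟨H i.succ, hn _, hi', ?_⟩
  have h2 := hf i
  rw [hi, relIndex_bot_left] at h2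
  exact h2.imp_right fun h q hq hqπ hqd => h q hq hqd hqπ

variable (hFT : OddOrder.{u})

include hFT

theorem exists_hall_dominating_aux : ∀ (k : ℕ) (G : Type u) [Group G] [Finite G],
    Nat.card G = k → PiSeries π G →
    ∃ K : Subgroup G, Cfsg.IsPiHall π K ∧
      ∀ U : Subgroup G, PiNum π (Nat.card U) → ∃ g : G, U ≤ MulAut.conj g • K := by
  intro k
  induction k using Nat.strong_induction_on with
  | _ k ih =>
    intro G _ _ hk hser
    rcases subsingleton_or_nontrivial G with hsub | hnt
    · refine ⟨⊤, isPiHall_iff.2 ⟨?_, ?_⟩, fun U _ => ⟨1, by simp⟩⟩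
      · rw [card_top, Nat.card_unique]
        exact fun q hq h => absurd (Nat.dvd_one.1 h) hq.ne_one
      · rw [index_top]
        exact piFree_one
    obtain ⟨N, hNn, hN, hNπ⟩ := hser.exists_normal
    set f := QuotientGroup.mk' N with hf
    have hfs := QuotientGroup.mk'_surjective N
    have hlt : Nat.card (G ⧸ N) < k := by
      rw [← hk, ← Solvable.card_quotient_mul_card N]
      exact lt_mul_of_one_lt_right Nat.card_pos ((one_lt_card_iff_ne_bot N).2 hN)
    obtain ⟨L, hL, hdom⟩ := ih _ hlt (G ⧸ N) rfl (piSeries_quotient hser N)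
    set K₁ := L.comap f with hK₁
    have hc : Nat.card K₁ = Nat.card N * Nat.card L := Solvable.card_comap_quotient N L
    have hidx : K₁.index = L.index := index_comap_of_surjective _ hfs
    have hmove : ∀ U : Subgroup G, PiNum π (Nat.card U) → ∃ g : G, U ≤ MulAut.conj g • K₁ := by
      intro U hU
      obtain ⟨g, hg⟩ := hdom (U.map f) (hU.of_dvd (card_map_dvd _ _))
      obtain ⟨g, rfl⟩ := hfs g
      refine ⟨g, fun x hx => ?_⟩
      have h1 := hg (mem_map_of_mem f hx)
      rw [Coprime.mem_conj_smul_iff] at h1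
      rw [Coprime.mem_conj_smul_iff, hK₁, mem_comap, map_mul, map_mul, map_inv]
      exact h1
    rcases hNπ with hπ | hfree
    · exact ⟨K₁, isPiHall_iff.2 ⟨hc ▸ hπ.mul hL.1, hidx ▸ hL.2⟩, hmove⟩
    have hNK : N ≤ K₁ := QuotientGroup.le_comap_mk' N L
    let N₀ := N.subgroupOf K₁
    haveI : N₀.Normal := hNn.subgroupOf _
    have hN₀c : Nat.card N₀ = Nat.card N := Coprime.card_subgroupOf hNK
    have hN₀i : N₀.index = Nat.card L := by
      refine Nat.eq_of_mul_eq_mul_left (Nat.card_pos (α := N₀)) ?_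
      rw [card_mul_index, hN₀c, hc]
    obtain ⟨C₀, hC₀⟩ := exists_right_complement'_of_coprime (N := N₀)
      (by rw [hN₀c, hN₀i]; exact (coprime_of_num_free hL.1 hfree).symm)
    let K := C₀.map K₁.subtype
    have hKc : Nat.card K = Nat.card L := by
      rw [card_map_of_injective K₁.subtype_injective, ← hC₀.symm.index_eq_card, hN₀i]
    have hKN : K₁ ≤ K ⊔ N := by
      intro x hx
      have h1 : (⟨x, hx⟩ : K₁) ∈ C₀ ⊔ N₀ := by
        rw [sup_comm, hC₀.sup_eq_top]
        exact mem_top _
      have h2 := mem_map_of_mem K₁.subtype h1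
      rw [Subgroup.map_sup] at h2
      rw [map_subgroupOf_eq_of_le hNK] at h2
      exact h2
    have hKH : Cfsg.IsPiHall π K := by
      refine isPiHall_iff.2 ⟨hKc ▸ hL.1, ?_⟩
      have h1 : Nat.card K * K.index = Nat.card L * (Nat.card N * L.index) := by
        rw [card_mul_index, ← card_mul_index K₁, hc, hidx]
        ring
      rw [hKc] at h1
      rw [Nat.eq_of_mul_eq_mul_left Nat.card_pos h1]
      exact hfree.mul hL.2
    refine ⟨K, hKH, fun U hU => ?_⟩
    obtain ⟨g, hg⟩ := hmove U hU
    have hU' : MulAut.conj g⁻¹ • U ≤ K ⊔ N := by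
      intro x hx
      refine hKN ?_
      rw [Coprime.mem_conj_smul_iff, inv_inv] at hx
      have := hg hx
      rw [Coprime.mem_conj_smul_iff] at this
      convert this using 1
      group
    obtain ⟨n, -, hn⟩ := exists_le_conj_of_le_sup hFT (normalizer_eq_top (H := N) ▸ le_top) hU'
      (coprime_of_num_free hKH.1 hfree)
      (by rw [Coprime.card_conj_smul]; exact coprime_of_num_free hU hfree)
    refine ⟨g * n, ?_⟩
    rw [← Coprime.conj_smul_smul]
    intro x hx
    rw [Coprime.mem_conj_smul_iff]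
    refine hn ?_
    rw [Coprime.mem_conj_smul_iff, inv_inv]
    convert hx using 1
    group

/-- A π-separable group has a Hall π-subgroup containing a conjugate of every π-subgroup. -/
theorem exists_hall_dominating {G : Type u} [Group G] [Finite G] (h : PiSeries π G) :
    ∃ K : Subgroup G, Cfsg.IsPiHall π K ∧
      ∀ U : Subgroup G, PiNum π (Nat.card U) → ∃ g : G, U ≤ MulAut.conj g • K :=
  exists_hall_dominating_aux hFT _ G rfl h

/-- The three `D_π` assertions. -/
theorem dPi_of_piSeries {G : Type u} [Group G] [Finite G] (h : PiSeries π G) :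
    (∃ K : Subgroup G, Cfsg.IsPiHall π K) ∧
      (∀ K L : Subgroup G, Cfsg.IsPiHall π K → Cfsg.IsPiHall π L →
        ∃ g : G, L = K.map (MulAut.conj g).toMonoidHom) ∧
      ∀ U : Subgroup G, PiNum π (Nat.card U) → ∃ K : Subgroup G, Cfsg.IsPiHall π K ∧ U ≤ K := by
  obtain ⟨K₀, hK₀, hdom⟩ := exists_hall_dominating hFT h
  refine ⟨⟨K₀, hK₀⟩, fun K L hK hL => ?_, fun U hU => ?_⟩
  · have key : ∀ K : Subgroup G, Cfsg.IsPiHall π K → ∃ g : G, K = MulAut.conj g • K₀ := by
      intro K hK
      obtain ⟨g, hg⟩ := hdom K hK.1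
      exact ⟨g, eq_of_le_of_card_ge hg
        (by rw [Coprime.card_conj_smul, card_eq_of_isPiHall hK hK₀])⟩
    obtain ⟨a, rfl⟩ := key K hK
    obtain ⟨b, rfl⟩ := key L hL
    refine ⟨b * a⁻¹, ?_⟩
    rw [map_conj_eq_smul, Coprime.conj_smul_smul, inv_mul_cancel_right]
  · obtain ⟨g, hg⟩ := hdom U hU
    exact ⟨_, isPiHall_conj hK₀ g, hg⟩

/-- `C_π` is closed under extensions. -/
theorem isCPiGroup_of_extension {G : Type u} [Group G] [Finite G] (A : Subgroup G) [A.Normal]
    (hA : Cfsg.IsCPiGroup π A) (hQ : Cfsg.IsCPiGroup π (G ⧸ A)) : Cfsg.IsCPiGroup π G := by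
  set f := QuotientGroup.mk' A with hf
  have hfs := QuotientGroup.mk'_surjective A
  -- in `N(P)` modulo `P`
  have hfrat : ∀ (K₁ P : Subgroup G), A ≤ K₁ → P ≤ A → Cfsg.IsPiHall π (P.subgroupOf A) →
      K₁ ≤ A ⊔ (K₁ ⊓ normalizer (P : Set G)) := by
    intro K₁ P hAK hPA hP k hk
    have hkA : MulAut.conj k • P ≤ A := by
      intro x hx
      rw [Coprime.mem_conj_smul_iff] at hx
      simpa [mul_assoc] using (inferInstance : A.Normal).conj_mem _ (hPA hx) k
    have hkP : Cfsg.IsPiHall π ((MulAut.conj k • P).subgroupOf A) := by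
      have hc : Nat.card ((MulAut.conj k • P).subgroupOf A) = Nat.card (P.subgroupOf A) := by
        rw [Coprime.card_subgroupOf hkA, Coprime.card_subgroupOf hPA, Coprime.card_conj_smul]
      refine isPiHall_iff.2 ⟨hc ▸ hP.1, ?_⟩
      have h1 := card_mul_index ((MulAut.conj k • P).subgroupOf A)
      rw [hc, ← card_mul_index (P.subgroupOf A)] at h1
      rw [Nat.eq_of_mul_eq_mul_left Nat.card_pos h1]
      exact hP.2
    obtain ⟨a, ha, hak⟩ := exists_conj_of_isCPiGroup hA hPA hkA hP hkP
    have h2 : a⁻¹ * k ∈ normalizer (P : Set G) := by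
      refine Coprime.mem_normalizer_of_conj_smul_eq ?_
      rw [← Coprime.conj_smul_smul, ← hak, Coprime.conj_smul_smul, inv_mul_cancel, map_one,
        one_smul]
    simpa using mul_mem (mem_sup_left ha : a ∈ A ⊔ (K₁ ⊓ normalizer (P : Set G)))
      (mem_sup_right (Subgroup.mem_inf.2 ⟨K₁.mul_mem (K₁.inv_mem (hAK ha)) hk, h2⟩))
  refine ⟨?_, ?_⟩
  · obtain ⟨P', hP'⟩ := hA.1
    obtain ⟨Kb, hKb⟩ := hQ.1
    set P := P'.map A.subtype with hPdef
    have hPA : P ≤ A := map_subtype_le P'
    have hPs : P.subgroupOf A = P' := by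
      rw [hPdef, subgroupOf, comap_map_eq_self_of_injective A.subtype_injective]
    set K₁ := Kb.comap f with hK₁
    set L := K₁ ⊓ normalizer (P : Set G) with hLdef
    have hAK : A ≤ K₁ := QuotientGroup.le_comap_mk' A Kb
    have hPL : P ≤ L := le_inf (hPA.trans hAK) le_normalizer
    haveI : (P.subgroupOf L).Normal := Coprime.normal_subgroupOf_of_le_normalizer inf_le_right
    set g := QuotientGroup.mk' (P.subgroupOf L) with hg
    haveI : (A.subgroupOf L).Normal := (inferInstance : A.Normal).subgroupOf _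
    haveI : ((A.subgroupOf L).map g).Normal :=
      (inferInstance : (A.subgroupOf L).Normal).map g (QuotientGroup.mk'_surjective _)
    have hker : g.ker ≤ A.subgroupOf L := by
      rw [hg, QuotientGroup.ker_mk']
      exact fun x hx => hPA hx
    have hMi : ((A.subgroupOf L).map g).index = Nat.card Kb := by
      rw [Subgroup.index_map_eq _ (QuotientGroup.mk'_surjective _) hker]
      show A.relIndex L = _
      have e : A ⊔ L = K₁ :=
        le_antisymm (sup_le hAK inf_le_left) (hfrat K₁ P hAK hPA (hPs.symm ▸ hP'))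
      rw [← relIndex_sup_left (K := A) (H := L), e]
      refine Nat.eq_of_mul_eq_mul_left (Nat.card_pos (α := A)) ?_
      rw [card_mul_relIndex hAK, hK₁, Solvable.card_comap_quotient]
    have hMc : Nat.card ((A.subgroupOf L).map g) ∣ P.relIndex A := by
      have h1 := relIndex_map_map g ⊥ (A.subgroupOf L)
      rw [Subgroup.map_bot, relIndex_bot_left, bot_sup_eq, sup_eq_left.2 hker, hg,
        QuotientGroup.ker_mk'] at h1
      rw [h1, subgroupOf, subgroupOf, relIndex_comap, map_comap_eq, range_subtype, inf_comm]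
      exact Dvd.intro _ (relIndex_mul_relIndex P (A ⊓ L) A (le_inf hPA hPL) inf_le_left)
    have hPr : PiFree π (P.relIndex A) := by
      show PiFree π (P.subgroupOf A).index
      rw [hPs]
      exact hP'.2
    obtain ⟨C, hC⟩ := exists_right_complement'_of_coprime (N := (A.subgroupOf L).map g)
      (by rw [hMi]; exact (coprime_of_num_free hKb.1 (hPr.of_dvd hMc)).symm)
    have hCc : Nat.card C = Nat.card Kb := by rw [← hC.symm.index_eq_card, hMi]
    let K := (C.comap g).map L.subtype
    have hKc : Nat.card K = Nat.card P * Nat.card Kb := by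
      rw [card_map_of_injective L.subtype_injective, hg, Solvable.card_comap_quotient,
        Coprime.card_subgroupOf hPL, hCc]
    refine ⟨K, isPiHall_iff.2 ⟨?_, ?_⟩⟩
    · rw [hKc]
      refine PiNum.mul ?_ hKb.1
      rw [hPdef, card_map_of_injective A.subtype_injective]
      exact hP'.1
    · have h1 : Nat.card K * K.index =
          Nat.card P * Nat.card Kb * (P.relIndex A * Kb.index) := by
        rw [card_mul_index, ← card_mul_index K₁, hK₁, Solvable.card_comap_quotient,
          index_comap_of_surjective _ hfs, ← card_mul_relIndex hPA]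
        ring
      rw [hKc] at h1
      rw [Nat.eq_of_mul_eq_mul_left (Nat.mul_pos Nat.card_pos Nat.card_pos) h1]
      exact hPr.mul hKb.2
  · intro H₀ K hH₀ hK
    obtain ⟨x, hx⟩ := hQ.2 _ _ (isPiHall_map hH₀ A) (isPiHall_map hK A)
    obtain ⟨x, rfl⟩ := hfs x
    -- same image
    set H₁ := MulAut.conj x • H₀ with hH₁def
    have hH₁ : Cfsg.IsPiHall π H₁ := isPiHall_conj hH₀ x
    have hsup₁ : H₁ ⊔ A = K ⊔ A := by
      have h1 : H₁.map f = K.map f := by
        rw [hH₁def, Coprime.map_conj_smul, ← map_conj_eq_smul]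
        exact hx.symm
      rw [← QuotientGroup.ker_mk' A, ← comap_map_eq, ← comap_map_eq, h1]
    -- same intersection
    have hsub : ∀ X : Subgroup G, (X ⊓ A).subgroupOf A = X.subgroupOf A := fun X =>
      inf_subgroupOf_right X A
    obtain ⟨a, ha, hP⟩ := exists_conj_of_isCPiGroup hA (inf_le_right : H₁ ⊓ A ≤ A) inf_le_right
      ((hsub H₁).symm ▸ isPiHall_subgroupOf hH₁ A) ((hsub K).symm ▸ isPiHall_subgroupOf hK A)
    set H := MulAut.conj a • H₁ with hHdef
    have hH : Cfsg.IsPiHall π H := isPiHall_conj hH₁ a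
    have hAfix : ∀ c : G, MulAut.conj c • A = A := fun c => by
      refine Coprime.conj_smul_eq_self_of_mem ?_
      rw [normalizer_eq_top]
      exact mem_top c
    have hHP : H ⊓ A = K ⊓ A := by
      rw [← hP, smul_inf, hAfix, ← hHdef]
    have hsup : H ⊔ A = K ⊔ A := by
      rw [← hsup₁, hHdef]
      conv_lhs => rw [← hAfix a, ← smul_sup]
      refine Coprime.conj_smul_eq_self_of_mem (le_normalizer ?_)
      exact mem_sup_right ha
    set P := K ⊓ A with hPdef
    set L := (K ⊔ A) ⊓ normalizer (P : Set G) with hLdef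
    have hNP : ∀ X : Subgroup G, X ≤ normalizer ((X ⊓ A : Subgroup G) : Set G) := fun X y hy =>
      inf_normalizer_le_normalizer_inf ⟨le_normalizer hy,
        by rw [normalizer_eq_top]; exact mem_top y⟩
    have hKL : K ≤ L := le_inf le_sup_left (hNP K)
    have hHL : H ≤ L := le_inf (hsup ▸ le_sup_left) (hHP ▸ hNP H)
    haveI : (P.subgroupOf L).Normal := Coprime.normal_subgroupOf_of_le_normalizer inf_le_right
    set g := QuotientGroup.mk' (P.subgroupOf L) with hg
    haveI : (A.subgroupOf L).Normal := (inferInstance : A.Normal).subgroupOf _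
    set M := (A.subgroupOf L).map g with hMdef
    haveI : M.Normal :=
      (inferInstance : (A.subgroupOf L).Normal).map g (QuotientGroup.mk'_surjective _)
    have hPker : ∀ X : Subgroup G, P ≤ X → g.ker ≤ X.subgroupOf L := by
      intro X hX
      rw [hg, QuotientGroup.ker_mk']
      exact fun y hy => hX hy
    have hbar : ∀ X : Subgroup G, X ≤ L → P ≤ X →
        Nat.card P * Nat.card ((X.subgroupOf L).map g) = Nat.card X := by
      intro X hXL hPX
      rw [← Coprime.card_subgroupOf hXL, ← Coprime.card_subgroupOf (hPX.trans hXL), hg,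
        ← Solvable.card_comap_quotient, comap_map_eq_self]
      exact hPker X hPX
    have hle : (K.subgroupOf L).map g ≤ (H.subgroupOf L).map g ⊔ M := by
      rw [hMdef, ← Subgroup.map_sup]
      refine map_mono fun y hy => ?_
      have hy' : (y : G) ∈ H ⊔ A := hsup ▸ mem_sup_left hy
      obtain ⟨h, hh, c, hc, he⟩ := mem_sup_of_normal_right.1 hy'
      have hcL : c ∈ L := by
        have : c = h⁻¹ * y := by rw [← he, inv_mul_cancel_left]
        rw [this]
        exact mul_mem (inv_mem (hHL hh)) y.2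
      have e : y = (⟨h, hHL hh⟩ : L) * ⟨c, hcL⟩ := Subtype.ext he.symm
      rw [e]
      exact mul_mem_sup (show _ ∈ H.subgroupOf L from hh) (show _ ∈ A.subgroupOf L from hc)
    have hMfree : PiFree π (Nat.card M) := by
      refine (?_ : PiFree π (P.relIndex A)).of_dvd ?_
      · show PiFree π (P.subgroupOf A).index
        rw [hPdef, hsub]
        exact (isPiHall_subgroupOf hK A).2
      · have h1 := relIndex_map_map g ⊥ (A.subgroupOf L)
        rw [Subgroup.map_bot, relIndex_bot_left, bot_sup_eq, sup_eq_left.2 (hPker A inf_le_right), hg,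
          QuotientGroup.ker_mk'] at h1
        rw [hMdef, h1, subgroupOf, subgroupOf, relIndex_comap, map_comap_eq, range_subtype,
          inf_comm]
        exact Dvd.intro _ (relIndex_mul_relIndex P (A ⊓ L) A
          (le_inf inf_le_right (le_trans inf_le_left hKL)) inf_le_left)
    have hPH : P ≤ H := hHP ▸ inf_le_left
    have hcard : Nat.card ((K.subgroupOf L).map g) = Nat.card ((H.subgroupOf L).map g) := by
      refine Nat.eq_of_mul_eq_mul_left (Nat.card_pos (α := P)) ?_
      rw [hbar K hKL inf_le_left, hbar H hHL hPH, card_eq_of_isPiHall hK hH]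
    obtain ⟨c, -, hc⟩ := exists_conj_eq_of_le_sup hFT (N := M)
      (by rw [normalizer_eq_top]; exact le_top) hle hcard
      (coprime_of_num_free (PiNum.of_dvd hH.1 (Dvd.intro_left _ (hbar H hHL hPH))) hMfree)
    obtain ⟨c, rfl⟩ := QuotientGroup.mk'_surjective _ c
    have h3 : MulAut.conj c • (H.subgroupOf L) = K.subgroupOf L := by
      have h4 : (MulAut.conj c • H.subgroupOf L).map g = (K.subgroupOf L).map g := by
        rw [Coprime.map_conj_smul]
        exact hc
      have hkc : g.ker ≤ MulAut.conj c • H.subgroupOf L := by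
        intro y hy
        rw [Coprime.mem_conj_smul_iff]
        refine hPker H hPH ?_
        simpa [mul_assoc] using (MonoidHom.normal_ker g).conj_mem y hy c⁻¹
      rw [← comap_map_eq_self hkc, h4, comap_map_eq_self (hPker K inf_le_left)]
    refine ⟨(c : G) * a * x, ?_⟩
    rw [map_conj_eq_smul, ← Coprime.conj_smul_smul, ← Coprime.conj_smul_smul, ← hH₁def, ← hHdef]
    exact (Coprime.conj_smul_of_subgroupOf hHL hKL c h3).symm

end Cfsg.Agent.FTConsumers
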