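import Cfsg.Agent.Lib.FTConsumers.ComponentOfInvolution
import Cfsg.Agent.Lib.Components.PComponents

/-!
# A standard subgroup centralised by an involution

Given the odd order theorem: if `O(G) = 1` and an involution `t` centralises the standard subgroup `A`,
then `A` is normal, or `E(G)` is simple and contains `A`, or `E(G) = X × Xᵗ` with `X ≅ A` simple and
`C(A) = ⟨t⟩`.
-/

set_option autoImplicit false
set_option linter.style.haveILetI false

namespace Cfsg.Agent.FTConsumers.StandardInvolution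

open Subgroup Cfsg Cfsg.Agent.Components
open scoped commutatorElement

universe u

variable {G : Type u} [Group G] [Finite G]

theorem pLayer_eq_layer (hO : oddCore G = ⊥) : pLayer 2 G = layer G := by
  haveI : Fact (Nat.Prime 2) := ⟨Nat.prime_two⟩
  have hinj : Function.Injective (QuotientGroup.mk' (pPrimeCore 2 G)) := by
    rw [← MonoidHom.ker_eq_bot_iff, QuotientGroup.ker_mk']; exact hO
  let e : G ≃* G ⧸ pPrimeCore 2 G :=
    MulEquiv.ofBijective (QuotientGroup.mk' (pPrimeCore 2 G)) ⟨hinj, QuotientGroup.mk'_surjective _⟩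
  refine Subgroup.map_injective hinj ?_
  rw [map_pLayer]
  exact (map_layer e).symm

variable {A : Subgroup G}

/-- A nontrivial normal subgroup centralising a standard subgroup makes it normal. -/
theorem normal_of_le_centralizer (hA : IsStandardSubgroup A) (hO : oddCore G = ⊥) {N : Subgroup G}
    [hN : N.Normal] (hne : N ≠ ⊥) (hle : N ≤ centralizer (A : Set G)) : A.Normal := by
  refine normalizer_eq_top_iff.1 (eq_top_iff.2 fun g _ => ?_)
  rw [hA.2.2.2]
  by_contra hg
  have h1 := hA.2.1.2 g hg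
  have h2 : N ≤ centralizer (A : Set G) ⊓ (centralizer (A : Set G)).map (MulAut.conj g).toMonoidHom :=
    le_inf hle fun n hn => ⟨g⁻¹ * n * g, hle (by simpa using hN.conj_mem n hn g⁻¹), by simp [mul_assoc]⟩
  exact hne (le_bot_iff.1 (hO ▸ PCore.le_oddCore (Odd.of_dvd_nat h1 (card_dvd_of_le h2))))

/-- An element centralising a component inside `C(A)` normalises `A`. -/
theorem mem_normalizer_of_component (hA : IsStandardSubgroup A) (hO : oddCore G = ⊥) {E : Subgroup G}
    (hE : IsComponent E) (hEA : E ≤ centralizer (A : Set G)) {d : G}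
    (hd : d ∈ centralizer (E : Set G)) : d ∈ normalizer (A : Set G) := by
  haveI : Fact (Nat.Prime 2) := ⟨Nat.prime_two⟩
  rw [hA.2.2.2]
  by_contra hg
  have h2 : E ≤ centralizer (A : Set G) ⊓ (centralizer (A : Set G)).map (MulAut.conj d).toMonoidHom :=
    le_inf hEA fun n hn => ⟨n, hEA hn, by
      simp [← (mem_centralizer_iff.1 hd) n hn, mul_assoc]⟩
  exact Nat.not_even_iff_odd.2 (Odd.of_dvd_nat (hA.2.1.2 d hg) (card_dvd_of_le h2))
    (even_iff_two_dvd.2 (IsComponent.dvd_card hO hE))

/-- **Standard subgroups centralised by an involution.** -/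
theorem classify (hFT : OddOrder.{u}) (hA : IsStandardSubgroup A) (hO : oddCore G = ⊥) (t : G)
    (ht : orderOf t = 2) (htA : t ∈ centralizer (A : Set G)) :
    A.Normal ∨ (∃ X : Subgroup G, IsSimpleGroup ↥X ∧ ¬ IsMulCommutative ↥X ∧ Nonempty (↥X ≃* ↥A) ∧
        (∀ a ∈ X, ∀ b ∈ X.map (MulAut.conj t).toMonoidHom, a * b = b * a) ∧
        X ⊓ X.map (MulAut.conj t).toMonoidHom = ⊥ ∧
        X ⊔ X.map (MulAut.conj t).toMonoidHom = layer G ∧
        centralizer (A : Set G) = zpowers t) ∨
      (A ≤ layer G ∧ IsSimpleGroup ↥(layer G) ∧ ¬ IsMulCommutative ↥(layer G)) := by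
  haveI : Fact (Nat.Prime 2) := ⟨Nat.prime_two⟩
  by_cases hAn : A.Normal
  · exact Or.inl hAn
  have hnorm : ∀ N : Subgroup G, N.Normal → N ≤ centralizer (A : Set G) → N = ⊥ :=
    fun N hN hle => not_not.1 fun hne => hAn (normal_of_le_centralizer hA hO hne hle)
  set C := centralizer ({t} : Set G) with hC
  have hAC : A ≤ C := fun a ha =>
    mem_centralizer_singleton_iff.2 (mem_centralizer_iff.1 htA a ha)
  have hCN : C ≤ normalizer (A : Set G) := by
    intro g hg
    rw [hA.2.2.2]
    by_contra hgn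
    have h1 := hA.2.1.2 g hgn
    have h2 : zpowers t ≤
        centralizer (A : Set G) ⊓ (centralizer (A : Set G)).map (MulAut.conj g).toMonoidHom :=
      zpowers_le.2 ⟨htA, t, htA, by
        simp [mem_centralizer_singleton_iff.1 hg]⟩
    have h3 := card_dvd_of_le h2
    rw [Nat.card_zpowers, ht] at h3
    exact Nat.not_even_iff_odd.2 h1 (even_iff_two_dvd.2 h3)
  have hAcomp : IsComponent (A.subgroupOf C) :=
    ⟨(normal_subgroupOf_of_le_normalizer hCN).isSubnormal, IsQuasisimple.subgroupOf_of_le hA.1 hAC⟩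
  have hAab : ¬ ⁅A, A⁆ = ⊥ := by
    rw [IsQuasisimple.commutator_self hA.1]; exact IsQuasisimple.ne_bot hA.1
  obtain ⟨D, hD, hcases⟩ :=
    ComponentOfInvolution.exists_component hFT (pLayer_eq_layer hO) t ht A hAC hAcomp
  set D' := D.map (MulAut.conj t).toMonoidHom with hD'
  have hD'c : IsComponent D' := IsComponent.conj hD t
  rcases hcases with rfl | hcases
  · -- a component that is standard is normal
    refine absurd (normalizer_eq_top_iff.1 (eq_top_iff.2 fun g _ => ?_)) hAn
    rw [mem_normalizer_iff_map_conj_eq]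
    by_contra hne
    exact hA.2.2.1 g hne (IsComponent.commutator_eq_bot hD (IsComponent.conj hD g) (Ne.symm hne))
  have hADE : A ≤ D ⊔ D' := by
    rcases hcases with ⟨h, -⟩ | ⟨-, h⟩
    · exact h.le.trans le_sup_left
    · rw [h]; exact (map_subtype_le _).trans inf_le_left
  have hDE : D ⊔ D' ≤ layer G := sup_le (IsComponent.le_layer hD) (IsComponent.le_layer hD'c)
  haveI hlayn : (layer G).Normal := ⟨fun n hn g =>
    (map_layer (MulAut.conj g : G ≃* G)) ▸ ⟨n, hn, rfl⟩⟩
  have hCE : centralizer (layer G : Set G) = ⊥ :=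
    hnorm _ inferInstance (centralizer_le (hADE.trans hDE))
  -- the centre of a component is trivial
  have hZ : ∀ E : Subgroup G, IsComponent E → ∀ z ∈ E, (∀ e ∈ E, Commute z e) → z = 1 := by
    intro E hE z hz hc
    have h1 : layer G ≤ centralizer ({z} : Set G) := sSup_le fun F hF f hf => by
      rw [mem_centralizer_singleton_iff]
      by_cases hFE : F = E
      · exact (hc f (hFE ▸ hf)).eq.symm
      · exact (mem_centralizer_iff.1 (le_centralizer_of_commutator_eq_bot
          (IsComponent.commutator_eq_bot hF hE hFE) hf) z hz).symm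
    have h2 : z ∈ centralizer (layer G : Set G) := mem_centralizer_iff.2 fun f hf =>
      mem_centralizer_singleton_iff.1 (h1 hf)
    rwa [hCE, mem_bot] at h2
  have hsimp : ∀ E : Subgroup G, IsComponent E → IsSimpleGroup ↥E := by
    intro E hE
    have hz : center ↥E = ⊥ := (eq_bot_iff_forall _).2 fun z hzc => Subtype.ext
      (hZ E hE z z.2 fun e he => congrArg Subtype.val (mem_center_iff.1 hzc ⟨e, he⟩).symm)
    haveI := hE.2.2
    exact MulEquiv.isSimpleGroup ((QuotientGroup.quotientMulEquivOfEq hz).trans QuotientGroup.quotientBot).symm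
  have hnc : ∀ E : Subgroup G, IsComponent E → ¬ IsMulCommutative ↥E := fun E hE =>
    IsQuasisimple.not_isMulCommutative hE.2
  -- other components centralise `A`, so `D` normalises `A`
  have hother : (∃ E, IsComponent E ∧ E ≠ D ∧ E ≠ D') → D ≤ normalizer (A : Set G) := by
    rintro ⟨E, hE, h1, h2⟩ d hd
    refine mem_normalizer_of_component hA hO hE ?_ (le_centralizer_of_commutator_eq_bot
      (IsComponent.commutator_eq_bot hD hE (Ne.symm h1)) hd)
    exact (le_centralizer_iff.1 (sup_le
      (le_centralizer_of_commutator_eq_bot (IsComponent.commutator_eq_bot hD hE (Ne.symm h1)))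
      (le_centralizer_of_commutator_eq_bot (IsComponent.commutator_eq_bot hD'c hE (Ne.symm h2))))).trans
      (centralizer_le hADE)
  by_cases hDt : D' = D
  · refine Or.inr (Or.inr ⟨hADE.trans hDE, ?_⟩)
    obtain ⟨hlt, -⟩ := hcases.resolve_right fun h => h.1 hDt
    have hlay : layer G = D := le_antisymm (sSup_le fun E hE => by
      by_contra hne
      rcases IsQuasisimple.eq_or_commutator_eq_bot hD.2 hlt.le (hother ⟨E, hE, fun he => hne he.le,
        fun he => hne (he.trans hDt).le⟩) with h | h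
      · exact hlt.ne h
      · exact hAab (eq_bot_iff.2 (h ▸ commutator_mono hlt.le le_rfl))) (IsComponent.le_layer hD)
    rw [hlay]
    exact ⟨hsimp D hD, hnc D hD⟩
  · refine Or.inr (Or.inl ⟨D, ?_⟩)
    have ht2 : t * t = 1 := by have := pow_orderOf_eq_one t; rwa [ht, pow_two] at this
    have hDD : ⁅D, D'⁆ = ⊥ := IsComponent.commutator_eq_bot hD hD'c (Ne.symm hDt)
    have hcomm : ∀ x ∈ D, ∀ y ∈ D', Commute x y := fun x hx y hy =>
      (mem_centralizer_iff.1 (le_centralizer_of_commutator_eq_bot hDD hx) y hy).symm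
    have hinf : D ⊓ D' = ⊥ := (eq_bot_iff_forall _).2 fun z hz =>
      hZ D hD z hz.1 fun e he => (hcomm e he z hz.2).symm
    have hconj : ∀ x ∈ D, t * x * t⁻¹ ∈ D' := fun x hx => ⟨x, hx, rfl⟩
    have huniq : ∀ x ∈ D, ∀ y ∈ D', ∀ x' ∈ D, ∀ y' ∈ D', x * y = x' * y' → x = x' ∧ y = y' := by
      intro x hx y hy x' hx' y' hy' he
      have h1 : x'⁻¹ * x = y' * y⁻¹ := by
        calc x'⁻¹ * x = x'⁻¹ * (x * y) * y⁻¹ := by group
          _ = y' * y⁻¹ := by rw [he]; group
      have h2 : x'⁻¹ * x ∈ D ⊓ D' :=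
        mem_inf.2 ⟨mul_mem (inv_mem hx') hx, h1 ▸ mul_mem hy' (inv_mem hy)⟩
      rw [hinf, mem_bot] at h2
      rw [h2, eq_comm, mul_inv_eq_one] at h1
      exact ⟨(inv_mul_eq_one.1 h2).symm, h1.symm⟩
    let φ : ↥D →* G := MonoidHom.mk' (fun x => (x : G) * (t * x * t⁻¹)) (fun x y => by
      have := (hcomm y y.2 _ (hconj x x.2)).eq
      calc ((x * y : ↥D) : G) * (t * ((x * y : ↥D) : G) * t⁻¹)
          = (x : G) * ((y : G) * (t * x * t⁻¹)) * (t * y * t⁻¹) := by
            rw [coe_mul]; group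
        _ = (x : G) * (t * x * t⁻¹) * ((y : G) * (t * y * t⁻¹)) := by rw [this]; group)
    have hti : t⁻¹ = t := inv_eq_of_mul_eq_one_right ht2
    have hAφ : A ≤ φ.range := by
      intro a ha
      have haX := hADE ha
      have hn : D' ≤ normalizer (D : Set G) := IsComponent.le_normalizer hD'c hD
      rw [← SetLike.mem_coe, coe_mul_of_right_le_normalizer_left D D' hn] at haX
      obtain ⟨x, hx, y, hy, rfl⟩ := Set.mem_mul.1 haX
      obtain ⟨y₀, hy₀, rfl⟩ := hy
      simp only [MulEquiv.coe_toMonoidHom, MulAut.conj_apply] at ha ⊢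
      have hfix := ComponentOfInvolution.mem_centralizer_t.1 (hAC ha)
      have h1 : y₀ * (t * x * t⁻¹) = x * (t * y₀ * t⁻¹) := by
        calc y₀ * (t * x * t⁻¹) = (t * x * t⁻¹) * y₀ := (hcomm _ hy₀ _ (hconj x hx)).eq
          _ = t * x * t⁻¹ * (t * t * y₀ * (t * t)⁻¹) := by rw [ht2]; group
          _ = t * (x * (t * y₀ * t⁻¹)) * t⁻¹ := by group
          _ = x * (t * y₀ * t⁻¹) := hfix
      refine ⟨⟨x, hx⟩, ?_⟩
      show x * (t * x * t⁻¹) = x * (t * y₀ * t⁻¹)
      rw [(huniq _ hy₀ _ (hconj x hx) _ hx _ (hconj y₀ hy₀) h1).2]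
    have hφinj : Function.Injective φ := fun x y he =>
      Subtype.ext (huniq x x.2 _ (hconj x x.2) y y.2 _ (hconj y y.2) he).1
    haveI := hsimp D hD
    haveI : IsSimpleGroup ↥φ.range := MulEquiv.isSimpleGroup (MonoidHom.ofInjective hφinj).symm
    have hrC : φ.range ≤ C := by
      rintro _ ⟨x, rfl⟩
      refine ComponentOfInvolution.mem_centralizer_t.2 ?_
      show t * ((x : G) * (t * x * t⁻¹)) * t⁻¹ = (x : G) * (t * x * t⁻¹)
      rw [show t * ((x : G) * (t * x * t⁻¹)) * t⁻¹ = (t * x * t⁻¹) * (t * t * x * (t * t)⁻¹) by group,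
        ht2, one_mul, inv_one, mul_one]
      exact (hcomm x x.2 _ (hconj x x.2)).eq.symm
    have hAeq : A = φ.range := by
      rcases (normal_subgroupOf_of_le_normalizer (hrC.trans hCN) :
          (A.subgroupOf φ.range).Normal).eq_bot_or_eq_top with h | h
      · exfalso
        refine IsQuasisimple.ne_bot hA.1 ((eq_bot_iff_forall A).2 fun a ha => ?_)
        have h' : (⟨a, hAφ ha⟩ : ↥φ.range) ∈ A.subgroupOf φ.range := mem_subgroupOf.2 ha
        rw [h, mem_bot] at h'
        exact congrArg Subtype.val h'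
      · exact le_antisymm hAφ (subgroupOf_eq_top.1 h)
    have hlay : D ⊔ D' = layer G := by
      refine le_antisymm hDE (sSup_le fun E hE => ?_)
      by_contra hne
      have hDN := hother ⟨E, hE, fun he => hne (he ▸ le_sup_left), fun he => hne (he ▸ le_sup_right)⟩
      refine IsComponent.ne_bot hD (eq_bot_iff.2 ?_)
      conv_lhs => rw [← IsComponent.commutator_self hD]
      refine commutator_le.2 fun d hd x hx => ?_
      have h1 : d * φ ⟨x, hx⟩ * d⁻¹ ∈ φ.range :=
        hAeq ▸ (mem_normalizer_iff.1 (hDN hd) _).1 (hAeq.symm ▸ ⟨_, rfl⟩)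
      obtain ⟨w, hw⟩ := h1
      have h2 : d * φ ⟨x, hx⟩ * d⁻¹ = (d * x * d⁻¹) * (t * x * t⁻¹) := by
        show d * (x * (t * x * t⁻¹)) * d⁻¹ = _
        rw [show d * (x * (t * x * t⁻¹)) * d⁻¹ = d * x * ((t * x * t⁻¹) * d⁻¹) by group,
          ← (hcomm d⁻¹ (inv_mem hd) _ (hconj x hx)).eq]
        group
      obtain ⟨h3, h4⟩ := huniq w w.2 _ (hconj w w.2) _
        (mul_mem (mul_mem hd hx) (inv_mem hd)) _ (hconj x hx) (hw.trans h2)
      have h5 : (w : G) = x := by simpa using h4
      rw [mem_bot, commutatorElement_eq_one_iff_mul_comm]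
      calc d * x = d * x * d⁻¹ * d := by group
        _ = x * d := by rw [← h3, h5]
    refine ⟨hsimp D hD, hnc D hD, ⟨(MonoidHom.ofInjective hφinj).trans (MulEquiv.subgroupCongr hAeq.symm)⟩,
      fun a ha b hb => (hcomm a ha b hb).eq, hinf, hlay, ?_⟩
    refine le_antisymm (fun k hk => ?_) (zpowers_le.2 htA)
    have key : ∀ k ∈ centralizer (A : Set G), D.map (MulAut.conj k).toMonoidHom = D → k = 1 := by
      intro k hk hkD
      have hkD' : ∀ y ∈ D', k * y * k⁻¹ ∈ D' := by
        have hne : D'.map (MulAut.conj k).toMonoidHom = D' := by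
          by_contra hne
          have hin : D'.map (MulAut.conj k).toMonoidHom ≤ layer G :=
            IsComponent.le_layer (IsComponent.conj hD'c k)
          obtain ⟨U, hU, hle⟩ := IsComponent.exists_le_of_le_sSup (IsComponent.conj hD'c k)
            (S := {D, D'}) (by rintro U (rfl | rfl); exacts [hD.1, hD'c.1])
            (hin.trans (hlay ▸ (sup_le (le_sSup (Or.inl rfl)) (le_sSup (Or.inr rfl)))))
          rcases hU with rfl | rfl
          · have h6 := IsComponent.eq_of_le (IsComponent.conj hD'c k) hD hle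
            rw [← hkD] at h6
            exact hDt (Subgroup.map_injective (MulAut.conj k).injective h6)
          · exact hne (IsComponent.eq_of_le (IsComponent.conj hD'c k) hD'c hle)
        exact fun y hy => hne ▸ ⟨y, hy, rfl⟩
      have hfx : ∀ x : ↥D, k * (x : G) * k⁻¹ = x ∧ k * (t * (x : G) * t⁻¹) * k⁻¹ = t * x * t⁻¹ := by
        intro x
        refine huniq _ (show k * (x : G) * k⁻¹ ∈ D from hkD.le ⟨x, x.2, rfl⟩) _ (hkD' _ (hconj x x.2)) _ x.2 _ (hconj x x.2) ?_
        have h7 : φ x ∈ A := hAeq.symm ▸ ⟨x, rfl⟩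
        have h8 : φ x * k = k * φ x := mem_centralizer_iff.1 hk _ h7
        calc k * (x : G) * k⁻¹ * (k * (t * (x : G) * t⁻¹) * k⁻¹) = k * φ x * k⁻¹ := by
              show _ = k * ((x : G) * (t * x * t⁻¹)) * k⁻¹
              group
          _ = φ x := by rw [← h8, mul_inv_cancel_right]
      have h9 : layer G ≤ centralizer ({k} : Set G) := by
        rw [← hlay]
        refine sup_le (fun x hx => ?_) ?_
        · rw [mem_centralizer_singleton_iff]
          exact (mul_inv_eq_iff_eq_mul.1 (hfx ⟨x, hx⟩).1).symm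
        · rintro _ ⟨x, hx, rfl⟩
          rw [mem_centralizer_singleton_iff]
          exact (mul_inv_eq_iff_eq_mul.1 (hfx ⟨x, hx⟩).2).symm
      have h10 : k ∈ centralizer (layer G : Set G) := mem_centralizer_iff.2 fun f hf =>
        mem_centralizer_singleton_iff.1 (h9 hf)
      rwa [hCE, mem_bot] at h10
    by_cases hkD : D.map (MulAut.conj k).toMonoidHom = D
    · rw [key k hk hkD]; exact one_mem _
    obtain ⟨U, hU, hle⟩ := IsComponent.exists_le_of_le_sSup (IsComponent.conj hD k)
      (S := {D, D'}) (by rintro U (rfl | rfl); exacts [hD.1, hD'c.1])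
      ((IsComponent.le_layer (IsComponent.conj hD k)).trans
        (hlay ▸ (sup_le (le_sSup (Or.inl rfl)) (le_sSup (Or.inr rfl)))))
    rcases hU with rfl | rfl
    · exact absurd (IsComponent.eq_of_le (IsComponent.conj hD k) hD hle) hkD
    have h11 := IsComponent.eq_of_le (IsComponent.conj hD k) hD'c hle
    have h12 : D.map (MulAut.conj (t * k)).toMonoidHom = D := by
      ext x
      constructor
      · rintro ⟨y, hy, rfl⟩
        have : k * y * k⁻¹ ∈ D' := h11 ▸ ⟨y, hy, rfl⟩
        obtain ⟨z, hz, hze⟩ := this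
        simp only [MulEquiv.coe_toMonoidHom, MulAut.conj_apply] at hze ⊢
        rw [show t * k * y * (t * k)⁻¹ = t * (k * y * k⁻¹) * t⁻¹ by group, ← hze,
          show t * (t * z * t⁻¹) * t⁻¹ = t * t * z * (t * t)⁻¹ by group, ht2, one_mul, inv_one, mul_one]
        exact hz
      · intro hx
        have : t * x * t⁻¹ ∈ D.map (MulAut.conj k).toMonoidHom := h11.symm ▸ hconj x hx
        obtain ⟨y, hy, hye⟩ := this
        simp only [MulEquiv.coe_toMonoidHom, MulAut.conj_apply] at hye
        refine ⟨y, hy, ?_⟩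
        simp only [MulEquiv.coe_toMonoidHom, MulAut.conj_apply]
        rw [show t * k * y * (t * k)⁻¹ = t * (k * y * k⁻¹) * t⁻¹ by group, hye,
          show t * (t * x * t⁻¹) * t⁻¹ = t * t * x * (t * t)⁻¹ by group, ht2, one_mul, inv_one, mul_one]
    have h13 := key _ (mul_mem htA hk) h12
    rw [eq_inv_of_mul_eq_one_right h13, inv_mem_iff]
    exact mem_zpowers t

end Cfsg.Agent.FTConsumers.StandardInvolution
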