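import Cfsg.Agent.Lib.FTConsumers.Hyp
import Cfsg.Agent.Lib.ZStar.Main
import Cfsg.Agent.Lib.PCore.Basic
import Cfsg.Agent.Lib.Solvable.Hall

/-!
# Isolated 2-elements of any order, and complements `Q` with `C_N(Q) = C_N(t)`

* `commutator_mem_oddCore_of_isolated`: a 2-element commuting with none of its other conjugates is
  central modulo the odd core.
* `commutator_le_odd`: in `G = QN`, `t ∈ Z(Q) ∩ Q'` with `C_N(Q) = C_N(t)` forces `[N, Q]` to be odd.
-/

set_option autoImplicit false
set_option linter.style.haveILetI false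

namespace Cfsg.Agent.FTConsumers

open Subgroup
open scoped commutatorElement

universe u

/-- `t` commutes with none of its other conjugates. -/
def Isolated {G : Type*} [Group G] (t : G) : Prop :=
  ∀ g : G, Commute t (g * t * g⁻¹) → g * t * g⁻¹ = t

section Isolated

variable {G : Type u} [Group G] [Finite G]

theorem Isolated.conj {t : G} (h : Isolated t) (a : G) : Isolated (a * t * a⁻¹) := by
  intro g hg
  have h1 := h (a⁻¹ * g * a) (by
    have := hg.map (MulAut.conj a⁻¹).toMonoidHom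
    convert this using 1 <;> simp [mul_assoc])
  calc g * (a * t * a⁻¹) * g⁻¹ = a * ((a⁻¹ * g * a) * t * (a⁻¹ * g * a)⁻¹) * a⁻¹ := by group
    _ = _ := by rw [h1]

/-- An isolated element of a `2`-group is central in it. -/
theorem Isolated.commute_of_isPGroup : ∀ (n : ℕ) (R : Subgroup G), Nat.card R = n → IsPGroup 2 R →
    ∀ t : G, Isolated t → t ∈ R → ∀ r ∈ R, Commute t r := by
  intro n
  induction n using Nat.strong_induction_on with
  | _ n ih =>
    intro R hn hR t hiso ht r hr
    haveI : Fact (Nat.Prime 2) := ⟨Nat.prime_two⟩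
    by_cases hz : zpowers t = R
    · rw [← hz] at hr
      obtain ⟨i, rfl⟩ := mem_zpowers_iff.1 hr
      exact (Commute.refl t).zpow_right i
    · obtain ⟨M, hMc, hM⟩ := (eq_top_or_exists_le_coatom ((zpowers t).subgroupOf R)).resolve_left
        (fun h => hz (le_antisymm (by rwa [zpowers_le]) (subgroupOf_eq_top.1 h)))
      haveI := hR.isNilpotent
      haveI hMn : M.Normal := NormalizerCondition.normal_of_coatom M Group.normalizerCondition_of_isNilpotent hMc
      set M' := M.map R.subtype with hM'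
      have htM : (⟨t, ht⟩ : R) ∈ M := hM (mem_zpowers t)
      have hlt : Nat.card M' < n := by
        rw [← hn, card_map_of_injective R.subtype_injective]
        refine lt_of_le_of_ne (card_le_card_group M) fun h => hMc.1 ?_
        exact eq_top_of_card_eq M h
      have hconj : r * t * r⁻¹ ∈ M' :=
        ⟨_, hMn.conj_mem _ htM ⟨r, hr⟩, rfl⟩
      have h1 := hiso r (ih _ hlt M' rfl (hM' ▸ (hR.to_subgroup M).map _) t hiso
        ⟨_, htM, rfl⟩ _ hconj)
      exact (mul_inv_eq_iff_eq_mul.1 h1).symm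

/-- Two conjugate isolated 2-elements centralising `s` are conjugate in `C(s)`. -/
theorem Isolated.exists_conj_in_centralizer {t t' s : G} (ht : Isolated t)
    (hp : ∃ k : ℕ, orderOf t = 2 ^ k) (hc : ∃ a : G, t' = a * t * a⁻¹) (hts : Commute t s)
    (ht's : Commute t' s) : ∃ c : G, Commute c s ∧ c * t' * c⁻¹ = t := by
  haveI : Fact (Nat.Prime 2) := ⟨Nat.prime_two⟩
  obtain ⟨a, rfl⟩ := hc
  obtain ⟨k, hk⟩ := hp
  set C := centralizer ({s} : Set G) with hC
  have hsing : ∀ x : G, Commute x s → x ∈ C := fun x hx => mem_centralizer_singleton_iff.2 hx.eq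
  have hpg : ∀ x : C, orderOf (x : G) = 2 ^ k → IsPGroup 2 (zpowers x) := fun x hx =>
    IsPGroup.of_card (n := k) (by rw [Nat.card_zpowers, ← Subgroup.orderOf_coe, hx])
  set x : C := ⟨t, hsing t hts⟩
  set y : C := ⟨a * t * a⁻¹, hsing _ ht's⟩
  obtain ⟨P, hP⟩ := (hpg x hk).exists_le_sylow
  obtain ⟨P', hP'⟩ := (hpg y (by
    show orderOf (a * t * a⁻¹) = _
    rw [← MulAut.conj_apply, MulEquiv.orderOf_eq, hk])).exists_le_sylow
  obtain ⟨c, hc⟩ := MulAction.exists_smul_eq C P' P
  have hyP : c * y * c⁻¹ ∈ (P : Subgroup C) := by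
    rw [← hc]
    exact ⟨y, hP' (mem_zpowers y), rfl⟩
  refine ⟨c, mem_centralizer_singleton_iff.1 c.2, ?_⟩
  have h1 := Isolated.commute_of_isPGroup _ ((P : Subgroup C).map C.subtype) rfl (P.2.map _) t ht
    ⟨x, hP (mem_zpowers x), rfl⟩ _ ⟨_, hyP, rfl⟩
  have e : ((c * y * c⁻¹ : C) : G) = (c * a : G) * t * (c * a : G)⁻¹ := by
    simp [y, mul_assoc]
  rw [show C.subtype (c * y * c⁻¹) = ((c * y * c⁻¹ : C) : G) from rfl, e] at h1
  have h2 := ht _ h1
  refine Eq.trans ?_ h2
  group

/-- Powers of an isolated 2-element are isolated. -/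
theorem Isolated.pow {t : G} (h : Isolated t) (hp : ∃ k : ℕ, orderOf t = 2 ^ k) (j : ℕ)
    (hj : orderOf (t ^ j) = 2) : Cfsg.IsIsolatedInvolution (t ^ j) := by
  haveI : Fact (Nat.Prime 2) := ⟨Nat.prime_two⟩
  refine ⟨hj, fun g hg => ?_⟩
  set s := t ^ j with hs
  set v := g * s * g⁻¹ with hv
  have hsq : ∀ x ∈ ({s, v} : Set G), ∀ y ∈ ({s, v} : Set G), x * y = y * x := by
    rintro x (rfl | rfl) y (rfl | rfl) <;> first | rfl | exact hg.eq | exact hg.eq.symm
  have hE : IsPGroup 2 (closure ({s, v} : Set G)) := by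
    intro x
    refine ⟨1, Subtype.ext ?_⟩
    haveI := isMulCommutative_closure hsq
    rw [pow_one]
    obtain ⟨x, hx⟩ := x
    show x ^ 2 = 1
    induction hx using closure_induction with
    | mem y hy =>
      rcases hy with rfl | rfl
      · rw [← hj, pow_orderOf_eq_one]
      · rw [hv, conj_pow, ← hj, pow_orderOf_eq_one]; group
    | one => exact one_pow 2
    | mul a b ha hb iha ihb =>
      have hab : Commute (⟨a, ha⟩ : closure ({s, v} : Set G)) ⟨b, hb⟩ := mul_comm' _ _
      have := congrArg Subtype.val (hab.mul_pow 2)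
      simp only [Subgroup.coe_pow, Subgroup.coe_mul] at this
      rw [this, iha, ihb, one_mul]
    | inv a _ iha => rw [inv_pow, iha, inv_one]
  obtain ⟨S, hS⟩ := hE.exists_le_sylow
  obtain ⟨k, hk⟩ := hp
  obtain ⟨P, hP⟩ := (IsPGroup.of_card (n := k) (by rw [Nat.card_zpowers, hk]) :
    IsPGroup 2 (zpowers t)).exists_le_sylow
  obtain ⟨a, rfl⟩ := MulAction.exists_smul_eq G P S
  set t' := a * t * a⁻¹ with ht'
  have ht'S : t' ∈ ((a • P : Sylow 2 G) : Subgroup G) := ⟨t, hP (mem_zpowers t), rfl⟩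
  have hcomm := Isolated.commute_of_isPGroup _ _ rfl (a • P : Sylow 2 G).2 t' (h.conj a) ht'S
  have hs' : t' ^ j = s := by
    obtain ⟨c, hc, hct⟩ := h.exists_conj_in_centralizer ⟨k, hk⟩ ⟨a, rfl⟩
      (Commute.self_pow t j) (hcomm s (hS (subset_closure (Or.inl rfl))))
    have h1 : c * t' ^ j * c⁻¹ = s := by rw [← conj_pow, hct]
    rw [mul_inv_eq_iff_eq_mul, ← hc.eq] at h1
    exact mul_left_cancel h1
  have hv' : t' ^ j = v := by
    have hgt : Isolated (g * t * g⁻¹) := h.conj g
    obtain ⟨c, hc, hct⟩ := hgt.exists_conj_in_centralizer (t' := t')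
      ⟨k, by rw [← MulAut.conj_apply, MulEquiv.orderOf_eq, hk]⟩ ⟨a * g⁻¹, by rw [ht']; group⟩
      (s := v) (by rw [hv, hs, ← conj_pow]; exact Commute.self_pow _ j)
      (hcomm v (hS (subset_closure (Or.inr rfl))))
    have h1 : c * t' ^ j * c⁻¹ = v := by rw [← conj_pow, hct, conj_pow, ← hs]
    rw [mul_inv_eq_iff_eq_mul, ← hc.eq] at h1
    exact mul_left_cancel h1
  exact hv'.symm.trans hs'

end Isolated

theorem mem_sup_of_pow_eq {G : Type*} [Group G] {H : Subgroup G} {t : G} {j : ℕ} {x : G}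
    (hx : x ∈ H ⊔ zpowers (t ^ j)) : x ∈ H ⊔ zpowers t :=
  sup_le_sup_left (zpowers_le.2 (pow_mem (mem_zpowers t) j)) H hx

theorem commutator_mem_oddCore_aux : ∀ (k : ℕ) (G : Type u) [Group G] [Finite G] (t : G),
    orderOf t = 2 ^ k → Isolated t → ∀ g : G, g * t * g⁻¹ * t⁻¹ ∈ Cfsg.oddCore G := by
  intro k
  induction k using Nat.strong_induction_on with
  | _ k ih =>
    intro G _ _ t hk hiso g
    haveI : Fact (Nat.Prime 2) := ⟨Nat.prime_two⟩
    rcases k with _ | k
    · rw [pow_zero, orderOf_eq_one_iff] at hk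
      simp [hk]
    set s := t ^ 2 ^ k with hs
    have hso : orderOf s = 2 := by
      rw [hs, orderOf_pow, hk, Nat.gcd_eq_right (pow_dvd_pow 2 k.le_succ),
        Nat.pow_div k.le_succ two_pos, Nat.succ_sub (le_refl k), Nat.sub_self, pow_one]
    have hZ := ZStar.inZStar (hiso.pow ⟨_, hk⟩ _ hso)
    set O := Cfsg.oddCore G with hO
    have hOn : O.Normal := inferInstance
    set π := QuotientGroup.mk' O with hπ
    -- `G = C(s) O`
    have hsup : ∀ x : G, ∃ o ∈ O, Commute (x * o) s := by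
      intro x
      have hxs : Commute (π x) (π s) := by
        have : π (x * s * x⁻¹ * s⁻¹) = 1 := (QuotientGroup.eq_one_iff _).2 (hZ x)
        rwa [map_mul, map_mul, map_mul, map_inv, map_inv, mul_inv_eq_one,
          mul_inv_eq_iff_eq_mul] at this
      obtain ⟨o, ho, hc⟩ := Coprime.exists_mul_mem_centralizer (A := zpowers s) (N := O) (k := x)
        (normalizer_eq_top (H := O) ▸ le_top)
        (by
          rw [Nat.card_zpowers, hso]
          exact (Nat.coprime_two_left).2 PCore.odd_card_oddCore)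
        (Or.inl inferInstance) (fun a ha => by
          obtain ⟨i, rfl⟩ := mem_zpowers_iff.1 ha
          rw [← QuotientGroup.eq_one_iff]
          show π (x⁻¹ * s ^ i * x * (s ^ i)⁻¹) = 1
          rw [map_mul, map_mul, map_mul, map_inv, map_inv, map_zpow]
          rw [mul_assoc _ _ (π x), ← (hxs.zpow_right i).eq, inv_mul_cancel_left, mul_inv_cancel])
      exact ⟨o, ho, (mem_centralizer_iff.1 hc s (mem_zpowers s)).symm⟩
    set C := centralizer ({s} : Set G) with hC
    have htC : t ∈ C := mem_centralizer_singleton_iff.2 (Commute.self_pow t _).eq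
    set tC : C := ⟨t, htC⟩
    set sC : C := tC ^ 2 ^ k with hsC
    set Z := zpowers sC with hZdef
    haveI : Z.Normal := by
      refine ⟨fun z hz c => ?_⟩
      obtain ⟨i, rfl⟩ := mem_zpowers_iff.1 hz
      have hc : Commute c sC := Subtype.ext (mem_centralizer_singleton_iff.1 c.2)
      rw [(hc.zpow_right i).eq, mul_inv_cancel_right]
      exact zpow_mem (mem_zpowers sC) i
    set f := QuotientGroup.mk' Z with hf
    have hdvd : orderOf (f tC) ∣ 2 ^ k := by
      rw [orderOf_dvd_iff_pow_eq_one, ← map_pow, ← hsC]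
      exact (QuotientGroup.eq_one_iff _).2 (mem_zpowers sC)
    obtain ⟨j, hj, hjo⟩ := (Nat.dvd_prime_pow Nat.prime_two).1 hdvd
    have hiso' : Isolated (f tC) := by
      intro x hx
      obtain ⟨x, rfl⟩ := QuotientGroup.mk'_surjective Z x
      rw [← map_inv, ← map_mul, ← map_mul] at hx ⊢
      set w : C := x * tC * x⁻¹ with hw
      have h1 : w * tC * w⁻¹ * tC⁻¹ ∈ Z := by
        refine (QuotientGroup.eq_one_iff _).1 (show f _ = 1 from ?_)
        rw [map_mul, map_mul, map_mul, map_inv, map_inv, hx.symm.eq, mul_inv_cancel_right,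
          mul_inv_cancel]
      have h2 : w * tC * w⁻¹ ∈ zpowers tC := by
        have := mul_mem (zpowers_le.2 (pow_mem (mem_zpowers tC) (2 ^ k)) h1) (mem_zpowers tC)
        rwa [inv_mul_cancel_right] at this
      obtain ⟨i, hi⟩ := mem_zpowers_iff.1 h2
      have h3 : Commute t ((w : G) * t * (w : G)⁻¹) := by
        have e : ((w : G) * t * (w : G)⁻¹) = t ^ i := by
          have := congrArg Subtype.val hi
          simpa using this.symm
        rw [e]
        exact (Commute.refl t).zpow_right i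
      have h4 : (w : G) * t * (w : G)⁻¹ = t := hiso _ h3
      have h5 : (w : G) = t := hiso (x : G) (mul_inv_eq_iff_eq_mul.1 h4).symm
      rw [show w = tC from Subtype.ext h5]
    have hIH := ih j (Nat.lt_succ_of_le hj) (C ⧸ Z) (f tC) hjo hiso'
    -- the preimage of the odd core of `C / Z`
    set M := (Cfsg.oddCore (C ⧸ Z)).comap f with hM
    set OC := Cfsg.oddCore C with hOC
    haveI : M.Normal := inferInstance
    have hZM : Z ≤ M := QuotientGroup.le_comap_mk' Z _
    have hMle : M ≤ OC ⊔ Z := by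
      have hsz : ∀ z : M, z * ⟨sC, hZM (mem_zpowers sC)⟩ = ⟨sC, hZM (mem_zpowers sC)⟩ * z :=
        fun z => Subtype.ext (Subtype.ext (mem_centralizer_singleton_iff.1 (z : C).2))
      have hZc : Nat.card (Z.subgroupOf M) = 2 := by
        rw [Coprime.card_subgroupOf hZM, Nat.card_zpowers, ← Subgroup.orderOf_coe]
        exact hso
      have hidx : Nat.Coprime (Nat.card (Z.subgroupOf M)) (Z.subgroupOf M).index := by
        have h1 : (Z.subgroupOf M).index = Nat.card (Cfsg.oddCore (C ⧸ Z)) := by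
          refine Nat.eq_of_mul_eq_mul_left (Nat.card_pos (α := Z.subgroupOf M)) ?_
          rw [card_mul_index, Coprime.card_subgroupOf hZM, hM, Solvable.card_comap_quotient]
        rw [hZc, h1]
        exact Nat.coprime_two_left.2 PCore.odd_card_oddCore
      obtain ⟨W, hW⟩ := exists_right_complement'_of_coprime (N := Z.subgroupOf M) hidx
      have hWn : W.Normal := by
        refine ⟨fun w hw y => ?_⟩
        obtain ⟨z, hz, v, hv, rfl⟩ := mem_sup_of_normal_left.1
          (hW.sup_eq_top ▸ mem_top y : y ∈ Z.subgroupOf M ⊔ W)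
        have hzc : Commute (v * w * v⁻¹) z := by
          obtain ⟨i, hi⟩ := mem_zpowers_iff.1 (mem_subgroupOf.1 hz)
          have e : z = (⟨sC, hZM (mem_zpowers sC)⟩ : M) ^ i := Subtype.ext (by simpa using hi.symm)
          rw [e]
          exact (show Commute _ _ from hsz _).zpow_right i
        have e : z * v * w * (z * v)⁻¹ = v * w * v⁻¹ := by
          rw [mul_inv_rev, show z * v * w * (v⁻¹ * z⁻¹) = z * (v * w * v⁻¹) * z⁻¹ by group,
            ← hzc.eq, mul_inv_cancel_right]
        rw [e]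
        exact mul_mem (mul_mem hv hw) (inv_mem hv)
      have hWodd : (Nat.card W).Coprime 2 := by
        rw [← hW.symm.index_eq_card]
        rw [hZc] at hidx
        exact hidx.symm
      haveI := hWn
      have h1 : W.map M.subtype ≤ OC :=
        (map_mono (PCore.le_pPrimeCore hWodd)).trans
          (by rw [PCore.map_pPrimeCore_subtype_of_normal]; exact inf_le_left)
      intro y hy
      have h2 : (⟨y, hy⟩ : M) ∈ W ⊔ Z.subgroupOf M := by
        rw [sup_comm, hW.sup_eq_top]
        exact mem_top _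
      have h3 := mem_map_of_mem M.subtype h2
      rw [Subgroup.map_sup, map_subgroupOf_eq_of_le hZM] at h3
      exact sup_le_sup_right h1 _ h3
    have hCO : ∀ c : C, c * tC * c⁻¹ * tC⁻¹ ∈ OC := by
      intro c
      have h1 : c * tC * c⁻¹ * tC⁻¹ ∈ M := by
        rw [hM, mem_comap]
        simpa using hIH (f c)
      have h2 : c * tC * c⁻¹ ∈ zpowers tC ⊔ OC := by
        rw [sup_comm]
        have h3 : c * tC * c⁻¹ * tC⁻¹ ∈ OC ⊔ zpowers tC :=
          mem_sup_of_pow_eq (hMle h1)
        simpa using mul_mem h3 (mem_sup_right (mem_zpowers tC))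
      have hoA : (Nat.card (zpowers tC)).Coprime (Nat.card OC) := by
        rw [Nat.card_zpowers, ← Subgroup.orderOf_coe, show ((tC : C) : G) = t from rfl, hk]
        exact Nat.Coprime.pow_left _ (Nat.coprime_two_left.2 PCore.odd_card_oddCore)
      have hoB : (Nat.card (zpowers (c * tC * c⁻¹))).Coprime (Nat.card OC) := by
        rw [Nat.card_zpowers, ← MulAut.conj_apply, MulEquiv.orderOf_eq, ← Nat.card_zpowers]
        exact hoA
      obtain ⟨o, ho, hle⟩ := Coprime.exists_le_conj_of_le_sup (A := zpowers tC) (N := OC)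
        (B := zpowers (c * tC * c⁻¹))
        (normalizer_eq_top (H := OC) ▸ le_top) (zpowers_le.2 h2) hoA hoB (Or.inl inferInstance)
      have h4 := hle (mem_zpowers (c * tC * c⁻¹))
      rw [Coprime.mem_conj_smul_iff] at h4
      obtain ⟨i, hi⟩ := mem_zpowers_iff.1 h4
      have h5 : ((o : G)⁻¹ * c) * t * ((o : G)⁻¹ * c)⁻¹ = t := by
        have e : ((o : G)⁻¹ * c) * t * ((o : G)⁻¹ * c)⁻¹ = t ^ i := by
          have := congrArg Subtype.val hi
          simpa [mul_assoc] using this.symm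
        exact hiso _ (by rw [e]; exact (Commute.refl t).zpow_right i)
      have h6 : c * tC * c⁻¹ = o * tC * o⁻¹ := by
        refine Subtype.ext ?_
        show (c : G) * t * (c : G)⁻¹ = (o : G) * t * (o : G)⁻¹
        conv_rhs => rw [← h5]
        group
      rw [h6, show o * tC * o⁻¹ * tC⁻¹ = o * (tC * o⁻¹ * tC⁻¹) by group]
      exact mul_mem ho ((inferInstance : OC.Normal).conj_mem _ (inv_mem ho) tC)
    -- into `G`
    have hqs : Function.Surjective (π.comp C.subtype) := by
      intro y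
      obtain ⟨x, rfl⟩ := QuotientGroup.mk'_surjective O y
      obtain ⟨o, ho, hc⟩ := hsup x
      refine ⟨⟨x * o, mem_centralizer_singleton_iff.2 hc.eq⟩, ?_⟩
      show π (x * o) = π x
      rw [map_mul, (QuotientGroup.eq_one_iff o).2 ho |> (fun h => (h : π o = 1)), mul_one]
    have hker : ∀ c : C, c ∈ OC → π (c : G) = 1 := by
      intro c hc
      have h1 : (π.comp C.subtype) c ∈ Cfsg.pPrimeCore 2 (G ⧸ O) :=
        PCore.map_pPrimeCore_le _ hqs ⟨c, hc, rfl⟩
      rwa [PCore.pPrimeCore_quotient_self_eq_bot, mem_bot] at h1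
    obtain ⟨o, ho, hc⟩ := hsup g
    have h1 := hker _ (hCO ⟨g * o, mem_centralizer_singleton_iff.2 hc.eq⟩)
    rw [← QuotientGroup.eq_one_iff]
    show π _ = 1
    have h2 : π o = 1 := (QuotientGroup.eq_one_iff o).2 ho
    simpa [tC, map_mul, map_inv, h2] using h1

/-- A 2-element commuting with none of its other conjugates is central modulo the odd core. -/
theorem commutator_mem_oddCore_of_isolated {G : Type u} [Group G] [Finite G] {t : G}
    (hk : ∃ k : ℕ, orderOf t = 2 ^ k) (hiso : Isolated t) (g : G) :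
    g * t * g⁻¹ * t⁻¹ ∈ Cfsg.oddCore G := by
  obtain ⟨k, hk⟩ := hk
  exact commutator_mem_oddCore_aux k G t hk hiso g

/-- The configuration `G = QN`, `t ∈ Z(Q) ∩ Q'`, `C_N(Q) = C_N(t)`. -/
theorem commutator_le_odd {G : Type u} [Group G] [Finite G] (N Q : Subgroup G) [N.Normal]
    (hG : Q ⊔ N = ⊤) (hQ : IsPGroup 2 Q) (t : G) (htZ : t ∈ Q ⊓ centralizer (Q : Set G))
    (htQ : t ∈ ⁅Q, Q⁆)
    (hC : N ⊓ centralizer (Q : Set G) = N ⊓ centralizer ({t} : Set G)) :
    Odd (Nat.card (⁅N, Q⁆ : Subgroup G)) := by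
  obtain ⟨htQ', htc⟩ := mem_inf.1 htZ
  have hct : ∀ x ∈ N, Commute x t → ∀ q ∈ Q, Commute x q := fun x hx h q hq => by
    have h1 : x ∈ N ⊓ centralizer (Q : Set G) := hC.ge ⟨hx, mem_centralizer_singleton_iff.2 h.eq⟩
    exact (mem_centralizer_iff.1 h1.2 q hq).symm
  have htq : ∀ q ∈ Q, Commute q t := fun q hq => mem_centralizer_iff.1 htc q hq
  have hiso : Isolated t := by
    intro g hg
    obtain ⟨n, hn, q, hq, rfl⟩ :=
      mem_sup_of_normal_left.1 (by rw [sup_comm, hG]; exact mem_top g : g ∈ N ⊔ Q)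
    have e : n * q * t * (n * q)⁻¹ = n * t * n⁻¹ := by
      rw [mul_inv_rev, show n * q * t * (q⁻¹ * n⁻¹) = n * (q * t * q⁻¹) * n⁻¹ by group,
        (htq q hq).eq, mul_inv_cancel_right]
    rw [e] at hg ⊢
    set t' := n * t * n⁻¹ with ht'
    set m := t⁻¹ * t' with hm
    have hmN : m ∈ N := by
      have : m = (t⁻¹ * n * t) * n⁻¹ := by rw [hm, ht']; group
      rw [this]
      exact mul_mem (by simpa using (inferInstance : N.Normal).conj_mem n hn t⁻¹) (inv_mem hn)
    have hmt : Commute m t := ((Commute.refl t).inv_left).mul_left hg.symm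
    have hmt' : Commute m t' := (hg.inv_left).mul_left (Commute.refl t')
    -- `C_N(t') = C_N(Q)^n`
    have hct' : ∀ x ∈ N, Commute x t' → ∀ q ∈ Q, Commute x (n * q * n⁻¹) := by
      intro x hx h q hq
      have h1 : Commute (n⁻¹ * x * n) t := by
        have := h.map (MulAut.conj n⁻¹).toMonoidHom
        convert this using 1 <;> simp [ht', mul_assoc]
      have h2 := hct _ (by simpa using (inferInstance : N.Normal).conj_mem x hx n⁻¹) h1 q hq
      have := h2.map (MulAut.conj n).toMonoidHom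
      convert this using 1 <;> simp [mul_assoc]
    have hqt : ∀ q ∈ Q, Commute (n * q * n⁻¹) t := by
      intro q hq
      have h1 : Commute (n * q * n⁻¹) t' := by
        have := (htq q hq).map (MulAut.conj n).toMonoidHom
        simpa [ht'] using this
      have h2 : Commute (n * q * n⁻¹) m := (hct' m hmN hmt' q hq).symm
      have : t = t' * m⁻¹ := by rw [hm]; group
      rw [this]
      exact h1.mul_right h2.inv_right
    -- the homomorphism `q ↦ q⁻¹ q^n`
    let φ : Q → G := fun q => (q : G)⁻¹ * (n * q * n⁻¹)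
    have hφN : ∀ q, φ q ∈ N := fun q => by
      show (q : G)⁻¹ * (n * q * n⁻¹) ∈ N
      rw [show (q : G)⁻¹ * (n * q * n⁻¹) = ((q : G)⁻¹ * n * q) * n⁻¹ by group]
      exact mul_mem (by simpa using (inferInstance : N.Normal).conj_mem n hn (q : G)⁻¹) (inv_mem hn)
    have hφt : ∀ q, Commute (φ q) t := fun q =>
      ((htq _ q.2).inv_left).mul_left (hqt q q.2)
    have hφQ : ∀ q, ∀ b ∈ Q, Commute (φ q) b := fun q b hb => hct _ (hφN q) (hφt q) b hb
    have hmul : ∀ a b : Q, φ (a * b) = φ a * φ b := by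
      intro a b
      show ((a * b : Q) : G)⁻¹ * (n * (a * b : Q) * n⁻¹) = φ a * φ b
      calc ((a * b : Q) : G)⁻¹ * (n * (a * b : Q) * n⁻¹)
          = (b : G)⁻¹ * φ a * (b * φ b) := by simp only [φ, coe_mul]; group
        _ = φ a * φ b := by
            rw [← ((hφQ a b b.2).inv_right).eq, mul_assoc, inv_mul_cancel_left]
    let Φ : Q →* G := MonoidHom.mk' φ hmul
    have hmΦ : Φ ⟨t, htQ'⟩ = m := rfl
    have hab : ∀ a b : Q, Commute (φ a) (φ b) := by
      intro a b
      have h1 : Commute (φ a) m := by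
        have h3 : a * (⟨t, htQ'⟩ : Q) = ⟨t, htQ'⟩ * a := Subtype.ext (htq a a.2).eq
        have := congrArg Φ h3
        rw [map_mul, map_mul, hmΦ] at this
        exact this
      have h2 : Commute (φ a) t' := by
        rw [show t' = t * m by rw [hm]; group]
        exact (hφt a).mul_right h1
      have h3 := hct' _ (hφN a) h2 b b.2
      show Commute (φ a) ((b : G)⁻¹ * (n * b * n⁻¹))
      exact ((hφQ a b b.2).inv_right).mul_right h3
    have hm1 : m = 1 := by
      have hle : ⁅(⊤ : Subgroup Q), ⊤⁆ ≤ Φ.ker := by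
        rw [commutator_le]
        intro a _ b _
        rw [MonoidHom.mem_ker, map_commutatorElement, commutatorElement_eq_one_iff_mul_comm]
        exact hab a b
      have ht : t ∈ Subgroup.map Q.subtype ⁅(⊤ : Subgroup Q), (⊤ : Subgroup Q)⁆ := by
        rw [Subgroup.map_commutator, ← MonoidHom.range_eq_map, range_subtype]
        exact htQ
      obtain ⟨x, hx, hxt⟩ := ht
      have : (⟨t, htQ'⟩ : Q) = x := Subtype.ext hxt.symm
      rw [← hmΦ, this]
      exact hle hx
    rw [hm, inv_mul_eq_one] at hm1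
    exact hm1.symm
  -- `N = C_N(Q) (O(G) ∩ N)`
  obtain ⟨k, hk⟩ := IsPGroup.iff_orderOf.1 hQ ⟨t, htQ'⟩
  rw [Subgroup.orderOf_mk] at hk
  set K := Cfsg.oddCore G ⊓ N with hK
  haveI : K.Normal := inferInstance
  have hKodd : Odd (Nat.card K) :=
    PCore.odd_card_oddCore.of_dvd_nat (card_dvd_of_le inf_le_left)
  have hle : ⁅N, Q⁆ ≤ K := by
    rw [commutator_le]
    intro n hn q hq
    have hmem : ∀ a ∈ zpowers t, n⁻¹ * a * n * a⁻¹ ∈ K := by
      intro a ha
      refine mem_inf.2 ⟨?_, ?_⟩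
      · obtain ⟨i, rfl⟩ := mem_zpowers_iff.1 ha
        have hc : Commute (QuotientGroup.mk' (Cfsg.oddCore G) n⁻¹)
            (QuotientGroup.mk' (Cfsg.oddCore G) t) := by
          have h1 : QuotientGroup.mk' (Cfsg.oddCore G) (n⁻¹ * t * n⁻¹⁻¹ * t⁻¹) = 1 :=
            (QuotientGroup.eq_one_iff _).2 (commutator_mem_oddCore_of_isolated ⟨k, hk⟩ hiso n⁻¹)
          rwa [map_mul, map_mul, map_mul, map_inv _ n⁻¹, map_inv _ t, mul_inv_eq_one,
            mul_inv_eq_iff_eq_mul] at h1
        rw [← QuotientGroup.eq_one_iff]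
        show QuotientGroup.mk' _ (n⁻¹ * t ^ i * n * (t ^ i)⁻¹) = 1
        rw [map_mul, map_mul, map_mul, map_inv _ (t ^ i), map_zpow, (hc.zpow_right i).eq,
          mul_assoc _ _ (QuotientGroup.mk' _ n), ← map_mul, inv_mul_cancel, map_one, mul_one,
          mul_inv_cancel]
      · rw [show n⁻¹ * a * n * a⁻¹ = n⁻¹ * (a * n * a⁻¹) by group]
        exact mul_mem (inv_mem hn) ((inferInstance : N.Normal).conj_mem n hn a)
    obtain ⟨o, ho, hc⟩ := Coprime.exists_mul_mem_centralizer (A := zpowers t) (N := K) (k := n)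
      (normalizer_eq_top (H := K) ▸ le_top)
      (by rw [Nat.card_zpowers, hk]; exact Nat.Coprime.pow_left _ (Nat.coprime_two_left.2 hKodd))
      (Or.inl inferInstance) hmem
    have hcq := hct _ (mul_mem hn ho.2) (mem_centralizer_iff.1 hc t (mem_zpowers t)).symm q hq
    set c := n * o with hcdef
    have e : ⁅n, q⁆ = c * (o⁻¹ * (q * o * q⁻¹)) * c⁻¹ := by
      have hn' : n = c * o⁻¹ := by rw [hcdef, mul_inv_cancel_right]
      rw [commutatorElement_def, hn']
      have h2 : c⁻¹ * q⁻¹ = q⁻¹ * c⁻¹ := (hcq.inv_inv).eq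
      calc c * o⁻¹ * q * (c * o⁻¹)⁻¹ * q⁻¹ = c * (o⁻¹ * q * o) * (c⁻¹ * q⁻¹) := by group
        _ = _ := by rw [h2]; group
    rw [e]
    exact (inferInstance : K.Normal).conj_mem _
      (mul_mem (inv_mem ho) ((inferInstance : K.Normal).conj_mem o ho q)) c
  exact hKodd.of_dvd_nat (card_dvd_of_le hle)

variable (hFT : OddOrder.{u})

include hFT

/-- S2962 given the odd order theorem. -/
theorem isSolvable_commutator {G : Type u} [Group G] [Finite G] (N Q : Subgroup G) [N.Normal]
    (hG : Q ⊔ N = ⊤) (hQ : IsPGroup 2 Q) (t : G) (htZ : t ∈ Q ⊓ centralizer (Q : Set G))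
    (htQ : t ∈ ⁅Q, Q⁆)
    (hC : N ⊓ centralizer (Q : Set G) = N ⊓ centralizer ({t} : Set G)) :
    Group.IsSolvable (⁅N, Q⁆ : Subgroup G) ∧ Odd (Nat.card (⁅N, Q⁆ : Subgroup G)) :=
  have h := commutator_le_odd N Q hG hQ t htZ htQ hC
  ⟨hFT _ h, h⟩

end Cfsg.Agent.FTConsumers
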